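import Cfsg.Agent.H23.HallS
import Cfsg.Agent.H17.Comp

/-! Permutation groups with quasisimple generalized Fitting subgroup containing a Sylow 2- or 3-subgroup:
`solv_perm`, `prim_of_three`, `alt_of_three`, `QS`, `QS.not_cent`, `QS.alt`, `QS.three`. -/

set_option autoImplicit false
set_option linter.unusedSectionVars false

namespace H23

open Subgroup Equiv Equiv.Perm MulAction H17 Cfsg
open scoped Pointwise commutatorElement

variable {Ω : Type*} [Fintype Ω] [DecidableEq Ω] {L H X : Subgroup (Perm Ω)} {t z w : Perm Ω}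

theorem solv_perm (h : Fintype.card Ω ≤ 4) : Group.IsSolvable (Perm Ω) :=
  H5.burnside_paqb_dvd (a := 3) (b := 1) Nat.prime_two Nat.prime_three (by
    rw [Nat.card_perm, Nat.card_eq_fintype_card]; exact Nat.factorial_dvd_factorial h)

theorem prim_of_three {D : Set (Perm Ω)} (hD : ∀ s ∈ D, s.support.card ≤ 3) [IsPretransitive (closure D) Ω] :
    IsPreprimitive (closure D) Ω := ⟨fun {B} hB => or_iff_not_imp_left.2 fun e => by
  obtain ⟨u, h1, v, h2, h3⟩ := Set.not_subsingleton_iff.1 e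
  have a : closure D ≤ stabilizer (Perm Ω) B := (closure_le _).2 fun s hs => by
    refine (hB.smul_eq_or_disjoint ⟨s, subset_closure hs⟩).resolve_right fun d => ?_
    have b : ∀ x ∈ B, ∀ y ∈ B, s x ≠ y := fun x hx y hy e => Set.disjoint_left.1 d (Set.smul_mem_smul_set hx) (e ▸ hy : s x ∈ B)
    have := (Finset.card_le_card (s := {u, v, s u, s v}) (by
      simp [Finset.insert_subset_iff, b u h1 u h1, b v h2 v h2])).trans (hD s hs)
    rw [Finset.card_insert_of_notMem (by simp [h3, (b u h1 u h1).symm, (b v h2 u h1).symm]),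
      Finset.card_insert_of_notMem (by simp [(b u h1 v h2).symm, (b v h2 v h2).symm]), Finset.card_pair (s.injective.ne h3)] at this
    omega
  refine Set.eq_univ_of_forall fun x => ?_
  obtain ⟨g, rfl⟩ := exists_smul_eq (closure D) u x
  exact (show g.1 • B = B from a g.2) ▸ Set.smul_mem_smul_set h1⟩

theorem alt_of_three (hL : IsQuasisimple L) (ht : t.IsThreeCycle) (hn : t ∈ normalizer (L : Set (Perm Ω)))
    (h : L ≤ closure {s | ∃ g ∈ L, s = g * t * g⁻¹}) :
    Nonempty (L ≃* alternatingGroup (Fin {x | ∃ g ∈ L, g x ≠ x}.ncard)) := by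
  classical
  obtain ⟨D, hD⟩ : ∃ D, D = {s | ∃ g ∈ L, s = g * t * g⁻¹} := ⟨_, rfl⟩
  have a0 : t ∈ D := hD ▸ ⟨1, one_mem _, by simp⟩
  obtain ⟨a, ha, a1⟩ := ht.isCycle
  have a2 : ∀ s ∈ D, s.IsThreeCycle ∧ ∀ x, s x ≠ x → x ∈ orbit (closure D) a := by
    rintro _ hs
    obtain ⟨g, hg, rfl⟩ := hD ▸ hs
    refine ⟨(cycleType_conj).trans ht, fun x hx => ?_⟩
    obtain ⟨i, e⟩ := a1 (y := g⁻¹ x) fun e => hx (by rw [Perm.mul_apply, Perm.mul_apply, e]; simp)
    exact ⟨⟨g * t ^ i, mul_mem (hD ▸ h hg) (zpow_mem (subset_closure a0) i)⟩, by simp [Subgroup.smul_def, e]⟩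
  generalize hO : orbit (closure D) a = O at a2
  have a3 : ∀ s ∈ D, ∃ s' : Perm O, ofSubtype s' = s := fun s hs => ⟨s.subtypePerm fun x => by
    by_cases e : s x = x
    · rw [e]
    · exact iff_of_true ((a2 s hs).2 _ (s.injective.ne e)) ((a2 s hs).2 _ e), ofSubtype_subtypePerm _ (a2 s hs).2⟩
  have a4 : (closure (ofSubtype ⁻¹' D : Set (Perm O))).map ofSubtype = closure D := by
    rw [MonoidHom.map_closure, Set.image_preimage_eq_of_subset a3]
  have a5 : ∀ s : Perm O, ofSubtype s ∈ D → s.IsThreeCycle := fun s hs => by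
    have := (a2 _ hs).1
    rwa [IsThreeCycle, cycleType_ofSubtype] at this
  haveI : IsPretransitive (closure (ofSubtype ⁻¹' D : Set (Perm O))) O := ⟨fun x y => by
    obtain ⟨g, hg⟩ := exists_smul_eq (closure D) (⟨x.1, hO ▸ x.2⟩ : orbit (closure D) a) ⟨y.1, hO ▸ y.2⟩
    obtain ⟨k, hk, e⟩ := a4.ge g.2
    exact ⟨⟨k, hk⟩, Subtype.ext ((ofSubtype_apply_coe k x).symm.trans (e ▸ congrArg Subtype.val hg))⟩⟩
  obtain ⟨t', rfl⟩ := a3 t a0
  have a6 : closure (ofSubtype ⁻¹' D : Set (Perm O)) = alternatingGroup O := le_antisymm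
    ((closure_le _).2 fun s hs => (a5 s hs).mem_alternatingGroup) (alternatingGroup_le_of_isPreprimitive_of_isThreeCycle_mem
      (prim_of_three fun s hs => (a5 s hs).card_support.le) (a5 _ a0) (subset_closure a0))
  rw [a6] at a4
  rw [← hD, ← a4] at h
  have a7 : (L.comap ofSubtype : Subgroup (Perm O)).map ofSubtype = L := map_comap_eq_self (h.trans (map_le_range _ _))
  have a8 := (qs_map_injective_iff ofSubtype_injective).1 (a7 ▸ hL)
  have a9 : 5 ≤ Fintype.card O := by_contra fun e => by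
    haveI := solv_perm (Ω := O) (by omega)
    exact qs_not_solvable a8 inferInstance
  haveI := alternatingGroup.isSimpleGroup (α := O) (by simpa using a9)
  have b1 : (alternatingGroup O).map ofSubtype ≤ normalizer (L : Set (Perm Ω)) := a4 ▸ (closure_le _).2 fun s hs => by
    obtain ⟨g, hg, rfl⟩ := hD ▸ hs
    exact mul_mem (mul_mem (le_normalizer hg) hn) (inv_mem (le_normalizer hg))
  have b2 : (L.comap ofSubtype : Subgroup (Perm O)) ≤ alternatingGroup O := fun g hg =>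
    (mem_map_iff_mem ofSubtype_injective).1 (h hg)
  have b3 : L = (alternatingGroup O).map ofSubtype := by
    rcases IsSimpleGroup.eq_bot_or_eq_top_of_normal ((L.comap ofSubtype).subgroupOf (alternatingGroup O)) ⟨fun x hx g => by
      simpa [mem_subgroupOf] using (mem_normalizer_iff.1 (b1 ⟨g.1, g.2, rfl⟩) _).1 hx⟩ with e | e
    · exact absurd ((subgroupOf_eq_bot.1 e).eq_bot_of_le b2) (qs_ne_bot a8)
    · rw [← a7, le_antisymm b2 (subgroupOf_eq_top.1 e)]
  have b4 : {x | ∃ g ∈ L, g x ≠ x} = O := Set.ext fun x => ⟨fun ⟨g, c1, c2⟩ => by_contra fun e => by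
    obtain ⟨k, -, rfl⟩ := h c1
    exact c2 (ofSubtype_apply_of_not_mem k e), fun e => by
    obtain ⟨y, c1, -⟩ := Wr.exists_third (α := O) (by omega) ⟨x, e⟩ ⟨x, e⟩
    obtain ⟨k, c2⟩ := exists_smul_eq (closure (ofSubtype ⁻¹' D : Set (Perm O))) (⟨x, e⟩ : O) y
    exact ⟨ofSubtype k.1, b3.ge ⟨_, a6.le k.2, rfl⟩, fun d => c1 (Subtype.ext ((congrArg Subtype.val c2).symm.trans
      ((ofSubtype_apply_coe k.1 ⟨x, e⟩).symm.trans d)))⟩⟩
  rw [b4]
  exact ⟨(MulEquiv.subgroupCongr b3).trans (((alternatingGroup _).equivMapOfInjective ofSubtype ofSubtype_injective).symm.trans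
    (Finite.equivFinOfCardEq (Nat.card_coe_set_eq O)).altCongrHom)⟩

/-- `L = F*(H)` is quasisimple -/
structure QS (L H : Subgroup (Perm Ω)) : Prop where
  qs : IsQuasisimple L
  le : L ≤ H
  nrm : H ≤ normalizer (L : Set (Perm Ω))
  cen : H ⊓ centralizer (L : Set (Perm Ω)) ≤ L

theorem QS.of (h : IsQuasisimple (generalizedFittingSubgroup H)) :
    ∃ L, QS L H ∧ Nonempty (generalizedFittingSubgroup H ≃* L) :=
  ⟨gfit H, ⟨(qs_map_injective_iff H.subtype_injective).2 h, gfit_le H, le_normalizer_map_subtype inferInstance,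
    centralizer_gfit_le H⟩, ⟨equivMapOfInjective _ _ H.subtype_injective⟩⟩

theorem QS.not_cent (h : QS L H) (h1 : z ∈ H) (h2 : z ≠ 1) (h3 : z.support.card ≤ 4) :
    z ∉ centralizer (L : Set (Perm Ω)) := fun e => by
  let S : SubMulAction L Ω := ⟨z.support, fun g x hx => by
    rw [Finset.mem_coe, mem_support] at *
    exact fun d => hx (g.1.injective ((congrArg (· x) (e g.1 g.2)).trans d))⟩
  haveI : Fintype S := Fintype.ofFinite _
  haveI := solv_perm (Ω := S) ((Fintype.card_of_subtype z.support fun _ => Iff.rfl).trans_le h3)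
  rcases qs_map (qs_top_iff.2 h.qs) (toPermHom L S) with a | a
  · exact h2 (Equiv.ext fun x => by_contra fun d => d (congrArg (fun s : Perm S => (s ⟨x, mem_support.2 d⟩).1)
      (mem_bot.1 (a.le ⟨⟨z, h.cen ⟨h1, e⟩⟩, trivial, rfl⟩))))
  · exact qs_not_solvable a inferInstance

theorem QS.le_or (h : QS L H) (h1 : X ≤ H) (h2 : L ≤ normalizer (X : Set (Perm Ω))) :
    L ≤ X ∨ X ≤ centralizer (L : Set (Perm Ω)) :=
  (qs_commutator_eq_or h.qs (h1.trans h.nrm)).imp (fun e => e.ge.trans (H18.comm_le_right h2)) fun e =>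
    le_centralizer_iff.1 (commutator_eq_bot_iff_le_centralizer.1 e)

theorem QS.cent (h : QS L H) {D : Set (Perm Ω)} (h1 : D ⊆ H) (h2 : ∀ g ∈ L, ∀ s ∈ D, g * s * g⁻¹ ∈ D)
    (h3 : ∀ s ∈ D, ∀ s' ∈ D, s * s' = s' * s) : D ⊆ centralizer (L : Set (Perm Ω)) := by
  rcases h.le_or ((closure_le _).2 h1) (H18.norm_closure h2) with a | a
  · refine absurd (fun x hx y hy => ?_) (qs_not_le_centralizer h.qs)
    exact (closure_le (centralizer {x})).2 (fun s hs => mem_centralizer_singleton_iff.2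
      (mem_centralizer_singleton_iff.1 ((closure_le (centralizer {s})).2
        (fun s' d => mem_centralizer_singleton_iff.2 (h3 _ d _ hs)) (a hx))).symm) (a hy) x rfl |>.symm
  · exact subset_closure.trans a

theorem QS.alt (h : QS L H) (h1 : t ∈ H) (ht : t.IsThreeCycle) : ∃ O : Set Ω, Nonempty (L ≃* alternatingGroup (Fin O.ncard)) ∧
    (∀ g ∈ H, ∀ x ∈ O, g x ∈ O) ∧ ∀ g ∈ H, g ≠ 1 → ∃ x ∈ O, g x ≠ x := by
  refine ⟨_, alt_of_three h.qs ht (h.nrm h1) ((h.le_or ((closure_le _).2 ?_) (H18.norm_closure ?_)).resolve_right fun e =>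
    h.not_cent h1 ht.ne_one (by rw [ht.card_support]; omega) (e (subset_closure ⟨1, one_mem _, by simp⟩))), ?_, ?_⟩
  · rintro _ ⟨g, hg, rfl⟩
    exact mul_mem (mul_mem (h.le hg) h1) (inv_mem (h.le hg))
  · rintro g hg _ ⟨k, hk, rfl⟩
    exact ⟨g * k, mul_mem hg hk, by group⟩
  · rintro g hg x ⟨k, a, b⟩
    exact ⟨g * k * g⁻¹, (mem_normalizer_iff.1 (h.nrm hg) k).1 a, by simpa using b⟩
  · intro g hg e
    by_contra! d
    have a : g ∈ L := h.cen ⟨hg, fun k hk => (Perm.Disjoint.commute fun x => or_iff_not_imp_left.2 fun c => d x ⟨k, hk, c⟩).eq⟩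
    exact e (Equiv.ext fun x => by_contra fun c => c (d x ⟨g, a, c⟩))

/-- `H` contains the products of two transpositions of the involution `w` -/
def Prs (H : Subgroup (Perm Ω)) (w : Perm Ω) : Prop :=
  (∀ a, w (w a) = a) ∧ ∀ a c, w a ≠ a → w c ≠ c → swap a (w a) * swap c (w c) ∈ H

theorem Prs.conj (h : Prs H w) {g : Perm Ω} (hg : g ∈ H) : Prs H (g * w * g⁻¹) :=
  ⟨fun a => by simp [h.1], fun a c h1 h2 => by
    obtain ⟨a, rfl⟩ := g.surjective a
    obtain ⟨c, rfl⟩ := g.surjective c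
    convert mul_mem (mul_mem hg (h.2 a c (by simpa using h1) (by simpa using h2))) (inv_mem hg) using 1
    simp [swap_apply_apply, mul_assoc]⟩

section
variable {w' : Perm Ω} (hn : ∀ t ∈ H, ¬ t.IsThreeCycle) (h : Prs H w) (h' : Prs H w') {a b c : Ω}
include hn

theorem eq_of_swaps (h1 : a ≠ b) (h2 : a ≠ c) (h3 : swap a b * swap a c ∈ H) : b = c :=
  by_contra fun e => hn _ h3 (isThreeCycle_swap_mul_swap_same h1 h2 e)

include h h'

theorem Prs.agree (h1 : w a ≠ a) (h2 : w a = w' a) (h3 : w c ≠ c) (h4 : w' c ≠ c) : w c = w' c :=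
  eq_of_swaps hn h3.symm h4.symm (by simpa [← h2, mul_assoc] using mul_mem (h.2 c a h3 h1) (h'.2 a c (h2 ▸ h1) h4))

theorem Prs.key (F : Finset Ω) (hF : 2 * F.card < w.support.card) (h1 : w' a ≠ a) (h2 : w' b ≠ b) (h3 : w (w' b) ≠ w' b)
    (h4 : ∀ u ∈ [a, w' a, b, w' b], u ∈ F ∨ w u ∈ F ∨ w u = u) (h5 : ∀ u ∈ [a, w' a, b], u ≠ w' b ∧ u ≠ w (w' b)) : False := by
  obtain ⟨c, c1, c2⟩ := Finset.exists_mem_notMem_of_card_lt_card (s := F ∪ F.image w) (t := w.support)
    (by have := Finset.card_union_le F (F.image w); have := Finset.card_image_le (s := F) (f := w); omega)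
  rw [mem_support] at c1
  have c3 : ∀ u ∈ [a, w' a, b, w' b], u ≠ c ∧ u ≠ w c := fun u hu => by
    refine ⟨?_, ?_⟩ <;> rintro rfl <;> rcases h4 _ hu with d | d | d
    · exact c2 (by simp [d])
    · exact c2 (Finset.mem_union_right _ (Finset.mem_image.2 ⟨_, d, h.1 _⟩))
    · exact c1 d
    · exact c2 (Finset.mem_union_right _ (Finset.mem_image.2 ⟨_, d, h.1 _⟩))
    · exact c2 (by simp [h.1 c ▸ d])
    · exact c1 ((h.1 c).symm.trans d).symm
  have c4 := h.2 _ c h3 c1
  have c5 : ∀ u ∈ [a, w' a, b], (swap (w' b) (w (w' b)) * swap c (w c)) u = u := fun u hu => by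
    have := c3 u (by simp at hu ⊢; tauto)
    rw [Perm.mul_apply, swap_apply_of_ne_of_ne this.1 this.2, swap_apply_of_ne_of_ne (h5 u hu).1 (h5 u hu).2]
  have c6 : (swap (w' b) (w (w' b)) * swap c (w c)) (w' b) = w (w' b) := by
    have := c3 (w' b) (by simp)
    rw [Perm.mul_apply, swap_apply_of_ne_of_ne this.1 this.2, swap_apply_left]
  generalize swap (w' b) (w (w' b)) * swap c (w c) = s at *
  have c7 := mul_mem (mul_mem c4 (h'.2 a b h1 h2)) (inv_mem c4)
  rw [show s * (swap a (w' a) * swap b (w' b)) * s⁻¹ = s * swap a (w' a) * s⁻¹ * (s * swap b (w' b) * s⁻¹) by group,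
    ← swap_apply_apply, ← swap_apply_apply, c5 a (by simp), c5 (w' a) (by simp), c5 b (by simp), c6] at c7
  exact h3 (eq_of_swaps hn h2.symm (h5 b (by simp)).2 (by simpa [mul_assoc] using mul_mem (h'.2 b a h2 h1) c7)).symm

theorem Prs.supp (h8 : 8 ≤ w.support.card) (h9 : 4 ≤ w'.support.card) (h1 : Fintype.card Ω ≤ w.support.card + 1)
    (h2 : w' a ≠ a) : w a ≠ a := fun e => by
  have b : ∀ x, x ≠ a → w x ≠ x := fun x hx d => by
    have := Finset.card_le_card (s := {x, a}) (t := w.supportᶜ) (by simp [Finset.insert_subset_iff, d, e])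
    rw [Finset.card_pair hx, Finset.card_compl] at this
    omega
  obtain ⟨y, c1, c2⟩ := Finset.exists_mem_notMem_of_card_lt_card (s := {a, w' a, w (w' a)}) (t := w'.support)
    (Finset.card_le_three.trans_lt h9)
  simp only [mem_support, Finset.mem_insert, Finset.mem_singleton, not_or] at c1 c2
  refine h.key hn h' {w' a, w' y, y} (by have := Finset.card_le_three (a := w' a) (b := w' y) (c := y); omega) (b := w' y)
    h2 (by simpa [h'.1] using c1.symm) (by simpa [h'.1] using b y c2.1) (by simp [h'.1, e]) ?_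
  simp only [h'.1, List.forall_mem_cons, List.not_mem_nil, IsEmpty.forall_iff, implies_true, and_true]
  refine ⟨⟨Ne.symm c2.1, fun d => c2.1 (w.injective (d.symm.trans e.symm))⟩, ⟨Ne.symm c2.2.1, fun d => c2.2.2 (by rw [d, h.1])⟩,
    c1, fun d => h2 (w.injective ?_)⟩
  rw [h.agree hn h' (b y c2.1) d.symm (b _ h2) (by simpa [h'.1] using h2.symm), h'.1, e]

theorem Prs.comm (h8 : 8 ≤ w.support.card) (hs : ∀ a, w' a = a ↔ w a = a) (a : Ω) : w' (w a) = w (w' a) := by
  by_cases h1 : w a = a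
  · rw [h1, (hs a).2 h1, h1]
  have h2 : w (w a) ≠ w a := w.injective.ne h1
  have h3 := mt (hs a).1 h1
  by_cases e : w a = w' a
  · rw [← h.agree hn h' h1 e h2 (mt (hs _).1 h2), e]
  by_contra d
  refine h.key hn h' {a, w' a, w' (w a)} (by have := Finset.card_le_three (a := a) (b := w' a) (c := w' (w a)); omega)
    (b := w a) h3 (mt (hs _).1 h2) (mt (hs _).2 (w'.injective.ne (mt (hs _).1 h2))) (by simp [h.1]) ?_
  simp only [List.forall_mem_cons, List.not_mem_nil, IsEmpty.forall_iff, implies_true, and_true]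
  exact ⟨⟨fun f => e (by rw [← h'.1 (w a), ← f]), fun f => mt (hs _).1 h2 (by rw [← h.1 (w' (w a)), ← f])⟩,
    ⟨w'.injective.ne (Ne.symm h1), fun f => d (by rw [f, h.1])⟩, Ne.symm (mt (hs _).1 h2),
    fun f => e (by have := w.injective f; rw [← h'.1 (w a), ← this])⟩

theorem Prs.eq (h10 : 10 ≤ w.support.card) (hs : ∀ a, w' a = a ↔ w a = a) (a : Ω) : w' a = w a := by
  by_contra e
  have h1 : w a ≠ a := fun d => e (by rw [d, (hs a).2 d])
  have h2 := mt (hs a).1 h1
  have h3 := h.comm hn h' (by omega) hs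
  obtain ⟨c, c1, c2⟩ := Finset.exists_mem_notMem_of_card_lt_card (s := {a, w' a, w a, w (w' a)}) (t := w.support)
    (Finset.card_le_four.trans_lt (by omega))
  simp only [mem_support, Finset.mem_insert, Finset.mem_singleton, not_or] at c1 c2
  refine h.key hn h' {a, w' a, w' c, c} (by have := Finset.card_le_four (a := a) (b := w' a) (c := w' c) (d := c); omega)
    (b := w' c) h2 (w'.injective.ne (mt (hs c).1 c1)) (by rwa [h'.1]) (by simp [h'.1]) ?_
  simp only [h'.1, List.forall_mem_cons, List.not_mem_nil, IsEmpty.forall_iff, implies_true, and_true]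
  exact ⟨⟨Ne.symm c2.1, fun f => c2.2.2.1 (by rw [f, h.1])⟩, ⟨Ne.symm c2.2.1, fun f => c2.2.2.2 (by rw [f, h.1])⟩,
    mt (hs c).1 c1, fun f => e (h.agree hn h' c1 f.symm h1 h2).symm⟩
end

theorem comm_swaps (h : ∀ a, w (w a) = a) (a c : Ω) : Commute (swap a (w a)) (swap c (w c)) := by
  by_cases e : c = a
  · rw [e]
  by_cases d : c = w a
  · rw [d, h, swap_comm]
  refine Perm.Disjoint.commute fun x => ?_
  by_cases f : x = c ∨ x = w c
  · refine Or.inl (swap_apply_of_ne_of_ne ?_ ?_) <;> rcases f with rfl | rfl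
    exacts [e, fun k => d (by rw [← k, h]), d, w.injective.ne e]
  · exact Or.inr (swap_apply_of_ne_of_ne (not_or.1 f).1 (not_or.1 f).2)

theorem QS.three (h : QS L H) (h1 : Prs H w) (h8 : 8 ≤ w.support.card) (h2 : w ∈ H ∨ 10 ≤ w.support.card)
    (h3 : Fintype.card Ω ≤ w.support.card + 1) : ∃ t ∈ H, t.IsThreeCycle := by
  by_contra! hn
  have a1 : ∀ g ∈ H, ∀ a, (g * w * g⁻¹) a = a ↔ w a = a := fun g hg a => by
    rw [← notMem_support, ← notMem_support, Finset.eq_of_subset_of_card_le (s := (g * w * g⁻¹).support) (t := w.support)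
      (fun x hx => mem_support.2 (h1.supp hn (h1.conj hg) h8 (by rw [card_support_conj]; omega) h3 (mem_support.1 hx)))
      card_support_conj.ge]
  have a2 : ∀ g ∈ L, ∀ a, w (g a) = g (w a) := fun g hg a => by
    rcases h2 with e | e
    · refine congrArg (· a) (h.cent (D := {s | ∃ g ∈ H, s = g * w * g⁻¹}) ?_ ?_ ?_ (a := w) ⟨1, one_mem _, by simp⟩ g hg).symm
      · rintro _ ⟨g, hg, rfl⟩
        exact mul_mem (mul_mem hg e) (inv_mem hg)
      · rintro g hg _ ⟨k, hk, rfl⟩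
        exact ⟨g * k, mul_mem (h.le hg) hk, by group⟩
      · rintro _ ⟨g, hg, rfl⟩ _ ⟨k, hk, rfl⟩
        exact Equiv.ext ((h1.conj hk).comm hn (h1.conj hg) (by rwa [card_support_conj]) fun a => (a1 g hg a).trans (a1 k hk a).symm)
    · simpa using (h1.eq hn (h1.conj (h.le hg)) e (a1 g (h.le hg)) (g a)).symm
  obtain ⟨a, b1, -⟩ := Finset.exists_mem_notMem_of_card_lt_card (s := ∅) (t := w.support) (by rw [Finset.card_empty]; omega)
  obtain ⟨c, b2, b3⟩ := Finset.exists_mem_notMem_of_card_lt_card (s := {a, w a}) (t := w.support)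
    (Finset.card_le_two.trans_lt (by omega))
  simp only [mem_support, Finset.mem_insert, Finset.mem_singleton, not_or] at b1 b2 b3
  refine h.not_cent (h1.2 a c b1 b2) (fun e => b1 ?_) ((Finset.card_le_card (support_mul_le _ _)).trans
    ((Finset.card_union_le _ _).trans (by rw [card_support_swap b1.symm, card_support_swap b2.symm])))
    (h.cent (D := {s | ∃ a c, w a ≠ a ∧ w c ≠ c ∧ s = swap a (w a) * swap c (w c)}) ?_ ?_ ?_ ⟨a, c, b1, b2, rfl⟩)
  · simpa [swap_apply_of_ne_of_ne (Ne.symm b3.1) fun d => b3.2 (by rw [d, h1.1] : c = w a)] using congrArg (· a) e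
  · rintro _ ⟨a, c, d1, d2, rfl⟩
    exact h1.2 a c d1 d2
  · rintro g hg _ ⟨a, c, d1, d2, rfl⟩
    exact ⟨g a, g c, by simpa [a2 g hg], by simpa [a2 g hg], by simp [a2 g hg, swap_apply_apply, mul_assoc]⟩
  · rintro _ ⟨a, c, -, -, rfl⟩ _ ⟨a', c', -, -, rfl⟩
    exact (((comm_swaps h1.1 _ _).mul_right (comm_swaps h1.1 _ _)).mul_left
      ((comm_swaps h1.1 _ _).mul_right (comm_swaps h1.1 _ _))).eq

/-- the permutations acting on each cycle of `w` as a power of `w` -/
def Ew (w : Perm Ω) : Subgroup (Perm Ω) where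
  carrier := {g | Commute g w ∧ ∀ x, w.SameCycle x (g x)}
  one_mem' := ⟨Commute.one_left _, fun _ => SameCycle.rfl⟩
  mul_mem' := fun h1 h2 => ⟨h1.1.mul_left h2.1, fun x => (h2.2 x).trans (h1.2 _)⟩
  inv_mem' := fun {g} h => ⟨h.1.inv_left, fun x => by simpa using (h.2 (g⁻¹ x)).symm⟩

theorem cycleOf_mem_Ew (x : Ω) : w.cycleOf x ∈ Ew w :=
  ⟨by by_cases e : w x = x
      · rw [(cycleOf_eq_one_iff w).2 e]; exact Commute.one_left _
      · exact self_mem_cycle_factors_commute (cycleOf_mem_cycleFactorsFinset_iff.2 (mem_support.2 e)),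
    fun y => by rw [cycleOf_apply]; split_ifs <;> simp [SameCycle.rfl]⟩

theorem pow_of_mem_Ew {p : ℕ} (h : w ^ p = 1) (hz : z ∈ Ew w) : z ^ p = 1 := Equiv.ext fun x => by
  obtain ⟨i, e⟩ := hz.2 x
  have : ∀ k : ℕ, (z ^ k) x = ((w ^ i) ^ k) x := fun k => by
    induction k with
    | zero => rfl
    | succ k ih => rw [pow_succ', Perm.mul_apply, ih, ← Perm.mul_apply, ((hz.1.zpow_right i).pow_right k).eq, Perm.mul_apply,
        ← e, ← Perm.mul_apply, ← pow_succ]
  rw [this, ← zpow_natCast, ← zpow_mul, mul_comm, zpow_mul, zpow_natCast, h, one_zpow]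

open H18 in
theorem exists_Ew {p : ℕ} (hp : p.Prime) {G P : Subgroup (Perm Ω)} (hP : Hall {p} P G) :
    ∃ w : Perm Ω, w ^ p = 1 ∧ w.support.card = Fintype.card Ω / p * p ∧ Ew w ⊓ G ≤ P := by
  obtain ⟨w, hw⟩ := (exists_with_cycleType_iff Ω (m := Multiset.replicate (Fintype.card Ω / p) p)).2
    ⟨by simpa using Nat.div_mul_le_self _ _, fun a ha => Multiset.eq_of_mem_replicate ha ▸ hp.two_le⟩
  have a : w ^ p = 1 := orderOf_dvd_iff_pow_eq_one.1 (by
    rw [← lcm_cycleType, hw, Multiset.lcm_dvd]; exact fun b hb => (Multiset.eq_of_mem_replicate hb).dvd)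
  obtain ⟨g, b, c⟩ := sylow_le_cj hp hP (Q := Ew w ⊓ G) (piGrp_of_isPGroup hp fun z =>
    ⟨1, Subtype.ext (by simpa using pow_of_mem_Ew a z.2.1)⟩) inf_le_right
  refine ⟨g * w * g⁻¹, by rw [conj_pow, a]; simp, by rw [card_support_conj, ← sum_cycleType, hw]; simp, fun k ⟨d, e⟩ =>
    c ⟨g⁻¹ * k * g, ⟨⟨?_, fun x => ?_⟩, G.mul_mem (G.mul_mem (G.inv_mem b) e) b⟩, by simp [mul_assoc]⟩⟩
  · simpa [Commute, SemiconjBy, mul_assoc] using congrArg (g⁻¹ * · * g) d.1.eq
  · simpa using sameCycle_conj.1 (d.2 (g x))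

end H23
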