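import Cfsg.Agent.H23.CE1

/-! Turull's top lemmas: `H23.CE.ne` (no `X`-fixed points on `V`) and `H23.CE.ce` (`X`-fixed points centralized). -/

set_option autoImplicit false

namespace H23.CE
open Cfsg H18 H19 H5 H1 Subgroup
open scoped commutatorElement ComplexConjugate

variable {G : Type*} [Group G] [Finite G] {A B D D' E H K L M N P Q S T V X Y Z : Subgroup G} {p q d r s t : ℕ}
  {χ ψ θ η ξ : G → ℂ} {g x y : G}

structure St (P D X : Subgroup G) (p d : ℕ) : Prop where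
  hX : (Nat.card X).Prime
  hP : PiGrp {p} P
  hD : PiGrp {d} D
  hdp : d ≠ p
  cP : Cop X P
  cD : Cop X D
  hDX : D ≤ C(X)
  hDP : D ≤ N(P)
  e1 : ⁅P, X⁆ = P
  der : ⁅P, P⁆ ≤ C(P) ⊓ C(D)

theorem norm_zth (h : B ≤ inertia P θ) : B ≤ N(zth P θ) := by
  have h1 := h.trans inertia_le_N
  refine norm_cm h1 h1 fun g hg => mem_N_iff_cj.2 ?_
  rw [← cfker_cfcj, cj_eq_self (h1 hg), (mem_inertia.1 (h hg)).2]

theorem bound (hP : P ⊴ L) (hψ : ψ ∈ chars L) (hθ : res P ψ ∈ irr P) (hx : x ∈ L)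
    (hc : (orderOf x).Coprime (Nat.card P)) : ‖ψ x‖ ^ 2 ≤ (zth P (res P ψ)).relIndex (P ⊓ C1(x)) := by
  have := Fintype.ofFinite G
  have h1 := H8.Glaub.ip_theta_self hP.le hP.norm hx hc rfl hψ hθ
  have h0 : ψ 1 ≠ 0 := by simpa using irr_apply_one_ne_zero hθ
  rw [H8.Glaub.ip_theta_eq_sum, Finset.sum_congr rfl (g := fun c => ((‖ψ (c * x)‖ ^ 2 : ℝ) : ℂ)) fun c hc => by
    rw [Complex.mul_conj']; simp, inv_mul_eq_one₀ (card_ne_zero _)] at h1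
  have h2 : (Nat.card ↥(P ⊓ C1(x)) : ℝ) = ∑ c ∈ els (P ⊓ C1(x)), ‖ψ (c * x)‖ ^ 2 := by exact_mod_cast h1
  have h3 : ∑ c ∈ els (zth P (res P ψ) ⊓ (P ⊓ C1(x))), ‖ψ (c * x)‖ ^ 2 ≤ ∑ c ∈ els (P ⊓ C1(x)), ‖ψ (c * x)‖ ^ 2 :=
    Finset.sum_le_sum_of_subset_of_nonneg (fun c hc => mem_els.2 (mem_els.1 hc).2) fun _ _ _ => by positivity
  rw [← h2, Finset.sum_congr rfl (g := fun _ => ‖ψ x‖ ^ 2) fun c hc => by
      have h2 := norm_of_mem_zth hθ (mem_els.1 hc).1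
      rw [res_of_mem _ (mem_els.1 hc).2.1, res_one] at h2
      rw [norm_mul_of_norm hψ h0 (hP.le (mem_els.1 hc).2.1) h2],
    Finset.sum_const, card_els, nsmul_eq_mul, ← card_mul_relIndex' (A := zth P (res P ψ)) (B := P ⊓ C1(x)), Nat.cast_mul] at h3
  exact le_of_mul_le_mul_left h3 (card_posR _)

theorem fin_le (h1 : D ≤ N(K)) (h2 : S ≤ N(K)) (e2 : ⁅P, D⁆ = P) (e3 : D ≤ ⁅D, S⁆ ⊔ (D ⊓ C(P)))
    (h : ⁅P, ⁅D, S⁆⁆ ≤ K) : P ≤ K :=
  e2.ge.trans ((comm_mono le_rfl e3).trans (comm_sup_le' h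
    ((comm_eq_bot_iff.2 (cent_symm inf_le_right)).le.trans bot_le) (comm_le_of_le h1 h2) (inf_le_left.trans h1)))

theorem ker_of_vanish (hχ : χ ∈ chars L) (c : Cop X M) (hB : B ≤ M) (hM : M ≤ L) (h0 : ∀ g, g ∉ M → χ g = 0)
    (h : Fx X B χ) : B ≤ charKer χ := fun b hb => by
  classical
  have a : ∀ b ∈ M, ∑ x ∈ els X, χ (x * b) = χ b := fun b hb => by
    rw [H1.sum_els_erase, one_mul, Finset.sum_eq_zero fun x hx => h0 _ fun e => ?_, add_zero]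
    have : x ∈ X ⊓ M := ⟨mem_els.1 (Finset.mem_of_mem_erase hx), (M.mul_mem_cancel_right hb).1 e⟩
    rw [c.inf_eq_bot, mem_bot] at this
    exact Finset.ne_of_mem_erase hx this
  have a1 := a 1 M.one_mem
  simp only [mul_one] at a1
  rw [H1.mem_charKer_iff hχ (hM (hB hb)), ← a b (hB hb), h b hb, a1]

namespace St
theorem mono (h : St P D X p d) (hD : D' ≤ D) : St P D' X p d :=
  ⟨h.hX, h.hP, h.hD.of_le hD, h.hdp, h.cP, h.cD.sub hD (cent_norm (cent_symm (hD.trans h.hDX))), hD.trans h.hDX,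
    hD.trans h.hDP, h.e1, h.der.trans (inf_le_inf_left _ (C_anti hD))⟩
theorem cDP (h : St P D X p d) : Cop D P := cop_of_pi h.hDP h.hD (h.hP.p'_of_ne h.hdp.symm) (Or.inl h.hD.solv)
theorem cent (h : St P D X p d) : P ⊓ C(X) ≤ ⁅P, P⁆ := h.cP.cent_le_of_comm_eq h.e1
theorem der_z (h : St P D X p d) (hθ : θ ∈ irr P) : ⁅P, P⁆ ≤ zth P θ :=
  le_zth hθ der_le ((comm_eq_bot_iff.2 (h.der.trans inf_le_left)).le.trans bot_le)
theorem dinv (h : St P D X p d) (hθ : θ ∈ irr P) (hi : X ≤ inertia P θ) : D ≤ inertia P θ :=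
  inv h.hX h.cP hθ hi h.hDP (cent_norm h.hDX) (h.cent.trans (h.der.trans inf_le_right))
theorem copA (h : St P D X p d) : (Nat.card P).Coprime (Nat.card ↥(D ⊔ X)) :=
  (h.cDP.cop.symm.mul_right h.cP.cop.symm).coprime_dvd_right (Nrm2.card_sup_dvd (Or.inr h.cD.norm))

theorem lin (h : St P D X p d) (hθ : θ ∈ irr P) (hi : X ≤ inertia P θ) (h1 : θ 1 = 1) : P ≤ cfker P θ := by
  have := Fintype.ofFinite G
  refine h.e1.ge.trans (commutator_le.2 fun u hu x hx => ?_)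
  have e : ⁅u, x⁆ = u * (x * u⁻¹ * x⁻¹) := by rw [commutatorElement_def]; group
  have a := conj_mem h.cP.norm hx (inv_mem hu)
  refine (mem_cfker_of_irr hθ).2 ⟨e ▸ mul_mem hu a, ?_⟩
  rw [e, lin_mul (chars_of_irr hθ) h1 hu a, ← (mem_inertia.1 (hi hx)).2, cfcj_conj, (mem_inertia.1 (hi hx)).2,
    ← lin_mul (chars_of_irr hθ) h1 hu (inv_mem hu), mul_inv_cancel]

theorem deg2 (h : St P D X p d) (hθ : θ ∈ irr P) : ∃ b : ℕ, b ^ 2 = (zth P θ).relIndex (P ⊓ C(D)) := by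
  have := Fintype.ofFinite G
  have hC : P ⊓ C(D) ≤ P := inf_le_left
  obtain ⟨β, hβ, h1⟩ := exists_irr_under hC (chars_of_irr hθ) (irr_ne_zero hθ)
  obtain ⟨b, -, hb⟩ := irr_exists_apply_one hβ
  have hK := (cfker_nml (cf_of_irr hθ)).norm
  have a1 : ⁅P ⊓ C(D), P ⊓ C(D)⁆ ≤ zth _ β := le_zth hβ der_le
    ((comm_eq_bot_iff.2 (cent_mono (h.der.trans inf_le_left) (der_mono hC) hC)).le.trans bot_le)
  refine ⟨b, (sq_deg hβ a1 hb).trans ?_⟩
  rw [← relIndex_inf_right (A := zth P θ)]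
  congr 1
  refine le_antisymm (le_inf (le_zth hθ (cm_le.trans hC) ?_) cm_le) (le_zth hβ inf_le_right
    (le_cfker_of_under hC hβ (chars_of_irr hθ) h1 (comm_le_of_le inf_le_right le_rfl)
      ((comm_mono inf_le_left hC).trans (comm_zth_le hθ))))
  have a2 : ⁅zth _ β, P ⊓ C(D)⁆ ≤ cfker P θ := (sub_cfker_constt hC (cent_norm (cent_symm
    ((comm_mono (cm_le.trans hC) hC).trans (h.der.trans inf_le_left)))) (comm_le_of_le cm_le le_rfl) hβ hθ h1).2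
      (comm_zth_le hβ)
  have a3 : ⁅⁅P, D⁆, P ⊓ C(D)⁆ = ⊥ := three_subgroup
    (by rw [comm_eq_bot_iff.2 (cent_symm (inf_le_right (a := P) (b := C(D))))]; simp)
    (comm_eq_bot_iff.2 ((comm_mono hC le_rfl).trans (h.der.trans inf_le_right)))
  refine (comm_mono le_rfl h.cDP.comm_sup.ge).trans (comm_sup_le' ?_ a2 ((comm_le_left h.hDP).trans hK) (hC.trans hK))
  rw [comm_comm]
  exact ((comm_mono le_rfl cm_le).trans a3.le).trans bot_le

theorem absx (h : St P D X p d) (hP : P ⊴ L) (hψ : ψ ∈ chars L) (hθ : res P ψ ∈ irr P) (hX : X ≤ L) (hD : D ≤ L)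
    (hx : x ∈ X) (hx1 : x ≠ 1) (hy : y ∈ D) : ‖ψ (x * y)‖ = 1 := by
  refine abs1 hP hψ hθ (mul_mem (hX hx) (hD hy)) (h.copA.symm.coprime_dvd_left (orderOf_dvd_card
    (mul_mem (mem_sup_right hx) (mem_sup_left hy)))) (le_trans (inf_le_inf_left _ ?_) (h.cent.trans (h.der_z hθ)))
  have c : Commute x y := (comm_of_cent h.hDX hy hx).symm
  refine (C1_pow_le (Nat.card D)).trans ?_
  rw [c.mul_pow, H18.pow_card_eq_one_of_mem hy, mul_one, C1_eq_of_prime h.hX (pow_mem hx _) fun e => hx1 ?_]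
  exact orderOf_eq_one_iff.1 ((Nat.coprime_self _).1 ((h.cD.cop.coprime_dvd_left (orderOf_dvd_card hx)).coprime_dvd_right
    (orderOf_dvd_of_pow_eq_one e)))

theorem ineq (h : St P D X p d) (hP : P ⊴ L) (hψ : ψ ∈ chars L) (hθ : res P ψ ∈ irr P) (hX : X ≤ L) (hD : D ≤ L)
    (hq : ψ 1 = q) (f : Fx X D ψ) (hy : y ∈ D) : (q : ℝ) + 2 ≤ ‖ψ y‖ + 2 * Nat.card X := by
  classical
  have a : ∀ y ∈ D, ‖∑ x ∈ (els X).erase 1, ψ (x * y)‖ + 1 ≤ Nat.card X := fun y hy => by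
    have a1 := norm_sum_le ((els X).erase 1) fun x => ψ (x * y)
    rw [Finset.sum_congr rfl fun x hx => h.absx hP hψ hθ hX hD (mem_els.1 (Finset.mem_of_mem_erase hx))
      (Finset.ne_of_mem_erase hx) hy, Finset.sum_const, nsmul_eq_mul, mul_one] at a1
    have a2 := Finset.card_erase_add_one (mem_els.2 X.one_mem)
    rw [card_els] at a2
    rw [← a2]; push_cast; linarith
  have a1 := f y hy
  have a2 := a 1 D.one_mem
  simp only [mul_one] at a2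
  rw [← Finset.add_sum_erase _ _ (mem_els.2 X.one_mem), ← Finset.add_sum_erase _ _ (mem_els.2 X.one_mem), one_mul, hq] at a1
  have a3 := a y hy
  have a4 : ‖(q : ℂ)‖ ≤ ‖ψ y‖ + ‖∑ x ∈ (els X).erase 1, ψ (x * y)‖ + ‖∑ x ∈ (els X).erase 1, ψ x‖ := by
    rw [eq_sub_iff_add_eq.2 a1.symm]
    exact (norm_sub_le _ _).trans (add_le_add_left (norm_add_le _ _) _)
  rw [Complex.norm_natCast] at a4
  linarith

theorem keyA (h : St P D X p d) (hP : P ⊴ L) (hψ : ψ ∈ chars L) (hθ : res P ψ ∈ irr P) (hX : X ≤ L) (hy : y ∈ D)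
    (hL : y ∈ L) (hq : ψ 1 = q) (hi : (q : ℝ) + 2 ≤ ‖ψ y‖ + 2 * Nat.card X) :
    ⁅P, zpowers y⁆ ≤ zth P (res P ψ) ∨ P ⊓ C1(y) ≤ zth P (res P ψ) := by
  have hY := zpowers_le_of_mem hy
  have h' := h.mono hY
  have nZ : L ≤ N(zth P (res P ψ)) := norm_zth (le_inertia_res (cf_of_chars hψ) hP.norm)
  have nY := (zpowers_le_of_mem hL).trans nZ
  obtain ⟨b, hb⟩ := h'.deg2 hθ
  have a1 := sq_deg hθ (h.der_z hθ) (d := q) (by rw [res_one, hq])
  have a2 := bound hP hψ hθ hL (h'.cDP.cop.coprime_dvd_left (orderOf_dvd_card (mem_zpowers y)))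
  have n := zth_nml hθ
  have hXZ := h.cent.trans (h.der_z hθ)
  generalize zth P (res P ψ) = Z at *
  rw [← C_zpowers] at a2 ⊢
  by_cases e : b = q
  · have a3 := relIndex_tower (le_sup_right (a := P ⊓ C(zpowers y))) (sup_le inf_le_left n.le)
    rw [relIndex_sup_of_norm (inf_le_left.trans n.norm), ← hb, ← a1, e, mul_eq_left₀ (a1 ▸ relIndex_ne_zero),
      relIndex_eq_one_iff] at a3
    exact Or.inl ((comm_mono a3 le_rfl).trans (comm_sup_le ((comm_eq_bot_iff.2 inf_le_right).le.trans bot_le)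
      (comm_le_left nY) (inf_le_left.trans n.norm) le_N))
  have hy1 : zpowers y ≠ ⊥ := fun c => e (by
    rw [c, C_bot, inf_top_eq, ← a1] at hb
    exact Nat.pow_left_injective two_ne_zero hb)
  have hd := h'.hD.prime hy1
  have hdP : ¬ d ∣ Nat.card P := h.hP.not_dvd hd h.hdp
  have hr : ¬ Nat.card X ∣ Nat.card P := (Nat.Prime.coprime_iff_not_dvd h.hX).1 h.cP.cop
  have hXp := piGrp_of_prime h.hX rfl
  have b1 := cong hXp h.hX h.cP.norm (hX.trans nZ) hr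
  have b2 := cong hXp h.hX (norm_inf h.cP.norm (norm_C h'.cD.norm)) (hX.trans nZ)
    fun c => hr (c.trans (card_dvd inf_le_left))
  have b3 := cong h'.hD hd h'.hDP nY hdP
  rw [relIndex_eq_one_iff.2 hXZ, ← a1] at b1
  rw [relIndex_eq_one_iff.2 ((inf_le_inf_right _ inf_le_left).trans hXZ), ← hb] at b2
  rw [← a1, ← hb] at b3
  have b4 : b ^ 2 ∣ q ^ 2 := by rw [a1, hb]; exact n.relIndex_dvd inf_le_left
  rw [← hb] at a2
  have b5 : ‖ψ y‖ ≤ b := by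
    refine (pow_le_pow_iff_left₀ (norm_nonneg _) (Nat.cast_nonneg b) two_ne_zero).1 ?_
    exact_mod_cast a2
  have b6 := arith h.hX hd (fun c => (Nat.Prime.coprime_iff_not_dvd h.hX).1 h'.cD.cop (c ▸ h'.hD.dvd_card hy1))
    ((Nat.pow_dvd_pow_iff two_ne_zero).1 b4) e (Nat.pos_of_ne_zero fun c => H18.relIndex_ne_zero (a1.symm.trans (by simp [c])))
    (fun c => hdP ((c.trans (dvd_pow_self b two_ne_zero)).trans (b4.trans (a1 ▸ relIndex_dvd)))) b1 b2 b3 (by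
      have : (q : ℝ) + 2 ≤ b + 2 * Nat.card X := by linarith
      exact_mod_cast this)
  rw [b6, one_pow, eq_comm, relIndex_eq_one_iff] at hb
  exact Or.inr hb

theorem keyB (h : St P D X p d) (hD : Abel D) (hP : P ⊴ L) (hψ : ψ ∈ chars L) (hθ : res P ψ ∈ irr P) (hX : X ≤ L)
    (hL : D ≤ L) (hq : ψ 1 = q) (h1 : 1 < q) (hi : ∀ y ∈ D, (q : ℝ) + 2 ≤ ‖ψ y‖ + 2 * Nat.card X) :
    (cm D P (zth P (res P ψ))).relIndex D * Nat.card X ≤ q + 1 := by
  have nZ : L ≤ N(zth P (res P ψ)) := norm_zth (le_inertia_res (cf_of_chars hψ) hP.norm)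
  have a1 := card_le_of_abs1 (hD.sup (abel_of_prime h.hX) h.hDX) hψ (sup_le hL hX)
    (cm_le.trans le_sup_left : cm D P (zth P (res P ψ)) ≤ _) hq h1 fun a ha ha' => by
      obtain ⟨y, hy, x, hx, rfl⟩ := (mem_sup_of_cent h.hDX).1 ha
      by_cases hx1 : x = 1
      · subst hx1
        rw [mul_one] at ha' ⊢
        refine abs1 hP hψ hθ (hL hy) (h.cDP.cop.coprime_dvd_left (orderOf_dvd_card hy))
          ((h.keyA hP hψ hθ hX hy (hL hy) hq (hi y hy)).resolve_left fun c => ha' ?_)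
        exact le_cm (hL.trans nZ) (hP.le.trans nZ) (zpowers_le_of_mem hy) (comm_comm.le.trans c) (mem_zpowers y)
      · rw [comm_of_cent h.hDX hy hx]; exact h.absx hP hψ hθ hX hL hx hx1 hy
  rwa [← relIndex_tower cm_le le_sup_left, Nrm2.relIndex_sup' (Or.inr h.cD.norm), ← relIndex_inf_right (A := D) (B := X),
    h.cD.inf_eq_bot', relIndex_bot_left] at a1

theorem ext (h : St P D X p d) (hD : Abel D) (hθ : θ ∈ irr P) (hi : X ≤ inertia P θ) :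
    ∃ ψ ∈ irr (P ⊔ (D ⊔ X)), res P ψ = θ := by
  have := Fintype.ofFinite G
  obtain ⟨ψ, hψ, h1⟩ := exists_irr_over (le_sup_left (b := D ⊔ X)) hθ
  exact ⟨ψ, hψ, res_eq_of_abel (sup_le (h.dinv hθ hi) hi) h.copA (hD.sup (abel_of_prime h.hX) h.hDX) hψ hθ h1⟩

theorem deg_one (h : St P D X p d) (hθ : θ ∈ irr P) (hz : P ≤ zth P θ) : θ 1 = 1 := by
  obtain ⟨q, -, hq⟩ := irr_exists_apply_one hθ
  have := sq_deg hθ (h.der_z hθ) hq
  rw [relIndex_eq_one_iff.2 hz, Nat.pow_eq_one] at this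
  rw [hq, this.resolve_right two_ne_zero, Nat.cast_one]

theorem ne_irr (h : St P D X p d) (e2 : ⁅P, D⁆ = P) (hχ : χ ∈ irr (P ⊔ X)) (hs : ∑ x ∈ els X, χ x = 0) : P ≤ charKer χ := by
  have := Fintype.ofFinite G
  have n : P ⊴ P ⊔ X := nml_sup_left h.cP.norm
  obtain ⟨θ, hθ, h1, hi⟩ | h0 := dich h.hX h.cP Nml.rfl h.cP.norm hχ
  swap
  · classical
    rw [H1.sum_els_erase, Finset.sum_eq_zero fun x hx => h0 _ fun e => ?_, add_zero] at hs
    · exact absurd hs (irr_apply_one_ne_zero hχ)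
    have : x ∈ X ⊓ P := ⟨mem_els.1 (Finset.mem_of_mem_erase hx), e⟩
    rw [h.cP.inf_eq_bot, mem_bot] at this
    exact Finset.ne_of_mem_erase hx this
  refine fun x hx => ((sub_cfker_constt n.le n.norm le_rfl hθ hχ h1).2 (h.lin hθ hi ?_) hx).2
  have e := res_eq_of_abel hi h.cP.cop.symm (abel_of_prime h.hX) hχ hθ h1
  obtain ⟨q, hq0, hq⟩ := irr_exists_apply_one hθ
  have hχ1 : χ 1 = q := by rw [← hq, ← e, res_one]
  rcases deg_of_sum_eq_zero (abel_of_prime h.hX) (ne_bot_of_prime h.hX) (chars_of_irr hχ) le_sup_right hχ1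
    (fun x hx hx1 => by
      simpa using (h.mono bot_le).absx n (chars_of_irr hχ) (e ▸ hθ) le_sup_right bot_le hx hx1 (one_mem _)) hs with c | c
  · rw [hq, c, Nat.cast_one]
  by_cases h2 : q = 1
  · rw [hq, h2, Nat.cast_one]
  have nZ := norm_zth (h.dinv hθ hi)
  have nP := (zth_nml hθ).norm
  refine h.deg_one hθ (e2.ge.trans (comm_comm.le.trans (commutator_le.2 fun y hy u hu => ?_)))
  have h' := h.mono (zpowers_le_of_mem hy)
  obtain ⟨ψ, hψ, e'⟩ := h'.ext abel_zpowers hθ hi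
  have a1 := h'.keyB abel_zpowers (nml_sup_left (sup_le h'.hDP h.cP.norm)) (chars_of_irr hψ) (e' ▸ hθ)
    (le_sup_right.trans le_sup_right) (le_sup_left.trans le_sup_right) (q := q) (by rw [← hq, ← e', res_one]) (by omega)
    fun y _ => by
      rw [← c]; push_cast
      have := norm_nonneg (ψ y)
      have : (0 : ℝ) ≤ q := Nat.cast_nonneg q
      linarith
  rw [e', c] at a1
  have a2 := Nat.le_of_mul_le_mul_right (a1.trans (one_mul _).ge) h.hX.pos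
  have a3 := relIndex_eq_one_iff.1 (le_antisymm a2 relIndex_pos) (mem_zpowers y)
  exact ((mem_cm ((zpowers_le_of_mem hy).trans nZ) nP).1 a3).2 u hu

theorem core (h : St P D X p d) (hSP : S ≤ inertia P θ) (hSD : S ≤ N(D)) (hθ : θ ∈ irr P) (hi : X ≤ inertia P θ)
    (hξ : ξ ∈ chars L) (hP : P ≤ L) (hD : D ≤ L) (hX : X ≤ L) {c : ℂ} (hc : res P ξ = c • θ) (h0 : ξ ≠ 0)
    (f : Fx X D ξ) : ⁅P, ⁅D, S⁆⁆ ≤ zth P θ := by
  have := Fintype.ofFinite G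
  have nD := norm_zth (h.dinv hθ hi)
  have nS := norm_zth hSP
  have nP := (zth_nml hθ).norm
  obtain ⟨q, hq0, hq⟩ := irr_exists_apply_one hθ
  by_cases h2 : q = 1
  · have := sq_deg hθ (h.der_z hθ) hq
    rw [h2, one_pow, eq_comm, relIndex_eq_one_iff] at this
    exact (comm_le_left (comm_le_of_le h.hDP (hSP.trans inertia_le_N))).trans this
  rw [comm_le_iff_quo nP (comm_le_of_le nD nS), mim_comm nD nS]
  refine cent_symm (gen ((abel_quo_iff nP).2 (h.der_z hθ)) (mim_norm h.hDP) (mim_norm (hSP.trans inertia_le_N))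
    (mim_norm hSD) fun a ha => ?_)
  obtain ⟨y, hy, rfl⟩ := (mem_quo nD).1 ha
  have hY := zpowers_le_of_mem hy
  have h' := h.mono hY
  have l : P ⊔ (zpowers y ⊔ X) ≤ L := sup_le hP (sup_le (hY.trans hD) hX)
  have n : P ⊴ P ⊔ (zpowers y ⊔ X) := nml_sup_left (sup_le h'.hDP h.cP.norm)
  have lX : X ≤ P ⊔ (zpowers y ⊔ X) := le_sup_right.trans le_sup_right
  have lY : zpowers y ≤ P ⊔ (zpowers y ⊔ X) := le_sup_left.trans le_sup_right
  obtain ⟨ψ, hψ, h1⟩ := exists_irr_under l hξ h0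
  obtain ⟨β, hβ, h3⟩ := exists_irr_under n.le (chars_of_irr hψ) (irr_ne_zero hψ)
  have h4 : ip (P ⊔ (zpowers y ⊔ X)) (res (P ⊔ (zpowers y ⊔ X)) ξ) ψ ≠ 0 := by
    rw [ip_res_left (irr_supp hψ)]; exact ip_ne_zero_comm.1 h1
  have h5 := ip_ne_zero_trans n.le (chars_of_irr hβ) (res_mem_chars l hξ) hψ h4 h3
  rw [← ip_res_right (irr_supp hβ), res_res n.le, hc, ip_smul_right] at h5
  obtain rfl := irr_eq_of_ip_ne_zero hβ hθ (right_ne_zero_of_mul h5)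
  have e := res_eq_of_abel (sup_le (h'.dinv hθ hi) hi) h'.copA (abel_zpowers.sup (abel_of_prime h.hX) h'.hDX) hψ hθ h3
  have hψc := chars_of_irr hψ
  have f' : Fx X (zpowers y) ψ := ((f.mono hY).res lX lY).sub hψc (chars_sub_irr (res_mem_chars l hξ) hψ h4) lX lY
    (cent_norm h'.hDX)
  have hψ1 : ψ 1 = q := by rw [← hq, ← e, res_one]
  have i := fun z hz => h'.ineq n hψc (e ▸ hθ) lX lY hψ1 f' (y := z) hz
  have k : ∀ {z}, z ∈ zpowers y → ⁅P, zpowers z⁆ ≤ zth P β → cs (zth P β) z ∈ C(P ⫽ zth P β) := fun {z} hz c => by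
    have nz := (zpowers_le_of_mem hz).trans (hY.trans nD)
    rw [comm_le_iff_quo nP nz] at c
    exact cent_symm c (mfun_mem_mim (mem_zpowers z))
  have a1 := h'.keyA n hψc (e ▸ hθ) lX (mem_zpowers y) (lY (mem_zpowers y)) hψ1 (i y (mem_zpowers y))
  rw [e] at a1
  refine a1.imp (k (mem_zpowers y)) fun a1 => ⟨?_, ?_⟩
  · rw [← C_zpowers, ← mim_zpowers (nD hy)]
    exact h'.cDP.quo_cent_eq_bot (hY.trans nD) nP (by rwa [C_zpowers])
  have a2 := h'.keyB abel_zpowers n hψc (e ▸ hθ) lX lY hψ1 (by omega) i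
  have a3 := i y (mem_zpowers y)
  rw [abs1 n hψc (e ▸ hθ) (lY (mem_zpowers y)) (h.cDP.cop.coprime_dvd_left (orderOf_dvd_card hy)) (e ▸ a1)] at a3
  have a4 : q + 1 ≤ 2 * Nat.card X := by
    have : (q : ℝ) + 1 ≤ 2 * Nat.card X := by linarith
    exact_mod_cast this
  have a5 := Nat.le_of_mul_le_mul_right (a2.trans a4) h.hX.pos
  rw [e] at a5
  have a6 := H8.pow_relIndex_mem (abel_zpowers.norm (cm_le (H := zpowers y) (A := P) (K := zth P β))) (mem_zpowers y)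
  have a7 : y ^ 2 ∈ cm (zpowers y) P (zth P β) := by
    have := relIndex_pos (A := cm (zpowers y) P (zth P β)) (B := zpowers y)
    obtain c | c : (cm (zpowers y) P (zth P β)).relIndex (zpowers y) = 1 ∨
      (cm (zpowers y) P (zth P β)).relIndex (zpowers y) = 2 := by omega
    · rw [c, pow_one] at a6; exact pow_mem a6 2
    · rwa [c] at a6
  rw [← mfun_pow (nD hy)]
  exact k a7.1 ((comm_mono le_rfl (zpowers_le_of_mem a7)).trans (comm_cm_le' (hY.trans nD) nP))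

end St

theorem St.mk' (hX : (Nat.card X).Prime) (hP : PiGrp {p} P) (hD : PiGrp {d} D) (hdp : d ≠ p) (cP : Cop X P) (cD : Cop X D)
    (hDX : D ≤ C(X)) (hDP : D ≤ N(P)) (e1 : ⁅P, X⁆ = P) (hΦ : Φ(P) ≤ C(P) ⊓ C(D)) : St P D X p d :=
  ⟨hX, hP, hD, hdp, cP, cD, hDX, hDP, e1, hP.nil.der_le_phi.trans hΦ⟩

theorem ne (hX : (Nat.card X).Prime) (hP : PiGrp {p} P) (hD : PiGrp {d} D) (hdp : d ≠ p) (cP : Cop X P) (cD : Cop X D)
    (hDX : D ≤ C(X)) (hDP : D ≤ N(P)) (e1 : ⁅P, X⁆ = P) (e2 : ⁅P, D⁆ = P) (hΦ : Φ(P) ≤ C(P) ⊓ C(D)) (ht : t.Prime)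
    (hV : Elem t V) (htp : t ≠ p) (cV : Cop X V) (hPV : P ≤ N(V)) (h0 : V ⊓ C(X) = ⊥) : P ≤ C(V) := by
  have h := St.mk' hX hP hD hdp cP cD hDX hDP e1 hΦ
  have hc2 : (Nat.card V).Coprime (Nat.card P) := (hV.pi ht).coprime (hP.p'_of_ne htp.symm)
  exact cent_of_forall_lift (L := P ⊔ X) hV.abel.solv (sup_le hPV cV.norm) ((hc2.mul_right
    cV.cop.symm).coprime_dvd_right (Nrm2.card_sup_dvd (Or.inr cP.norm))) le_sup_left fun ℓ _ χ hχ e' =>
      red hχ le_rfl le_sup_right le_sup_left (by rw [e' X le_sup_right, h0]; simp) fun ψ hψ _ hs => h.ne_irr e2 hψ hs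

theorem St.core2 (h : St P D X p d) (hS : PiGrp {s} S) (hsd : s ≠ d) (hSX : S ≤ C(X)) (hSP : S ≤ N(P))
    (hSD : S ≤ N(D)) (e2 : ⁅P, D⁆ = P) (e3 : D ≤ ⁅D, S⁆ ⊔ (D ⊓ C(P))) (hSC : P ⊓ C(X) ≤ C(S)) (hθ : θ ∈ irr P)
    (hi : X ≤ inertia P θ) (hξ : ξ ∈ chars L) (hP : P ≤ L) (hD : D ≤ L) (hX : X ≤ L) {c : ℂ} (hc : res P ξ = c • θ)
    (h0 : ξ ≠ 0) (f : Fx X ⁅D, S⁆ ξ) : P ≤ cfker P θ := by
  have l : ⁅D, S⁆ ≤ D := comm_le_left hSD
  have i := inv h.hX h.cP hθ hi hSP (cent_norm hSX) hSC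
  have a1 := (h.mono l).core i norm_comm_right hθ hi hξ hP (l.trans hD) hX hc h0 f
  rw [(cop_of_pi hSD hS (h.hD.p'_of_ne hsd.symm) (Or.inl hS.solv)).comm_comm] at a1
  exact h.lin hθ hi (h.deg_one hθ (fin_le (norm_zth (h.dinv hθ hi)) (norm_zth i) e2 e3 a1))

theorem ce (hX : (Nat.card X).Prime) (hP : PiGrp {p} P) (hD : PiGrp {d} D) (hdp : d ≠ p) (cP : Cop X P) (cD : Cop X D)
    (hDX : D ≤ C(X)) (hDP : D ≤ N(P)) (e1 : ⁅P, X⁆ = P) (e2 : ⁅P, D⁆ = P) (hΦ : Φ(P) ≤ C(P) ⊓ C(D)) (ht : t.Prime)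
    (hV : Elem t V) (htp : t ≠ p) (cV : Cop X V) (hPV : P ≤ N(V)) (hS : PiGrp {s} S) (hsd : s ≠ d) (cS : Cop X S)
    (hSX : S ≤ C(X)) (hSP : S ≤ N(P)) (hSD : S ≤ N(D)) (e3 : D ≤ ⁅D, S⁆ ⊔ (D ⊓ C(P))) (hSC : P ⊓ C(X) ≤ C(S))
    (hDV : D ≤ N(V)) (hSV : S ≤ N(V)) (h1 : V ⊓ C(X) ≤ C(D)) (h2 : d = t → V ⊓ C(X) ≤ C(S)) : P ≤ C(V) := by
  have := Fintype.ofFinite G
  have h := St.mk' hX hP hD hdp cP cD hDX hDP e1 hΦ
  have hc2 : (Nat.card V).Coprime (Nat.card P) := (hV.pi ht).coprime (hP.p'_of_ne htp.symm)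
  have main : ∀ {B : Subgroup G}, B ≤ N(P) → B ≤ N(V) → B ≤ C(X) → Cop X B → (Nat.card V).Coprime (Nat.card B) →
      V ⊓ C(X) ≤ C(B) → (∀ ψ ∈ irr (P ⊔ B ⊔ X), Fx X B ψ → ∀ θ ∈ irr P, ip P θ ψ ≠ 0 → X ≤ inertia P θ → P ≤ cfker P θ) →
      ⁅P, B⁆ ≤ C(V) := fun {B} b1 b2 b3 b4 b5 b6 H => by
    have c : Cop X (P ⊔ B) := ⟨norm_sup cP.norm b4.norm, (cP.cop.mul_right b4.cop).coprime_dvd_right
      (Nrm2.card_sup_dvd (Or.inr b1)), Or.inl (abel_of_prime hX).solv⟩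
    have lP : P ≤ P ⊔ B ⊔ X := le_sup_left.trans le_sup_left
    have lB : B ≤ P ⊔ B ⊔ X := le_sup_right.trans le_sup_left
    have n : P ⊴ P ⊔ B ⊔ X := ⟨lP, sup_le (sup_le le_N b1) cP.norm⟩
    refine cent_of_forall_lift (L := P ⊔ B ⊔ X) hV.abel.solv (sup_le (sup_le hPV b2) cV.norm) ((((hc2.mul_right
      b5).coprime_dvd_right (Nrm2.card_sup_dvd (Or.inr b1))).mul_right cV.cop.symm).coprime_dvd_right
      (Nrm2.card_sup_dvd (Or.inr c.norm))) (comm_le_of_le lP lB) fun ℓ _ χ hχ e' => ?_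
    have f := fx_of_sum hχ le_sup_right lB (cent_norm b3) (by
      rw [e' _ (sup_le lB le_sup_right), C_sup, inf_comm C(B), ← inf_assoc, inf_eq_left.2 b6]) (e' X le_sup_right)
    refine H1.le_charKer_of_irr hχ (comm_le_of_le lP lB) fun ψ hψ hs => ?_
    have f' := f.sub (chars_of_irr hψ) hs le_sup_right lB (cent_norm b3)
    have nk := H1.norm_charKer (cf_of_irr hψ)
    obtain ⟨θ, hθ, a1, hi⟩ | h0 := dich hX c (nml_sup_left b1) cP.norm hψ
    · exact (comm_le_left b1).trans fun x hx => ((sub_cfker_constt lP n.norm le_rfl hθ hψ a1).2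
        (H ψ hψ f' θ hθ a1 hi) hx).2
    · exact (comm_mono le_rfl (ker_of_vanish (chars_of_irr hψ) c le_sup_right le_sup_left h0 f')).trans
        (comm_le_right (lP.trans nk))
  by_cases hdt : d = t
  · have a1 := main hSP hSV hSX cS ((hV.pi ht).coprime (hS.p'_of_ne (hdt ▸ hsd))) (h2 hdt) fun ψ hψ f θ hθ a1 hi => by
      have iS := inv hX cP hθ hi hSP (cent_norm hSX) hSC
      have iH : P ⊔ S ⊔ X ≤ inertia P θ := sup_le (sup_le (le_inertia (cf_of_irr hθ)) iS) hi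
      have sd : SD P D (P ⊔ D) := sd_sup hDP h.cDP.inf_eq_bot'
      have nH : P ⊔ S ⊔ X ≤ N(P ⊔ D) := sup_le (sup_le (le_norm le_sup_left) (norm_sup hSP hSD)) (norm_sup cP.norm cD.norm)
      have cH : (Nat.card ↥(P ⊔ S ⊔ X)).Coprime (Nat.card D) :=
        ((((h.cDP.cop.mul_right (hD.coprime (hS.p'_of_ne hsd))).coprime_dvd_right (Nrm2.card_sup_dvd
          (Or.inr hSP))).mul_right cD.cop.symm).coprime_dvd_right
          (Nrm2.card_sup_dvd (Or.inr (norm_sup cP.norm cS.norm)))).symm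
      obtain ⟨η, hη, b1, b2⟩ := ext_inv sd.nml hθ (sup_le (le_inertia (cf_of_irr hθ)) (h.dinv hθ hi))
        (by rw [sd.relIndex]; exact h.cDP.cop.symm) iH nH (by rwa [sd.relIndex])
      have lP : P ≤ P ⊔ S ⊔ X := le_sup_left.trans le_sup_left
      have lS : S ≤ P ⊔ S ⊔ X := le_sup_right.trans le_sup_left
      obtain ⟨ξ, hξ, b3⟩ := xi nH (by
        rw [Nrm2.modular (Or.inr hDP) lP, inf_eq_bot_of_coprime' cH.symm, sup_bot_eq]) hη b1 hθ b2 iH hψ a1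
      have lD : D ≤ P ⊔ D ⊔ (P ⊔ S ⊔ X) := le_sup_right.trans le_sup_left
      refine h.core2 hS hsd hSX hSP hSD e2 e3 hSC hθ hi (chars_of_irr hξ) (lP.trans le_sup_right) lD
        (le_sup_right.trans le_sup_right) (c := ip P ψ θ) (by
          rw [← res_res lP, b3, clifford_res_of_le_inertia ⟨lP, iH.trans inertia_le_N⟩ hψ hθ a1 iH]) (irr_ne_zero hξ) ?_
      exact ((b3 ▸ f : Fx X S (res (P ⊔ S ⊔ X) ξ)).of_res le_sup_right lS).comm (chars_of_irr hξ)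
        (le_sup_right.trans le_sup_right) lD (lS.trans le_sup_right) (cent_norm hDX) (cent_norm hSX)
    have nK : ∀ {B : Subgroup G}, B ≤ N(P) → B ≤ N(V) → B ≤ N(P ⊓ C(V)) := fun a b => norm_inf a (norm_C b)
    have nD := nK hDP hDV
    have nS := nK hSP hSV
    have nP := nK le_N hPV
    refine (fin_le nD nS e2 e3 ?_).trans inf_le_right
    have a2 := cent_symm ((comm_le_iff_quo nP nS).1 (le_inf (comm_le_left hSP) a1))
    rw [comm_le_iff_quo nP (comm_le_of_le nD nS), mim_comm nD nS]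
    exact cent_symm ((comm_mono le_rfl a2).trans (comm_le_right (norm_C (mim_norm hDP))))
  · refine e2.ge.trans (main hDP hDV hDX cD ((hV.pi ht).coprime (hD.p'_of_ne hdt)) h1 fun ψ hψ f θ hθ a1 hi => ?_)
    have lP : P ≤ P ⊔ D ⊔ X := le_sup_left.trans le_sup_left
    have iH : P ⊔ D ⊔ X ≤ inertia P θ := sup_le (sup_le (le_inertia (cf_of_irr hθ)) (h.dinv hθ hi)) hi
    exact h.core2 hS hsd hSX hSP hSD e2 e3 hSC hθ hi (chars_of_irr hψ) lP (le_sup_right.trans le_sup_left) le_sup_right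
      (clifford_res_of_le_inertia ⟨lP, iH.trans inertia_le_N⟩ hψ hθ a1 iH) (irr_ne_zero hψ) (f.mono (comm_le_left hSD))

end H23.CE
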