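import Cfsg.Agent.H6.RSmall

/-! Groups in which the centralizer of every involution is abelian (`H23.ca_se`, `H23.bsw`). -/

set_option autoImplicit false

namespace H23

open Cfsg H18 H5 H9 Subgroup
open scoped MatrixGroups

variable {G : Type*} [Group G] [Finite G]

theorem ca_abel (h : ∀ t : G, orderOf t = 2 → IsMulCommutative C1(t)) {T : Subgroup G} (hT : PiGrp {2} T) :
    Abel T := by
  by_cases h1 : T = ⊥
  · exact h1 ▸ abel_bot
  have h2 := hT.nil.meet_Z ⟨le_rfl, le_N⟩ h1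
  obtain ⟨z, hz, z2, z1⟩ := exists_inv_of_even (X := T ⊓ Z(T)) (even_iff_two_dvd.2
    (hT.inf_left.dvd_card h2))
  exact (abel_of_comm (h z (H9.orderOf_eq_two.2 ⟨z2, z1⟩))).mono (le_C1_iff.2 hz.2.2)

theorem ca_se (h : ∀ t : G, orderOf t = 2 → IsMulCommutative C1(t)) (he : Even (Nat.card G)) {T : Subgroup G}
    (hT : Hall {2} T ⊤) (hn : ¬ T.Normal) : IsStronglyEmbedded N(T) := by
  have key : ∀ {U : Subgroup G} {s : G}, Hall {2} U ⊤ → s ∈ N(U) → s * s = 1 → s ≠ 1 → U = O[{2}](C1(s)) :=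
    fun {U s} hU hs s2 s1 => by
    have h1 : s ∈ U := (hU.of_le le_N le_top).mem_of_nml le_rfl hs
      (piElt_of_pow_eq_one Nat.prime_two (by rw [sq]; exact s2))
    have h2 : U ≤ C1(s) := le_C1_iff.2 (ca_abel h hU.pi h1)
    exact (hU.eq_of_le (le_pcore ((abel_of_comm (h s (H9.orderOf_eq_two.2 ⟨s2, s1⟩))).nml h2) hU.pi) le_top pcore_pi).symm
  refine ⟨fun e => hn (normalizer_eq_top_iff.1 e), (even_iff_two_dvd.2 (hT.dvd_card Nat.prime_two rfl
    (by rwa [card_top, ← even_iff_two_dvd]))).trans_dvd (card_dvd_of_le le_N), fun g hg =>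
    odd_of_no_inv fun s hs s2 => by_contra fun s1 => hg ?_⟩
  rw [mem_N_iff_cj, key (hT.cj_top g) (by rw [← cj_N]; exact hs.2) s2 s1, ← key hT hs.1 s2 s1]

omit [Finite G] in
theorem dp_equiv {A B L : Subgroup G} (h : DP A B L) : Nonempty (L ≃* A × B) := by
  have c : ∀ (x : A) (y : B), Commute (A.subtype x) (B.subtype y) := fun x y =>
    comm_of_cent h.cent x.2 y.2
  refine ⟨((MonoidHom.ofInjective (f := A.subtype.noncommCoprod B.subtype c) ?_).trans
    (MulEquiv.subgroupCongr ?_)).symm⟩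
  · exact (MonoidHom.noncommCoprod_injective _ _ c).2 ⟨A.subtype_injective, B.subtype_injective,
      by simpa [disjoint_iff] using h.inf⟩
  · simp [MonoidHom.noncommCoprod_range, h.sup]

theorem bsw (h : ∀ t : G, orderOf t = 2 → IsMulCommutative C1(t)) (he : Even (Nat.card G)) {T : Subgroup G}
    (hT : Hall {2} T ⊤) (hn : ¬ T.Normal) (hc : ¬ Cyc T) : ∃ (F : Type) (_ : Field F) (_ : Fintype F)
      (L V : Subgroup G), CharP F 2 ∧ Nonempty (L ≃* SL(2, F)) ∧ Odd (Nat.card V) ∧ Abel V ∧ DP L V ⊤ := by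
  have hH := ca_se h he hT hn
  have hS := SA.of_se hH
  have h2 : 1 < prank 2 (⊤ : Subgroup G) :=
    ((ca_abel h hT.pi).one_lt_prank Nat.prime_two hT.pi hc).trans_le (prank_mono Nat.prime_two le_top)
  obtain ⟨u, hu⟩ := hS.inv ((1 : G) : G ⧸ N(T))
  have uT : u ∈ T := (hT.of_le le_N le_top).mem_of_nml le_rfl (St_one.le hu.2.2)
    (piElt_of_pow_eq_one Nat.prime_two (by rw [sq]; exact hu.1))
  obtain ⟨Q, t, hA, hQ⟩ := hS.A1_of_cent hu (mem_top u) h2 (fun e => hH.1 (top_le_iff.1 (e.trans St_one.le)))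
    (le_C1_iff.2 (cent_symm (cent_of_inf_eq_bot ((hS.odd_le hu (mem_top u) h2 pcore_nml.norm odd_O).trans St_one.le)
      (le_top.trans pcore_nml.norm) (pcore_pi.inf_eq_bot' hT.pi)) uT))
  obtain ⟨K, V, W, Q₀, s, h0⟩ := hA.exists_suz
  have ha := ca_abel h hQ
  have h3 := h0.rank_iff.1 h2
  obtain ⟨-, ⟨a, b⟩ | ⟨-, b, -⟩ | ⟨-, b, -⟩⟩ := H19.concl h0 h3
  rotate_left
  · exact absurd ha b
  · exact absurd ha b
  obtain ⟨F, _, _, e, ⟨f⟩⟩ := H19.isoPSL_of h0 a b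
  obtain ⟨n, -, hn⟩ := h0.exists_pow
  have := H19.charP_of_card (e.trans hn)
  have hs := abel_of_comm (h s (H9.orderOf_eq_two.2 ⟨h0.ss, h0.s_ne⟩))
  have hV : Q ⊔ zpowers t ≤ C(V) :=
    sup_le (cent_mono hs (le_C1_iff.2 (ha h0.sQ)) h0.V_le_C1s) (zpowers_le.2 (h0.t_cent le_rfl))
  have hK : K ≤ Q ⊔ zpowers t := H19.sup_K h0 ▸ le_sup_right.trans le_sup_left
  have hH' : ⊤ ⊓ St(((1 : G) : G ⧸ N(T))) ≤ Q ⊔ zpowers t ⊔ V := by
    rw [← h0.sd.sup, ← h0.sdK.sup]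
    exact sup_le (le_sup_left.trans le_sup_left) (sup_le_sup_right hK _)
  refine ⟨F, _, inferInstance, Q ⊔ zpowers t, V, this,
    ⟨f.trans (MulEquiv.ofBijective _ (H6.Ree.πS_bij (CharP.cast_eq_zero F 2))).symm⟩,
    h0.oddV, hs.mono h0.V_le_C1s, hV, eq_bot_iff.2 fun x hx => ?_, eq_top_iff.2 fun g _ => ?_⟩
  · have h4 : f ⟨x, hx.1⟩ = 1 := H6.Ree.centerless (by
        rw [e, hn]; rw [hn] at h3
        exact Nat.pow_le_pow_right (n := 2) two_pos ((Nat.pow_lt_pow_iff_right (n := 1) one_lt_two).1 h3)) _ fun y => by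
      obtain ⟨y, rfl⟩ := f.surjective y
      rw [← map_mul, ← map_mul]; exact congrArg f (Subtype.ext (comm_of_cent hV y.2 hx.2))
    exact congrArg Subtype.val (f.injective (h4.trans (map_one f).symm))
  · by_cases h5 : g ∈ ⊤ ⊓ St(((1 : G) : G ⧸ N(T)))
    · exact hH' h5
    obtain ⟨x, hx, y, hy, rfl⟩ := hA.bruhat g (mem_top g) h5
    exact mul_mem (mul_mem (hH' hx) (mem_sup_left (mem_sup_right (mem_zpowers t)))) (mem_sup_left (mem_sup_left hy))

end H23
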