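import Cfsg.Agent.H21.HHX

/-! Tools for the Turull top lemmas `H23.CE.ne`, `H23.CE.ce`: `Fx X B χ` (`B` centralizes the `X`-fixed space of `χ`), `cong`,
`arith`, `gen`, `inv` (Glauberman invariance), `dich` (Clifford dichotomy), `ext_inv` (invariant extension), `xi`. -/

set_option autoImplicit false

namespace H23.CE
open Cfsg H18 H19 H5 H1 Subgroup
open scoped commutatorElement ComplexConjugate

variable {G : Type*} [Group G] {A B D E H K L M N P Q S T V X Y Z : Subgroup G} {p q d r : ℕ} {χ ψ θ η ξ : G → ℂ} {g x y : G}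

theorem arith {a b : ℕ} (hr : r.Prime) (hd : d.Prime) (hrd : r ≠ d) (hb : b ∣ a) (hne : b ≠ a) (h0 : 0 < a) (hdb : ¬ d ∣ b)
    (h1 : a ^ 2 ≡ 1 [MOD r]) (h2 : b ^ 2 ≡ 1 [MOD r]) (h3 : a ^ 2 ≡ b ^ 2 [MOD d]) (h4 : a + 2 ≤ b + 2 * r) : b = 1 := by
  obtain ⟨c, rfl⟩ := hb
  have hb0 : 0 < b := Nat.pos_of_mul_pos_right h0
  have hc0 : 0 < c := Nat.pos_of_mul_pos_left h0
  have hc1 : c ≠ 1 := by rintro rfl; simp at hne
  by_contra hb1
  have a1 : r ≤ b + 1 := by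
    have e : b ^ 2 - 1 = (b + 1) * (b - 1) := by simpa using Nat.sq_sub_sq b 1
    have := (Nat.modEq_iff_dvd' (Nat.one_le_pow 2 b hb0)).1 h2.symm
    rw [e] at this
    rcases (Nat.Prime.dvd_mul hr).1 this with h | h
    · exact Nat.le_of_dvd (by omega) h
    · have := Nat.le_of_dvd (by omega) h; omega
  have a2 : c ≤ 3 := by
    by_contra h
    have : b * 4 ≤ b * c := Nat.mul_le_mul_left _ (by omega)
    omega
  have a3 : c ^ 2 ≡ 1 [MOD r] := by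
    have := (h2.mul_right (c ^ 2)).symm
    rw [one_mul, ← mul_pow] at this
    exact this.trans h1
  have a4 : c ^ 2 ≡ 1 [MOD d] := by
    rw [mul_pow] at h3
    refine Nat.ModEq.cancel_left_of_coprime (c := b ^ 2) ?_ (by rwa [mul_one])
    exact Nat.Coprime.pow_right 2 ((Nat.Prime.coprime_iff_not_dvd hd).2 hdb)
  have b3 := (Nat.modEq_iff_dvd' (Nat.one_le_pow 2 c hc0)).1 a3.symm
  have b4 := (Nat.modEq_iff_dvd' (Nat.one_le_pow 2 c hc0)).1 a4.symm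
  obtain rfl | rfl : c = 2 ∨ c = 3 := by omega
  · exact hrd (((Nat.prime_dvd_prime_iff_eq hr Nat.prime_three).1 b3).trans
      ((Nat.prime_dvd_prime_iff_eq hd Nat.prime_three).1 b4).symm)
  · have e : 3 ^ 2 - 1 = 2 ^ 3 := by norm_num
    rw [e] at b3 b4
    exact hrd (((Nat.prime_dvd_prime_iff_eq hr Nat.prime_two).1 (hr.dvd_of_dvd_pow b3)).trans
      ((Nat.prime_dvd_prime_iff_eq hd Nat.prime_two).1 (hd.dvd_of_dvd_pow b4)).symm)

theorem gen (hE : Abel E) (hT : T ≤ N(E)) (hS : S ≤ N(E)) (hST : S ≤ N(T))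
    (h : ∀ a ∈ T, a ∈ C(E) ∨ (E ⊓ C1(a) = ⊥ ∧ a ^ 2 ∈ C(E))) : ⁅T, S⁆ ≤ C(E) := by
  have i1 : ∀ a ∈ T, a ∉ C(E) → ∀ u ∈ E, a * u * a⁻¹ = u⁻¹ := fun a ha h1 u hu => by
    obtain ⟨h2, h3⟩ := (h a ha).resolve_left h1
    have hv := conj_mem hT ha hu
    have : u * (a * u * a⁻¹) ∈ E ⊓ C1(a) := ⟨mul_mem hu hv, mem_C1.2 (by
      have e1 := mem_C.1 h3 u hu
      rw [comm_of_cent hE hu hv]
      calc a * u * a⁻¹ * u * a = a * (u * (a⁻¹ * u * a)) := by group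
        _ = a * (u * (a⁻¹ * (u * a ^ 2) * a⁻¹)) := by group
        _ = a * (u * (a * u * a⁻¹)) := by rw [e1]; group
        _ = _ := by rw [comm_of_cent hE hu hv])⟩
    rw [h2, mem_bot] at this
    exact (eq_inv_of_mul_eq_one_right this)
  refine commutator_le.2 fun a ha s hs => ?_
  have hb : s * a⁻¹ * s⁻¹ ∈ T := conj_mem hST hs (inv_mem ha)
  have e : ⁅a, s⁆ = a * (s * a⁻¹ * s⁻¹) := by rw [commutatorElement_def]; group
  rw [e]
  by_cases h1 : a ∈ C(E)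
  · exact mul_mem h1 (conj_mem (norm_C hS) hs (inv_mem h1))
  have h2 : s * a⁻¹ * s⁻¹ ∉ C(E) := fun c => h1 (by
    have := conj_mem' (norm_C hS) hs c
    rw [show s⁻¹ * (s * a⁻¹ * s⁻¹) * s = a⁻¹ by group] at this
    exact (inv_mem_iff).1 this)
  generalize s * a⁻¹ * s⁻¹ = b at hb h2
  refine mem_C.2 fun u hu => ?_
  have e1 := i1 b hb h2 u hu
  have e2 := i1 a ha h1 u⁻¹ (inv_mem hu)
  rw [inv_inv, ← e1] at e2
  calc u * (a * b) = a * (b * u * b⁻¹) * a⁻¹ * (a * b) := by rw [e2]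
    _ = _ := by group

variable [Finite G]

theorem card_mod (hP : PiGrp {p} P) (hp : p.Prime) (hn : P ≤ N(X)) : Nat.card X ≡ Nat.card ↥(X ⊓ C(P)) [MOD p] := by
  have := Fact.mk hp
  let : MulAction P X :=
    { smul := fun r a => ⟨(r : G) * a * (r : G)⁻¹, conj_mem hn r.2 a.2⟩
      mul_smul := fun r r' a => Subtype.ext (by
        show (r : G) * r' * a * ((r : G) * r')⁻¹ = r * (r' * a * (r' : G)⁻¹) * (r : G)⁻¹
        group)
      one_smul := fun a => Subtype.ext (by show (1 : G) * a * (1 : G)⁻¹ = a; group) }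
  have := hP.isPGroup.card_modEq_card_fixedPoints X
  convert this using 1
  exact Nat.card_congr ⟨fun a => ⟨⟨a, a.2.1⟩, fun r => Subtype.ext
      (show (r : G) * a * (r : G)⁻¹ = a by rw [mem_C.1 a.2.2 r r.2]; group)⟩,
    fun a => ⟨a.1, a.1.2, mem_C.2 fun r hr => by
      have : r * (a.1 : G) * r⁻¹ = a.1 := congrArg Subtype.val (a.2 ⟨r, hr⟩)
      rw [mul_inv_eq_iff_eq_mul] at this; exact this⟩, fun _ => rfl, fun _ => rfl⟩

theorem cong (hB : PiGrp {d} B) (hd : d.Prime) (hP : B ≤ N(P)) (hZ : B ≤ N(Z)) (hc : ¬ d ∣ Nat.card P) :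
    Z.relIndex P ≡ Z.relIndex (P ⊓ C(B)) [MOD d] := by
  have a1 := card_mod hB hd hP
  have a2 := card_mod hB hd (norm_inf hZ hP)
  rw [← card_mul_relIndex' (A := Z) (B := P), ← card_mul_relIndex' (A := Z) (B := P ⊓ C(B)), ← inf_assoc] at a1
  refine Nat.ModEq.cancel_left_of_coprime (c := Nat.card ↥(Z ⊓ P)) ?_ (a1.trans (a2.symm.mul_right _))
  exact (Nat.Prime.coprime_iff_not_dvd hd).2 fun h => hc (h.trans (card_dvd inf_le_right))

/-- `B` centralizes the `X`-fixed space of `χ` -/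
def Fx (X B : Subgroup G) (χ : G → ℂ) : Prop := ∀ b ∈ B, ∑ x ∈ els X, χ (x * b) = ∑ x ∈ els X, χ x

noncomputable def av (X M : Subgroup G) (χ : G → ℂ) : G → ℂ :=
  res M fun g => (Nat.card X : ℂ)⁻¹ * ∑ x ∈ els X, res M χ (x * g)

theorem av_mem (h : χ ∈ chars L) (hM : M ≤ L) (hX : X ⊴ M) : av X M χ ∈ chars M := avg_mem_chars (res_mem_chars hM h) hX
theorem av_apply (hX : X ≤ M) (hg : g ∈ M) : av X M χ g = (Nat.card X : ℂ)⁻¹ * ∑ x ∈ els X, χ (x * g) := by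
  rw [av, res_of_mem _ hg, Finset.sum_congr rfl fun x hx => res_of_mem _ (mul_mem (hX (mem_els.1 hx)) hg)]
theorem fx_iff (h : χ ∈ chars L) (hM : M ≤ L) (hX : X ⊴ M) (hB : B ≤ M) : Fx X B χ ↔ B ≤ charKer (av X M χ) := by
  refine forall₂_congr fun b hb => ?_
  rw [H1.mem_charKer_iff (av_mem h hM hX) (hB hb), av_apply hX.le (hB hb), av_apply hX.le M.one_mem,
    mul_right_inj' (inv_ne_zero (card_ne_zero X))]
  simp only [mul_one]

theorem Fx.mono (h : Fx X B χ) (hA : A ≤ B) : Fx X A χ := fun b hb => h b (hA hb)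

theorem Fx.res (h : Fx X B χ) (hX : X ≤ L) (hB : B ≤ L) : Fx X B (res L χ) := fun b hb => by
  rw [Finset.sum_congr rfl fun x hx => res_of_mem _ (mul_mem (hX (mem_els.1 hx)) (hB hb)),
    Finset.sum_congr rfl fun x hx => res_of_mem _ (hX (mem_els.1 hx)), h b hb]
theorem Fx.of_res (h : Fx X B (H19.res L χ)) (hX : X ≤ L) (hB : B ≤ L) : Fx X B χ := fun b hb => by
  have := h b hb
  rwa [Finset.sum_congr rfl fun x hx => res_of_mem _ (mul_mem (hX (mem_els.1 hx)) (hB hb)),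
    Finset.sum_congr rfl fun x hx => res_of_mem _ (hX (mem_els.1 hx))] at this

theorem Fx.sub (h : Fx X B χ) (hψ : ψ ∈ chars L) (h' : χ - ψ ∈ chars L) (hX : X ≤ L) (hB : B ≤ L) (hn : B ≤ N(X)) :
    Fx X B ψ := by
  have hχ : χ ∈ chars L := by simpa using add_mem h' hψ
  have hM : B ⊔ X ≤ L := sup_le hB hX
  have n := nml_sup_right hn
  rw [fx_iff hψ hM n le_sup_left]
  rw [fx_iff hχ hM n le_sup_left] at h
  refine (le_inf le_sup_left h).trans (H1.inf_charKer_le_of_sub (av_mem hψ hM n) ?_)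
  have : av X (B ⊔ X) χ - av X (B ⊔ X) ψ = av X (B ⊔ X) (χ - ψ) := by
    ext g
    by_cases hg : g ∈ B ⊔ X
    · simp only [Pi.sub_apply, av_apply n.le hg, Finset.sum_sub_distrib, mul_sub]
    · simp only [Pi.sub_apply, av, res_of_not_mem _ hg, sub_zero]
  rw [this]; exact av_mem h' hM n

theorem Fx.comm (h : Fx X S χ) (hχ : χ ∈ chars L) (hX : X ≤ L) (hD : D ≤ L) (hS : S ≤ L) (h1 : D ≤ N(X)) (h2 : S ≤ N(X)) :
    Fx X ⁅D, S⁆ χ := by
  have hM : D ⊔ S ⊔ X ≤ L := sup_le (sup_le hD hS) hX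
  have n := nml_sup_right (sup_le h1 h2)
  have a1 : D ≤ D ⊔ S ⊔ X := le_sup_left.trans le_sup_left
  have a2 : S ≤ D ⊔ S ⊔ X := le_sup_right.trans le_sup_left
  rw [fx_iff hχ hM n (comm_le_of_le a1 a2)]
  rw [fx_iff hχ hM n a2] at h
  exact (comm_mono le_rfl h).trans (comm_le_right (a1.trans (H1.norm_charKer (cf_of_chars (av_mem hχ hM n)))))

theorem fx_of_sum (hχ : χ ∈ chars L) (hX : X ≤ L) (hB : B ≤ L) (hn : B ≤ N(X)) {m : ℕ}
    (h1 : ∑ a ∈ els (B ⊔ X), χ a = Nat.card ↥(B ⊔ X) * m) (h2 : ∑ a ∈ els X, χ a = Nat.card X * m) : Fx X B χ := by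
  have hM : B ⊔ X ≤ L := sup_le hB hX
  have n := nml_sup_right hn
  rw [fx_iff hχ hM n le_sup_left]
  refine le_sup_left.trans ((H1.le_charKer_iff_sum (av_mem hχ hM n) le_rfl).2 ?_)
  rw [Finset.sum_congr rfl fun g hg => av_apply n.le (mem_els.1 hg), av_apply n.le (one_mem _), ← Finset.mul_sum,
    Finset.sum_comm, Finset.sum_congr rfl fun x hx => sum_els_mul_left (n.le (mem_els.1 hx)) χ, sum_els_const, h1]
  simp only [mul_one]
  rw [h2]
  have := card_ne_zero X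
  field_simp

theorem le_stabf_iff (h : A ≤ N(P)) : A ≤ H8.stabf θ ↔ A ≤ inertia P θ :=
  ⟨fun c _ ha => mem_inertia.2 ⟨h ha, cfcj_eq_iff_stabf.1 (c ha)⟩, fun c _ ha => cfcj_eq_iff_stabf.2 (mem_inertia.1 (c ha)).2⟩

/-- Glauberman: an `X`-invariant character is invariant under everything centralizing `C_P(X)` -/
theorem inv (hX : (Nat.card X).Prime) (cP : Cop X P) (hθ : θ ∈ irr P) (hi : X ≤ inertia P θ) (h1 : B ≤ N(P))
    (h2 : B ≤ N(X)) (h3 : P ⊓ C(X) ≤ C(B)) : B ≤ inertia P θ := by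
  have := Fintype.ofFinite G
  have c := H8.Glaub.corr_coprime hX cP.norm (piGrp_of_prime hX rfl).isPGroup cP.cop.symm rfl
  have hs := (le_stabf_iff cP.norm).2 hi
  obtain ⟨β, hβ, b1, b2⟩ := c.ex θ hθ hs
  refine (le_stabf_iff h1).1 fun b hb => c.cjf_left (h1 hb) (norm_inf h1 (norm_C h2) hb) (h2 hb) hθ hs hβ b1 b2
    (H8.mem_stabf_of_centralizes (irr_supp hβ) fun c hc => comm_of_cent (cent_symm h3) hb hc)

theorem dich [Fintype G] (hX : (Nat.card X).Prime) (c : Cop X M) (hP : P ⊴ M) (hXP : X ≤ N(P)) (hχ : χ ∈ irr (M ⊔ X)) :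
    (∃ θ ∈ irr P, ip P θ χ ≠ 0 ∧ X ≤ inertia P θ) ∨ ∀ g, g ∉ M → χ g = 0 := by
  have n : M ⊴ M ⊔ X := nml_sup_left c.norm
  obtain ⟨φ, hφ, h1⟩ := exists_irr_under le_sup_left (chars_of_irr hχ) (irr_ne_zero hχ)
  by_cases h : X ≤ inertia M φ
  · have := hP.subgroupOf_normal
    obtain ⟨θ, hθ, a1, a2⟩ := H8.Glaub.exists_invariant_under hP.le hP.norm hXP c.norm
      ((c.cop.coprime_dvd_left relIndex_dvd).coprime_dvd_right relIndex_dvd) (Or.inl (abel_of_prime hX).solv) hφ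
      ((le_stabf_iff c.norm).2 h)
    refine Or.inl ⟨θ, hθ, ?_, (le_stabf_iff hXP).1 a1⟩
    have a3 := H8.ip_res_ne_zero_trans hP.le le_sup_left (chars_of_irr hχ) hφ (chars_of_irr hθ)
      (by rw [ip_res_left (irr_supp hφ)]; exact ip_ne_zero_comm.1 h1) a2
    rw [ip_res_left (irr_supp hθ)] at a3
    exact ip_ne_zero_comm.1 a3
  · have a1 : (M ⊔ X) ⊓ inertia M φ ≤ M := fun g ⟨hg, hg'⟩ => by
      obtain ⟨m, hm, x, hx, rfl⟩ := (mem_sup_of_norm' c.norm).1 hg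
      have : x ∈ X ⊓ inertia M φ := ⟨hx, ((inertia M φ).mul_mem_cancel_left (le_inertia (cf_of_irr hφ) hm)).1 hg'⟩
      rw [prime_TI hX h, mem_bot] at this
      rwa [this, mul_one]
    have a2 := inertia_Ind_irr n hφ a1
    rw [← irr_eq_of_ip_ne_zero a2 hχ (by
      rw [ip_ind_res (cf_of_irr hφ) (cf_of_irr hχ), ip_res_right (irr_supp hφ)]; exact h1)]
    exact Or.inr (ind_supp_nml n.norm (irr_supp hφ))

theorem irr_of_res [Fintype G] (hχ : χ ∈ chars K) (hP : P ≤ K) (h : res P χ ∈ irr P) : χ ∈ irr K := by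
  have h0 : χ ≠ 0 := by rintro rfl; exact irr_ne_zero h (map_zero _)
  obtain ⟨φ, hφ, h1⟩ := exists_irr_ip_ne_zero (cf_of_chars hχ) h0
  have h2 := res_mem_chars hP (chars_of_irr hφ)
  have h3 : res P φ ≠ 0 := fun e => irr_apply_one_ne_zero hφ (by rw [← res_one P φ, e]; rfl)
  obtain ⟨β, hβ, h4⟩ := exists_irr_ip_ne_zero (cf_of_chars h2) h3
  have h5 := H8.ip_res_ne_zero_trans hP le_rfl hχ hφ (chars_of_irr hβ) (by rwa [res_eq_self (cf_supp (cf_of_chars hχ))]) h4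
  have h6 := irr_eq_of_ip_ne_zero h hβ h5
  have h7 := dg_le_of_ip_ne_zero h2 hβ h4
  rw [← h6, dg_res, dg_res] at h7
  rwa [eq_of_ip_ne_zero_of_dg_le hχ hφ h1 h7]

/-- an invariant extension -/
theorem ext_inv [Fintype G] (hP : P ⊴ N) (hθ : θ ∈ irr P) (hI : N ≤ inertia P θ) (hc : (Nat.card P).Coprime (P.relIndex N))
    (h1 : H ≤ inertia P θ) (h2 : H ≤ N(N)) (hc' : (Nat.card H).Coprime (P.relIndex N)) :
    ∃ η ∈ irr N, res P η = θ ∧ H ≤ inertia N η := by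
  obtain ⟨η, hη, e⟩ := H6.P.exists_ext_coprime hP hθ hI hc
  have hHP := h1.trans inertia_le_N
  have l1 : P ⊔ ⁅N, N⁆ ≤ N := sup_le hP.le der_le
  have n1 : H ≤ N(P ⊔ ⁅N, N⁆) := norm_sup hHP (norm_der h2)
  have hθ1 : res (P ⊔ ⁅N, N⁆) η ∈ irr (P ⊔ ⁅N, N⁆) :=
    irr_of_res (res_mem_chars l1 (chars_of_irr hη)) le_sup_left (by rwa [res_res le_sup_left, e])
  have i1 : H ≤ inertia (P ⊔ ⁅N, N⁆) (res (P ⊔ ⁅N, N⁆) η) := fun g hg => mem_inertia.2 ⟨n1 hg, by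
    have a1 := cfcj_mem_irr_N hη (h2 hg)
    have a2 : res P (cfcj g η) = θ := by rw [← cfcj_res_N (hHP hg), e, (mem_inertia.1 (h1 hg)).2]
    obtain ⟨β, hβ, b1, b2⟩ := H8.exists_mul_of_ext hP.le hP.norm (chars_of_irr hη) (e ▸ hθ) a1 (by
      rw [a2, e, ip_irr_self hθ]; exact one_ne_zero)
    have b3 : β 1 = 1 := by
      have := congrFun b2 1
      rw [cfcj_apply_one, Pi.mul_apply] at this
      exact (mul_eq_right₀ (irr_apply_one_ne_zero hη)).1 this.symm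
    have b4 : P ⊔ ⁅N, N⁆ ≤ cfker N β :=
      sup_le (fun n hn => mem_cfker_def.2 ⟨hP.le hn, b1 n hn⟩) ((der_le_cfker_iff hβ).2 b3)
    rw [cfcj_res_N (n1 hg), b2]
    refine eq_of_eqOn (res_supp _ _) (res_supp _ _) fun x hx => ?_
    rw [res_of_mem _ hx, res_of_mem _ hx, Pi.mul_apply, cfker_apply (b4 hx), b3, one_mul]⟩
  have hab : ∀ a ∈ N, ∀ b ∈ N, a * b * a⁻¹ * b⁻¹ ∈ P ⊔ ⁅N, N⁆ := fun a ha b hb =>
    mem_sup_right (commutator_mem_commutator ha hb)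
  obtain ⟨χ, hχ, c1, c2⟩ := H8.Glaub.exists_invariant_over_of_abelian l1 hab n1 h2
    ((hc'.coprime_dvd_left relIndex_dvd).coprime_dvd_right (relIndex_dvd_left le_sup_left)) hθ1 ((le_stabf_iff n1).2 i1)
  obtain ⟨lam, d1, d2⟩ := H8.Glaub.exists_lin_mul l1 hab hη hχ hθ1 (by rw [ip_irr_self hθ1]; exact one_ne_zero) c2
  refine ⟨χ, hχ, ?_, (le_stabf_iff h2).1 c1⟩
  rw [← e, d2]
  refine eq_of_eqOn (res_supp _ _) (res_supp _ _) fun x hx => ?_
  rw [res_of_mem _ hx, res_of_mem _ hx, Pi.mul_apply, extendByZero_of_mem _ (hP.le hx), d1 _ (mem_sup_left hx)]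
  simp

/-- restriction correspondence -/
theorem xi [Fintype G] (h2 : H ≤ N(N)) (hNH : N ⊓ H = P) (hη : η ∈ irr N) (e : res P η = θ) (hθ : θ ∈ irr P)
    (hI : H ≤ inertia N η) (h1 : H ≤ inertia P θ) (hψ : ψ ∈ irr H) (h0 : ip P θ ψ ≠ 0) :
    ∃ ξ ∈ irr (N ⊔ H), res H ξ = ψ := by
  have n : N ⊴ N ⊔ H := nml_sup_left h2
  have hPH : P ≤ H := hNH ▸ inf_le_right
  have hPN : P ≤ N := hNH ▸ inf_le_left
  have nP : P ⊴ H := ⟨hPH, h1.trans inertia_le_N⟩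
  have hI' : N ⊔ H ≤ inertia N η := sup_le (le_inertia (cf_of_irr hη)) hI
  have hΦ := ind_mem_chars n.le (chars_of_irr hη)
  have hΨ := ind_mem_chars (le_sup_right (a := N)) (chars_of_irr hψ)
  have a1 : res H (ind N (N ⊔ H) η) = ind P H θ := by
    rw [ind_eq_smul_of_le_inertia n.le hI', ind_eq_smul_of_le_inertia hPH h1, map_smul, Nrm2.relIndex_sup' (Or.inr h2),
      show P.relIndex H = N.relIndex H by rw [← hNH, relIndex_inf_right], ← e]
    congr 1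
    ext g
    by_cases hg : g ∈ P
    · rw [res_of_mem _ hg, res_of_mem _ (hPH hg)]
    · rw [res_of_not_mem _ hg]
      by_cases hg' : g ∈ H
      · rw [res_of_mem _ hg']; exact irr_supp hη g fun c => hg (hNH ▸ ⟨c, hg'⟩)
      · exact res_of_not_mem _ hg'
  obtain ⟨f, hf⟩ := ip_nat (chars_of_irr hθ) (res_mem_chars hPH (chars_of_irr hψ))
  have a2 : ip (N ⊔ H) (ind N (N ⊔ H) η) (ind H (N ⊔ H) ψ) = f := by
    rw [ip_res_ind (cf_of_irr hψ) (cf_of_chars hΦ), a1, ip_ind_res (cf_of_irr hθ) (cf_of_irr hψ), hf]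
  rw [ip_res_right (irr_supp hθ)] at hf
  obtain ⟨ξ, hξ, b1, b2⟩ := exists_common_constituent (cf_of_chars hΦ) (a2 ▸ hf ▸ h0)
  have hξc := chars_of_irr hξ
  obtain ⟨u, hu⟩ := ip_nat hΦ hξc
  obtain ⟨v, hv⟩ := ip_nat hΨ hξc
  have a3 := ipr_eq_sum_irr (vchar_of_chars hΦ) (ind H (N ⊔ H) ψ)
  have a4 := Finset.single_le_sum (f := fun χ => ipr (N ⊔ H) (ind N (N ⊔ H) η) χ * ipr (N ⊔ H) (ind H (N ⊔ H) ψ) χ)
    (fun χ hχ => mul_nonneg (ipr_nonneg hΦ (chars_of_irr hχ)) (ipr_nonneg hΨ (chars_of_irr hχ))) hξ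
  rw [← a3] at a4
  simp only [ipr, a2, hu, hv, Complex.natCast_re] at a4
  have hv0 : v ≠ 0 := by
    rintro rfl
    exact ip_ne_zero_comm.1 b2 (by simpa using hv)
  have a5 : u ≤ f := by
    have : u * v ≤ f := by exact_mod_cast a4
    exact (Nat.le_mul_of_pos_right _ (Nat.pos_of_ne_zero hv0)).trans this
  rw [ip_ind_res (cf_of_irr hη) (cf_of_irr hξ), ip_res_right (irr_supp hη)] at hu b1
  have c1 := congrFun (clifford_res_of_le_inertia n hξ hη b1 hI') 1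
  have c2 := congrFun (clifford_res_of_le_inertia nP hψ hθ h0 h1) 1
  obtain ⟨k, -, hk⟩ := irr_exists_apply_one hθ
  have hk' : η 1 = k := by rw [← hk, ← e, res_one]
  rw [res_one, Pi.smul_apply, ← ip_conj, hu, hk', smul_eq_mul] at c1
  rw [res_one, Pi.smul_apply, ← ip_conj, hf, hk, smul_eq_mul] at c2
  refine ⟨ξ, hξ, eq_of_ip_ne_zero_of_dg_le (res_mem_chars le_sup_right hξc) hψ (by
    rwa [ip_res_ind (cf_of_irr hψ) (cf_of_irr hξ)] at b2) ?_⟩
  rw [dg_res, dg_eq_of_eq_nat (n := u * k) (by rw [c1]; simp), dg_eq_of_eq_nat (n := f * k) (by rw [c2]; simp)]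
  exact_mod_cast Nat.mul_le_mul_right k a5

end H23.CE
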