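import Mathlib.GroupTheory.Nilpotent
import Mathlib.GroupTheory.IsSubnormal
import Mathlib.Tactic.Group

/-! Commutator calculus modulo a normal subgroup: `commutator_le_iff_map` , sups (`commutator_iSup_le`,
`commutator_sup_le`), the three subgroups lemma modulo `N` (`three_subgroups_le`), Fitting's theorem with
classes (`lcs_sup_eq_bot`), index divisibility for subnormal subgroups (`relIndex_dvd_index_of_isSubnormal`),
subgroups of finite nilpotent groups are subnormal (`isSubnormal_of_isNilpotent`). -/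

namespace H23

open Subgroup
open scoped commutatorElement

variable {G : Type*} [Group G]

theorem commutator_le_iff_map (A B N : Subgroup G) [N.Normal] :
    ⁅A, B⁆ ≤ N ↔ ⁅A.map (QuotientGroup.mk' N), B.map (QuotientGroup.mk' N)⁆ = ⊥ := by
  rw [← map_commutator, Subgroup.map_eq_bot_iff, QuotientGroup.ker_mk']

theorem commutator_le_iff_le_comap (A B N : Subgroup G) [N.Normal] :
    ⁅A, B⁆ ≤ N ↔ A ≤ (centralizer (B.map (QuotientGroup.mk' N) : Set (G ⧸ N))).comap
      (QuotientGroup.mk' N) := by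
  rw [commutator_le_iff_map, commutator_eq_bot_iff_le_centralizer, map_le_iff_le_comap]

theorem commutator_iSup_le {ι : Sort*} (A : ι → Subgroup G) (B N : Subgroup G) [N.Normal]
    (h : ∀ i, ⁅A i, B⁆ ≤ N) : ⁅⨆ i, A i, B⁆ ≤ N := by
  rw [commutator_le_iff_le_comap]
  exact iSup_le fun i => (commutator_le_iff_le_comap _ _ _).1 (h i)

theorem commutator_sup_le (A A' B N : Subgroup G) [N.Normal]
    (h : ⁅A, B⁆ ≤ N) (h' : ⁅A', B⁆ ≤ N) : ⁅A ⊔ A', B⁆ ≤ N := by
  rw [commutator_le_iff_le_comap] at *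
  exact sup_le h h'

theorem commutator_sup_right_le (A B B' N : Subgroup G) [N.Normal]
    (h : ⁅A, B⁆ ≤ N) (h' : ⁅A, B'⁆ ≤ N) : ⁅A, B ⊔ B'⁆ ≤ N := by
  rw [commutator_comm] at *
  exact commutator_sup_le _ _ _ _ h h'

theorem commutator_closure_le (s : Set G) (B N : Subgroup G) [N.Normal]
    (h : ∀ x ∈ s, ∀ b ∈ B, ⁅x, b⁆ ∈ N) : ⁅closure s, B⁆ ≤ N := by
  rw [commutator_le_iff_le_comap, closure_le]
  intro x hx
  simp only [coe_comap, Set.mem_preimage, SetLike.mem_coe, mem_centralizer_iff]
  rintro _ ⟨b, hb, rfl⟩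
  have := (QuotientGroup.eq_one_iff _).2 (h x hx b hb)
  change QuotientGroup.mk' N _ = 1 at this
  rw [map_commutatorElement, commutatorElement_eq_one_iff_mul_comm] at this
  exact this.symm

/-- Three subgroups lemma modulo a normal subgroup. -/
theorem three_subgroups_le (A B C N : Subgroup G) [N.Normal]
    (h1 : ⁅⁅B, C⁆, A⁆ ≤ N) (h2 : ⁅⁅C, A⁆, B⁆ ≤ N) : ⁅⁅A, B⁆, C⁆ ≤ N := by
  rw [commutator_le_iff_map, map_commutator] at *
  exact commutator_commutator_eq_bot_of_rotate h1 h2

/-- `[H i, γ_{j+1}(L)] ≤ H (i+j+1)` for a chain of normal subgroups centralised by `L`. -/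
theorem commutator_lcs_le (H : ℕ → Subgroup G) (hN : ∀ i, (H i).Normal) (L : Subgroup G)
    (hL : ∀ i, ⁅H i, L⁆ ≤ H (i + 1)) (j : ℕ) :
    ∀ i, ⁅H i, L.lowerCentralSeries j⁆ ≤ H (i + j + 1) := by
  induction j with
  | zero => intro i; simpa using hL i
  | succ j ih =>
    intro i
    have := hN (i + (j + 1) + 1)
    rw [Subgroup.lowerCentralSeries_succ, commutator_comm]
    apply three_subgroups_le
    · calc ⁅⁅L, H i⁆, L.lowerCentralSeries j⁆ ≤ ⁅H (i + 1), L.lowerCentralSeries j⁆ :=
            commutator_mono (by rw [commutator_comm]; exact hL i) le_rfl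
        _ ≤ H (i + 1 + j + 1) := ih _
        _ = _ := by congr 1; omega
    · calc ⁅⁅H i, L.lowerCentralSeries j⁆, L⁆ ≤ ⁅H (i + j + 1), L⁆ := commutator_mono (ih i) le_rfl
        _ ≤ _ := hL _

/-- `γ_0 = ⊤`, `γ_{i+1}(H) = H.lowerCentralSeries i`. -/
def gam (H : Subgroup G) : ℕ → Subgroup G
  | 0 => ⊤
  | i + 1 => H.lowerCentralSeries i

instance gam_normal (H : Subgroup G) [H.Normal] (i : ℕ) : (gam H i).Normal := by
  cases i <;> (unfold gam; infer_instance)

theorem commutator_gam_le (H : Subgroup G) [H.Normal] (i : ℕ) : ⁅gam H i, H⁆ ≤ gam H (i + 1) := by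
  cases i with
  | zero => exact commutator_le_right _ _
  | succ i => exact le_rfl

theorem lcs_sup_le (H K : Subgroup G) [H.Normal] [K.Normal] (n : ℕ) :
    (H ⊔ K).lowerCentralSeries n ≤
      ⨆ p : {p : ℕ × ℕ // p.1 + p.2 = n + 1}, gam H p.1.1 ⊓ gam K p.1.2 := by
  induction n with
  | zero =>
    refine sup_le ?_ ?_
    · exact le_iSup_of_le ⟨(1, 0), rfl⟩ (le_inf le_rfl le_top)
    · exact le_iSup_of_le ⟨(0, 1), rfl⟩ (le_inf le_top le_rfl)
  | succ n ih =>
    rw [Subgroup.lowerCentralSeries_succ]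
    refine (commutator_mono ih le_rfl).trans ?_
    have : (⨆ p : {p : ℕ × ℕ // p.1 + p.2 = n + 1 + 1}, gam H p.1.1 ⊓ gam K p.1.2).Normal :=
      Subgroup.iSup_normal _
    apply commutator_iSup_le
    rintro ⟨⟨i, j⟩, hij⟩
    apply commutator_sup_right_le
    · refine le_iSup_of_le ⟨(i + 1, j), by simp only at hij ⊢; omega⟩ (le_inf ?_ ?_)
      · exact (commutator_mono inf_le_left le_rfl).trans (commutator_gam_le H i)
      · exact (commutator_mono inf_le_right le_rfl).trans (commutator_le_left _ _)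
    · refine le_iSup_of_le ⟨(i, j + 1), by simp only at hij ⊢; omega⟩ (le_inf ?_ ?_)
      · exact (commutator_mono inf_le_left le_rfl).trans (commutator_le_left _ _)
      · exact (commutator_mono inf_le_right le_rfl).trans (commutator_gam_le K j)

/-- Fitting's theorem with nilpotency classes. -/
theorem lcs_sup_eq_bot (H K : Subgroup G) [H.Normal] [K.Normal] (c d : ℕ)
    (hH : H.lowerCentralSeries c = ⊥) (hK : K.lowerCentralSeries d = ⊥) :
    (H ⊔ K).lowerCentralSeries (c + d) = ⊥ := by
  refine le_bot_iff.1 ((lcs_sup_le H K _).trans (iSup_le ?_))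
  rintro ⟨⟨i, j⟩, hij⟩
  simp only at hij ⊢
  rcases le_or_gt (c + 1) i with h | h
  · obtain ⟨i, rfl⟩ : ∃ k, i = k + 1 := ⟨i - 1, by omega⟩
    refine inf_le_left.trans ?_
    rw [← hH]; exact Subgroup.lowerCentralSeries_antitone H (by omega)
  · obtain ⟨j, rfl⟩ : ∃ k, j = k + 1 := ⟨j - 1, by omega⟩
    refine inf_le_right.trans ?_
    rw [← hK]; exact Subgroup.lowerCentralSeries_antitone K (by omega)

theorem isNilpotent_sup (H K : Subgroup G) [H.Normal] [K.Normal] (hH : Group.IsNilpotent H)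
    (hK : Group.IsNilpotent K) : Group.IsNilpotent (H ⊔ K : Subgroup G) := by
  obtain ⟨c, hc⟩ := (isNilpotent_iff_lowerCentralSeries H).1 hH
  obtain ⟨d, hd⟩ := (isNilpotent_iff_lowerCentralSeries K).1 hK
  exact isNilpotent_of_lowerCentralSeries_eq_bot (lcs_sup_eq_bot H K c d hc hd)

theorem relIndex_dvd_index_of_normal' [Finite G] (H K : Subgroup G) [H.Normal] :
    K.relIndex H ∣ K.index := by
  have h1 : K.relIndex H * H.index = H.relIndex K * K.index := by
    rw [← inf_relIndex_right K H, ← inf_relIndex_right H K, relIndex_mul_index inf_le_right,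
      relIndex_mul_index inf_le_right, inf_comm]
  obtain ⟨c, hc⟩ := relIndex_dvd_index_of_normal H K
  have h0 : H.relIndex K ≠ 0 := index_ne_zero_of_finite
  refine ⟨c, Nat.eq_of_mul_eq_mul_left (Nat.pos_of_ne_zero h0) ?_⟩
  rw [← h1, hc]; ring

/-- If `H` is subnormal then `[H : H ∩ K]` divides `[G : K]`. -/
theorem relIndex_dvd_index_of_isSubnormal [Finite G] {H : Subgroup G} (hH : H.IsSubnormal)
    (K : Subgroup G) : K.relIndex H ∣ K.index := by
  induction hH with
  | top => simp
  | step H M hle _ hN ih =>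
    refine dvd_trans ?_ ih
    rw [← relIndex_subgroupOf hle]
    exact relIndex_dvd_index_of_normal' _ _

theorem isSubnormal_of_isNilpotent [Finite G] [Group.IsNilpotent G] (H : Subgroup G) :
    H.IsSubnormal := by
  induction H using WellFoundedGT.induction with
  | ind H ih =>
    by_cases h : H = ⊤
    · subst h; exact IsSubnormal.top
    · have hlt := Group.normalizerCondition_of_isNilpotent H (lt_top_iff_ne_top.2 h)
      exact IsSubnormal.step H _ hlt.le (ih _ hlt) inferInstance

/-- A subgroup of a normal nilpotent subgroup of a finite group is subnormal. -/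
theorem isSubnormal_of_le_nilpotent [Finite G] {H F : Subgroup G} [F.Normal]
    (hF : Group.IsNilpotent F) (h : H ≤ F) : H.IsSubnormal :=
  IsSubnormal.trans h (isSubnormal_of_isNilpotent _) (Normal.isSubnormal inferInstance)

end H23
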