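import Cfsg.Agent.H16.Jordan
import Cfsg.Agent.H20.Grp2
import Cfsg.Agent.H29.SylN
import Cfsg.Agent.H29.Sym2
import Cfsg.Agent.H10.Small
import Cfsg.Agent.H9.InvCount

/-! Permutation groups containing long cycles: `prim_of_cycle`, `witt`, `conj_mem_of_full`, `alt_le_seven`,
`alt_le_thirteen` (degree `p + 2` with a `p`-cycle), `closure_iso_alt`. -/

set_option autoImplicit false
set_option linter.unusedSectionVars false

namespace H23

open Subgroup Equiv Equiv.Perm H20 MulAction H16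
open scoped Pointwise

variable {Ω : Type*} [Fintype Ω] [DecidableEq Ω] {G : Subgroup (Perm Ω)}

theorem prim_of_cycle [IsPretransitive G Ω] {y : Perm Ω} (hy : y.IsCycle) (hq : y.support.card.Prime) (hG : y ∈ G)
    (h : Fintype.card Ω < 2 * y.support.card) : IsPreprimitive G Ω := by
  classical
  haveI := Perm.isPretransitive_of_isCycle_mem hy hG
  have e : Nat.card (SubMulAction.ofFixingSubgroup G ((y.support : Set Ω)ᶜ)) = y.support.card := by
    rw [Nat.card_eq_fintype_card, Fintype.card_subtype]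
    exact congr_arg _ (by ext x; simp [SubMulAction.mem_ofFixingSubgroup_iff])
  haveI := IsPreprimitive.of_prime_card (G := fixingSubgroup G ((y.support : Set Ω)ᶜ)) (e ▸ hq)
  refine IsPreprimitive.of_card_lt (f := SubMulAction.ofFixingSubgroup_equivariantMap G ((y.support : Set Ω)ᶜ)) ?_
  rwa [← Nat.card_coe_set_eq, Nat.card_range_of_injective SubMulAction.ofFixingSubgroup_equivariantMap_injective, e,
    Nat.card_eq_fintype_card]

theorem witt {r : ℕ} [Fact r.Prime] [IsPretransitive G Ω] {R : Subgroup (Perm Ω)} (h : Syl r R G) {a b : Ω}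
    (ha : ∀ g ∈ R, g a = a) (hb : ∀ g ∈ R, g b = b) : ∃ w ∈ G ⊓ normalizer (R : Set (Perm Ω)), w a = b := by
  obtain ⟨⟨g, hg⟩, rfl⟩ := exists_smul_eq G a b
  obtain ⟨k, hk, h1⟩ := (h.mono (L := G ⊓ stabilizer _ (g a)) (le_inf h.le hb) inf_le_left).exists_conj
    (L := R.map (MulAut.conj g).toMonoidHom) (by
      rintro _ ⟨x, hx, rfl⟩
      exact mem_inf.2 ⟨mul_mem (mul_mem hg (h.le hx)) (inv_mem hg), by simp [ha x hx]⟩) (h.pgroup.map _)
  exact ⟨k * g, ⟨mul_mem hk.1 hg, mem_normalizer_of_conj fun x hx => by simpa [mul_assoc] using h1 _ ⟨x, hx, rfl⟩⟩, hk.2⟩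

theorem conj_mem_of_full {p k : ℕ} [hp : Fact p.Prime] (h1 : p ^ k ∣ Nat.card G)
    (h2 : ¬ p ^ (k + 1) ∣ (Fintype.card Ω).factorial) {c : Perm Ω} (hc : orderOf c = p) : ∃ g, g * c * g⁻¹ ∈ G := by
  obtain ⟨Q, hQ⟩ := exists_syl p G
  have h3 : p ^ k ∣ Nat.card Q := by
    refine (Nat.Coprime.pow_left _ (hp.out.coprime_iff_not_dvd.2 hQ.not_dvd)).dvd_of_dvd_mul_left ?_
    rwa [← Nat.card_congr (subgroupOfEquivOfLe hQ.le).toEquiv, relIndex, index_mul_card]
  obtain ⟨g, -, hg⟩ := (syl_of_not_dvd le_top hQ.pgroup fun h => h2 (by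
    rw [← Nat.card_eq_fintype_card, ← Nat.card_perm, ← Q.card_mul_index, pow_succ]
    exact Nat.mul_dvd_mul h3 (relIndex_top_right Q ▸ h))).exists_conj (L := zpowers c) le_top
      (IsPGroup.of_card (n := 1) (by rw [Nat.card_zpowers, hc, pow_one]))
  exact ⟨g, hQ.le (hg c (mem_zpowers c))⟩

theorem exists_cycle {p : ℕ} (h2 : 2 ≤ p) (h : p ≤ Fintype.card Ω) : ∃ c : Perm Ω, c.IsCycle ∧ c.support.card = p := by
  obtain ⟨c, hc⟩ := (exists_with_cycleType_iff Ω (m := {p})).2 ⟨by simpa using h, by simpa using h2⟩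
  exact ⟨c, card_cycleType_eq_one.1 (by simp [hc]), by simpa [hc] using c.sum_cycleType.symm⟩

theorem alt_le_of_full (hG : IsPreprimitive G Ω) {p k : ℕ} [hp : Fact p.Prime] (h1 : p ^ k ∣ Nat.card G)
    (h2 : ¬ p ^ (k + 1) ∣ (Fintype.card Ω).factorial) (h3 : p + 3 ≤ Fintype.card Ω) : alternatingGroup Ω ≤ G := by
  obtain ⟨c, h4, h5⟩ := exists_cycle (Ω := Ω) hp.out.two_le (by omega)
  obtain ⟨g, hg⟩ := conj_mem_of_full h1 h2 (h4.orderOf.trans h5)
  exact jordan_prime_cycle hG hp.out h3 h4.conj (card_support_conj.trans h5) hg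

theorem index_fixing (hG : IsPreprimitive G Ω) {x : Perm Ω} (hx : x.IsCycle) (hp : x.support.card.Prime) (hxG : x ∈ G)
    (h : Fintype.card Ω = x.support.card + 2) (S : Finset Ω) (hS : S.card = 3) :
    (fixingSubgroup G (S : Set Ω)).index = (Fintype.card Ω).choose 3 * 6 := by
  have := (transitive_of_cycle hG hp (by omega) hx rfl hxG).isMultiplyPretransitive
  rw [show Fintype.card Ω - x.support.card + 1 = (S : Set Ω).ncard by rw [Set.ncard_coe_finset]; omega] at this
  rw [this.index_of_fixingSubgroup_eq, Set.ncard_coe_finset, hS, Nat.card_eq_fintype_card]; rfl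

theorem alt_le_seven (hG : IsPreprimitive G Ω) (h7 : Fintype.card Ω = 7) (hA : G ≤ alternatingGroup Ω) {x : Perm Ω}
    (hx : x.IsCycle) (h5 : x.support.card = 5) (hxG : x ∈ G) : alternatingGroup Ω ≤ G := by
  have h1 := index_fixing hG hx (by rw [h5]; norm_num) hxG (by omega)
  rw [h7] at h1
  obtain ⟨S, -, hS⟩ := Finset.exists_subset_card_eq (s := (Finset.univ : Finset Ω)) (n := 3) (by simp [h7])
  obtain ⟨⟨t, ht⟩, h2⟩ := exists_prime_orderOf_dvd_card' (G := G) 2 (Dvd.dvd.trans (by rw [h1 S hS]; decide)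
    (fixingSubgroup G (S : Set Ω)).index_dvd_card)
  have h3 : t.support.card ≤ 4 := by
    rw [orderOf_mk] at h2
    obtain ⟨n, hn⟩ := cycleType_prime_order (σ := t) (h2 ▸ Nat.prime_two)
    have a1 := t.sum_cycleType
    have a2 := t.sign_of_cycleType
    have a3 := t.support.card_le_univ
    rw [mem_alternatingGroup.1 (hA ht), hn, h2] at a2
    rw [hn, h2, Multiset.sum_replicate, smul_eq_mul] at a1
    by_contra a4
    obtain rfl : n = 2 := by omega
    exact absurd a2 (by decide)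
  obtain ⟨S, h4, hS⟩ := Finset.exists_subset_card_eq (s := t.supportᶜ) (n := 3) (by rw [Finset.card_compl]; omega)
  have h6 := (fixingSubgroup G (S : Set Ω)).orderOf_dvd_natCard (x := ⟨t, ht⟩)
    ((mem_fixingSubgroup_iff G).2 fun y hy => by simpa using h4 hy)
  have h8 := (fixingSubgroup G (S : Set Ω)).index_mul_card
  haveI := alternatingGroup.isSimpleGroup (α := Ω) (by simp [h7])
  haveI : Nontrivial Ω := Fintype.one_lt_card_iff_nontrivial.1 (by omega)
  refine subgroupOf_eq_top.1 (by_contra fun hn => ?_)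
  have h9 := H9.card_dvd_factorial_index hn
  have h10 := (G.subgroupOf (alternatingGroup Ω)).index_mul_card
  rw [Nat.card_congr (subgroupOfEquivOfLe hA).toEquiv, ← h8, h1 S hS] at h10
  rw [nat_card_alternatingGroup, Nat.card_eq_fintype_card (α := Ω), h7] at h9 h10
  obtain ⟨a, ha⟩ := h2 ▸ h6
  rw [ha] at h10
  generalize (G.subgroupOf (alternatingGroup Ω)).index = i at *
  have : i ≤ 6 := by
    simp only [Nat.factorial, Nat.choose] at h10
    rcases a with _ | a <;> nlinarith
  interval_cases i <;> simp [Nat.factorial] at h9 h10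

theorem mem_zpowers_of_comm (hG : IsPreprimitive G Ω) (hn : ¬ alternatingGroup Ω ≤ G) {x c : Perm Ω} (hx : x.IsCycle)
    (h : Fintype.card Ω ≤ x.support.card + 3) (hxG : x ∈ G) (hc : c ∈ G) (e : c * x = x * c) : c ∈ zpowers x := by
  obtain ⟨a, ha⟩ := hx.nonempty_support
  have e' : Commute c x := e
  have h1 : ∀ b, x (c b) = c (x b) := fun b => by rw [← Perm.mul_apply, ← e, Perm.mul_apply]
  obtain ⟨i, hi⟩ := hx.exists_zpow_eq (mem_support.1 ha) (y := c a) (by rw [h1]; exact c.injective.ne (mem_support.1 ha))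
  refine by_contra fun h2 => hn (alternating_le_of_support_le_three hG (mul_mem (inv_mem hc) (zpow_mem hxG i))
    (fun e => h2 ⟨i, (inv_mul_eq_one.1 e).symm⟩) ((Finset.card_le_card (t := x.supportᶜ) fun b hb => ?_).trans
      (by rw [Finset.card_compl]; omega)))
  refine Finset.mem_compl.2 fun hb' => mem_support.1 hb ?_
  obtain ⟨j, rfl⟩ := hx.exists_zpow_eq (mem_support.1 ha) (mem_support.1 hb')
  rw [Perm.mul_apply, Perm.inv_eq_iff_eq, ← Perm.mul_apply, ← Perm.mul_apply c, (e'.zpow_right j).eq,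
    (Commute.zpow_zpow_self x i j).eq, Perm.mul_apply, Perm.mul_apply, hi]

theorem syl_zpowers {p : ℕ} [Fact p.Prime] {x : Perm Ω} (h : orderOf x = p) (hx : x ∈ G) (h2 : ¬ p ^ 2 ∣ Nat.card G) :
    Syl p (zpowers x) G :=
  syl_of_not_dvd (zpowers_le.2 hx) (IsPGroup.of_card (n := 1) (by rw [Nat.card_zpowers, h, pow_one])) fun e => h2 (by
    rw [← ((zpowers x).subgroupOf G).index_mul_card, Nat.card_congr (subgroupOfEquivOfLe (zpowers_le.2 hx)).toEquiv,
      Nat.card_zpowers, h, sq]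
    exact Nat.mul_dvd_mul_right e p)

theorem not_five_dvd (hG : IsPreprimitive G Ω) (hn : ¬ alternatingGroup Ω ≤ G) (h : Fintype.card Ω = 13) :
    ¬ 5 ∣ Nat.card G := fun h5 => by
  haveI : Fact (Nat.Prime 5) := ⟨by norm_num⟩
  haveI : Fact (Nat.Prime 3) := ⟨by norm_num⟩
  obtain ⟨⟨u, hu⟩, h1⟩ := exists_prime_orderOf_dvd_card' (G := G) 5 h5
  rw [orderOf_mk] at h1
  have h2 := syl_zpowers h1 hu fun e => hn (alt_le_of_full hG e (by rw [h]; decide) (by omega))
  have h3 : u.support.card = 10 := by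
    obtain ⟨n, e⟩ := cycleType_prime_order (σ := u) (h1 ▸ Nat.prime_five)
    have a1 := u.sum_cycleType
    have a3 := u.support.card_le_univ
    rw [e, h1, Multiset.sum_replicate, smul_eq_mul] at a1
    have : n ≠ 0 := by
      rintro rfl
      exact hn (jordan_prime_cycle hG Nat.prime_five (by omega) (card_cycleType_eq_one.1 (by simp [e])) (by omega) hu)
    omega
  have h4 : u.supportᶜ.card = 3 := by rw [Finset.card_compl]; omega
  obtain ⟨a, ha⟩ := Finset.card_pos.1 (h4 ▸ three_pos)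
  have h6 : ∀ {b}, b ∈ u.supportᶜ ↔ ∀ g ∈ zpowers u, g b = b := by
    simp only [Finset.mem_compl, notMem_support]
    exact ⟨by rintro h _ ⟨i, rfl⟩; exact zpow_apply_eq_self_of_apply_eq_self h i, fun h => h u (mem_zpowers u)⟩
  have h7 : orbit (G ⊓ normalizer (zpowers u : Set (Perm Ω)) :) a = u.supportᶜ := by
    refine Set.Subset.antisymm ?_ fun b hb => ?_
    · rintro _ ⟨⟨w, -, hw⟩, rfl⟩
      refine Finset.mem_coe.2 (h6.2 fun g hg => ?_)
      have := h6.1 ha _ (conj_mem_of_mem_normalizer (inv_mem hw) hg)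
      simpa [Equiv.symm_apply_eq, Subgroup.smul_def] using this
    · obtain ⟨w, hw, e⟩ := witt h2 (h6.1 ha) (h6.1 hb)
      exact ⟨⟨w, hw⟩, e⟩
  obtain ⟨⟨v, hv⟩, h8⟩ := exists_prime_orderOf_dvd_card' (G := (G ⊓ normalizer (zpowers u : Set (Perm Ω)) :)) 3
    ⟨_, by rw [← card_orbit_mul_card_stabilizer a, h7, Nat.card_coe_set_eq, Set.ncard_coe_finset, h4]⟩
  rw [orderOf_mk] at h8
  have h9 := H29.mem_cent_of_coprime (zpowers u) (by rw [Nat.card_zpowers, h1]; norm_num) hv.2
    (by rw [h8, Nat.card_zpowers, h1]; norm_num)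
  have h10 : ∀ b, u (v b) = v (u b) := fun b => by
    rw [← Perm.mul_apply, h9 u (mem_zpowers u), Perm.mul_apply]
  have h11 := H29.ncard_fix_modEq (y := v) (p := 3) (n := 1) (by rw [← h8]; simp) (u.support : Set Ω) fun b hb => by
    simpa [h10] using hb
  have h12 := H29.ncard_fix_modEq (y := u) (p := 5) (n := 1) (by rw [← h1]; simp) {b ∈ (u.support : Set Ω) | v • b = b}
    fun b hb => ⟨by simpa using hb.1, by simpa [← h10] using hb.2⟩
  rw [show {b ∈ {b ∈ (u.support : Set Ω) | v • b = b} | u • b = b} = ∅ from Set.eq_empty_of_forall_notMem fun b hb =>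
    mem_support.1 hb.1.1 hb.2, Set.ncard_empty] at h12
  have h13 := Set.ncard_le_ncard (Set.sep_subset (u.support : Set Ω) fun b => v • b = b)
  have h14 := Set.eq_of_subset_of_ncard_le (Set.sep_subset (u.support : Set Ω) fun b => v • b = b) (by
    rw [Set.ncard_coe_finset, h3] at *
    unfold Nat.ModEq at h11 h12
    omega)
  refine hn (alternating_le_of_support_le_three hG hv.1 (by rintro rfl; simp at h8)
    (h4 ▸ Finset.card_le_card fun b hb => Finset.mem_compl.2 fun hb' => mem_support.1 hb (h14.ge hb').2))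

theorem alt_le_thirteen (hG : IsPreprimitive G Ω) (h : Fintype.card Ω = 13) {x : Perm Ω}
    (hx : x.IsCycle) (h11 : x.support.card = 11) (hxG : x ∈ G) : alternatingGroup Ω ≤ G := by_contra fun hn => by
  haveI : Fact (Nat.Prime 11) := ⟨by norm_num⟩
  haveI : Fact (Nat.Prime 3) := ⟨by norm_num⟩
  have h1 := hx.orderOf.trans h11
  have hd : Nat.card G ∣ (13 : ℕ).factorial := by
    rw [← h, ← Nat.card_eq_fintype_card, ← Nat.card_perm]; exact card_subgroup_dvd_card G
  have h2 := syl_zpowers h1 hxG fun e => absurd (e.trans hd) (by decide)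
  obtain ⟨a, b, hab, e⟩ := Finset.card_eq_two.1 (show x.supportᶜ.card = 2 by rw [Finset.card_compl]; omega)
  have h3 : ∀ b ∈ x.supportᶜ, ∀ g ∈ zpowers x, g b = b := by
    rintro b hb _ ⟨i, rfl⟩
    exact zpow_apply_eq_self_of_apply_eq_self (by simpa using hb) i
  have h4 := h3 a (by simp [e])
  obtain ⟨w, hw, e'⟩ := witt h2 h4 (h3 b (by simp [e]))
  set N := G ⊓ normalizer (zpowers x : Set (Perm Ω))
  have h5 : centralizer (zpowers x : Set (Perm Ω)) ⊓ N = zpowers x := le_antisymm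
    (fun c hc => mem_zpowers_of_comm hG hn hx (by omega) hxG hc.2.1 (hc.1 x (mem_zpowers x)).symm)
    (le_inf (le_centralizer _) (le_inf h2.le le_normalizer))
  have h6 : (zpowers x).relIndex N ∣ 2 := by
    have a1 := H29.relIndex_cent_dvd (zpowers x) (by rw [Nat.card_zpowers, h1]; norm_num)
    rw [Nat.card_zpowers, h1] at a1
    have a2 : (zpowers x).relIndex N ∣ 10 := by
      haveI : ((centralizer (zpowers x : Set (Perm Ω))).subgroupOf (normalizer (zpowers x : Set (Perm Ω)))).Normal := by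
        rw [← (zpowers x).normalizerMonoidHom_ker]; infer_instance
      rw [← h5, inf_relIndex_right, ← relIndex_subgroupOf (inf_le_right : N ≤ _)]
      exact (relIndex_dvd_index_of_normal _ _).trans a1
    have a3 : (zpowers x).relIndex N ∣ Nat.card G := (index_dvd_card _).trans (card_dvd_of_le inf_le_left)
    exact (Nat.Coprime.symm ((Nat.Prime.coprime_iff_not_dvd Nat.prime_five).2 fun e =>
      not_five_dvd hG hn h (e.trans a3))).dvd_of_dvd_mul_right a2
  have h7 : N ⊓ stabilizer _ a ≤ zpowers x := by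
    rw [← relIndex_mul_relIndex _ (N ⊓ stabilizer _ a) _ (le_inf (h5.ge.trans inf_le_right) h4) inf_le_left] at h6
    have a1 : (N ⊓ stabilizer _ a).relIndex N ≠ 1 := fun e => hab ((relIndex_eq_one.1 e hw).2.symm.trans e')
    rw [((Nat.dvd_prime Nat.prime_two).1 (Dvd.intro_left _ rfl |>.trans h6)).resolve_left a1] at h6
    exact relIndex_eq_one.1 (Nat.dvd_one.1 (Nat.dvd_of_mul_dvd_mul_right two_pos h6))
  set H := G ⊓ stabilizer (Perm Ω) a
  obtain ⟨P, hP⟩ := (h2.mono (L := H) (le_inf h2.le h4) inf_le_left).exists_sylow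
  have hP' : ∀ {g : H}, g ∈ (P : Subgroup H) ↔ g.1 ∈ zpowers x := by rw [hP]; rfl
  have h8 := H29.not_dvd_card_sylow_of_burnside (q := 3) P (fun n hn g hg => Subtype.ext (
    le_centralizer (zpowers x) (h7 ⟨⟨n.2.1, mem_normalizer_of_conj fun y hy => hP'.1
      (conj_mem_of_mem_normalizer hn ((hP' (g := ⟨y, h2.le hy, h4 y hy⟩)).2 hy))⟩, n.2.2⟩) _ (hP'.1 hg))) (by decide)
  obtain ⟨R, hR⟩ := P.2.nonempty_fixed_point_of_prime_not_dvd_card (Sylow 3 H) h8
  have h9 := H10.card_dvd_card_sub_one_of_conj_free (P : Subgroup H) R (fun g hg s hs =>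
    conj_mem_of_mem_normalizer (Sylow.smul_eq_iff_mem_normalizer.1 (hR ⟨g, hg⟩)) hs) fun g hg s hs a1 a2 =>
    by_contra fun a3 => by
      haveI : Fact (Nat.card (zpowers x)).Prime := ⟨by rw [Nat.card_zpowers, h1]; norm_num⟩
      have a4 := ((centralizer {s.1}).subgroupOf (zpowers x)).eq_bot_or_eq_top_of_prime_card.resolve_left fun e =>
        a3 (by simpa using ((eq_bot_iff_forall _).1 e ⟨g, hP'.1 hg⟩
          (mem_centralizer_singleton_iff.2 (congrArg Subtype.val a2))))
      have a5 := mem_zpowers_of_comm hG hn hx (by omega) hxG s.2.1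
        (mem_centralizer_singleton_iff.1 (subgroupOf_eq_top.1 a4 (mem_zpowers x))).symm
      exact a1 (disjoint_def.1 (IsPGroup.disjoint_of_ne 11 3 (by decide) _ _ P.2 R.2) (hP'.2 a5) hs)
  obtain ⟨j, hj⟩ := R.2.exists_card_eq
  rw [hP, Nat.card_congr (subgroupOfEquivOfLe (le_inf h2.le h4)).toEquiv, Nat.card_zpowers, h1, hj] at h9
  have h10 : j < 5 := by_contra fun e => hn (alt_le_of_full hG (p := 3) (k := 5) ((pow_dvd_pow 3 (by omega)).trans
    (hj ▸ (card_subgroup_dvd_card _).trans (card_dvd_of_le inf_le_left))) (by rw [h]; decide) (by omega))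
  obtain rfl : j = 0 := by interval_cases j <;> simp at h9 ⊢
  obtain ⟨S, -, hS⟩ := Finset.exists_subset_card_eq (s := (Finset.univ : Finset Ω)) (n := 3) (by simp [h])
  have h12 := (fixingSubgroup G (S : Set Ω)).index_dvd_card
  have h13 := (R : Subgroup H).card_mul_index
  rw [index_fixing hG hx (by rw [h11]; norm_num) hxG (by omega) S hS, ← card_mul_card_stabilizer a,
    show stabilizer G a = H.subgroupOf G from Subgroup.ext fun g => ⟨fun e => ⟨g.2, e⟩, fun e => e.2⟩,
    Nat.card_congr (subgroupOfEquivOfLe inf_le_left).toEquiv, ← h13, hj, Nat.card_eq_fintype_card, h] at h12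
  have := R.not_dvd_index
  simp only [Nat.choose] at h12
  omega

theorem closure_eq_alt {x y : Perm Ω} {p q : ℕ} (hp : p.Prime) (hq : q.Prime) (hx : orderOf x = p) (hy : orderOf y = q)
    (h3 : 3 ≤ p) (hpq : p < q) (h1 : Fintype.card Ω ≤ 2 * p) (h2 : ∀ a, x a ≠ a ∨ y a ≠ a)
    (h : x.IsCycle ∧ (p + 3 ≤ q ∨ p = 3 ∨ p = 5 ∨ p = 11) ∨ q + 3 ≤ x.support.card) :
    closure {x, y} = alternatingGroup Ω := by
  obtain ⟨hc, hs⟩ := isCycle_of_prime_order_lt hq hy (by omega)
  have hA : closure {x, y} ≤ alternatingGroup Ω := by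
    have : ∀ {r : ℕ} {z : Perm Ω}, r.Prime → 3 ≤ r → orderOf z = r → z ∈ alternatingGroup Ω := fun {r z} a1 a2 a3 => by
      have := congrArg Perm.sign (a3 ▸ pow_orderOf_eq_one z)
      rwa [map_pow, Int.units_pow_eq_pow_mod_two, Nat.odd_iff.1 (a1.odd_of_ne_two (by omega)), pow_one, map_one] at this
    rw [closure_le, Set.pair_subset_iff]
    exact ⟨this hp h3 hx, this hq (by omega) hy⟩
  have hxG : x ∈ closure {x, y} := Subgroup.subset_closure (by simp)
  have hyG : y ∈ closure {x, y} := Subgroup.subset_closure (by simp)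
  generalize closure {x, y} = G at *
  have h4 : ∀ a, ∃ g ∈ G, g a ∈ y.support := fun a => by
    rcases h2 a with e | e
    swap; exact ⟨1, one_mem _, mem_support.2 e⟩
    have a1 : (x.cycleOf a).support.card = p := by
      obtain ⟨n, hn⟩ := cycleType_prime_order (σ := x) (hx ▸ hp)
      rw [← hx]
      exact Multiset.eq_of_mem_replicate (hn ▸ show _ ∈ x.cycleType from Multiset.mem_map_of_mem
        (Finset.card ∘ support) (cycleOf_mem_cycleFactorsFinset_iff.2 (mem_support.2 e)))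
    obtain ⟨b, b1, b2⟩ := Finset.not_disjoint_iff.1 (fun e : _root_.Disjoint (x.cycleOf a).support y.support => by
      have := Finset.card_le_univ (Finset.disjUnion _ _ e)
      rw [Finset.card_disjUnion] at this
      omega)
    obtain ⟨i, rfl⟩ := (mem_support_cycleOf_iff' e).1 b1
    exact ⟨_, zpow_mem hxG i, b2⟩
  haveI : IsPretransitive G Ω := ⟨fun a b => by
    obtain ⟨g, a1, a2⟩ := h4 a
    obtain ⟨k, a3, a4⟩ := h4 b
    obtain ⟨i, e⟩ := hc.exists_zpow_eq (mem_support.1 a2) (mem_support.1 a4)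
    exact ⟨⟨k⁻¹ * (y ^ i * g), mul_mem (inv_mem a3) (mul_mem (zpow_mem hyG i) a1)⟩, by simp [Subgroup.smul_def, e]⟩⟩
  have hG := prim_of_cycle hc (hs ▸ hq) hyG (by omega)
  have h5 := y.support.card_le_univ
  have h6 := x.support.card_le_univ
  refine le_antisymm hA ?_
  rcases h with ⟨h7, h⟩ | h
  swap; exact jordan_prime_cycle hG hq (by omega) hc hs hyG
  have h8 := h7.orderOf.symm.trans hx
  by_cases e : p + 3 ≤ Fintype.card Ω
  · exact jordan_prime_cycle hG hp e h7 h8 hxG
  rcases h with h | rfl | rfl | rfl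
  · omega
  · exact alternating_le_of_support_le_three hG hxG h7.ne_one h8.le
  · have : q ≠ 6 := by rintro rfl; norm_num at hq
    exact alt_le_seven hG (by omega) hA h7 h8 hxG
  · have : q ≠ 12 := by rintro rfl; norm_num at hq
    exact alt_le_thirteen hG (by omega) h7 h8 hxG

theorem closure_iso_alt {x y : Perm Ω} {p q : ℕ} (hp : p.Prime) (hq : q.Prime) (hx : orderOf x = p) (hy : orderOf y = q)
    (h3 : 3 ≤ p) (hpq : p < q) (h1 : Fintype.card Ω ≤ 2 * p)
    (h : x.IsCycle ∧ (p + 3 ≤ q ∨ p = 3 ∨ p = 5 ∨ p = 11) ∨ q + 3 ≤ x.support.card) :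
    ∃ d, 5 ≤ d ∧ Nonempty (closure {x, y} ≃* alternatingGroup (Fin d)) := by
  classical
  obtain ⟨S, hS⟩ : ∃ S : Ω → Prop, ∀ a, S a ↔ x a ≠ a ∨ y a ≠ a := ⟨_, fun _ => Iff.rfl⟩
  have a1 : ∀ {z : Perm Ω}, (∀ a, z a ≠ a → S a) → ∃ z' : Perm (Subtype S), ofSubtype z' = z :=
    fun {z} h => ⟨z.subtypePerm fun a => by
      by_cases e : z a = a
      · rw [e]
      · exact iff_of_true (h _ (z.injective.ne e)) (h _ e), ofSubtype_subtypePerm _ h⟩
  obtain ⟨x, rfl⟩ := a1 (z := x) fun a e => (hS a).2 (Or.inl e)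
  obtain ⟨y, rfl⟩ := a1 (z := y) fun a e => (hS a).2 (Or.inr e)
  have a3 := (isCycle_of_prime_order_lt hq hy (by omega)).2
  rw [orderOf_injective _ ofSubtype_injective] at hx hy
  rw [← card_cycleType_eq_one, cycleType_ofSubtype, card_cycleType_eq_one, support_ofSubtype, Finset.card_map] at h
  have a2 := closure_eq_alt hp hq hx hy h3 hpq ((Fintype.card_subtype_le _).trans h1)
    (fun a => ((hS a).1 a.2).imp (fun e e' => e (by rw [ofSubtype_apply_coe, e']))
      (fun e e' => e (by rw [ofSubtype_apply_coe, e']))) h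
  refine ⟨Fintype.card (Subtype S), ?_, ⟨(MulEquiv.subgroupCongr ?_).trans (((alternatingGroup _).equivMapOfInjective
    ofSubtype ofSubtype_injective).symm.trans (Fintype.equivFin _).altCongrHom)⟩⟩
  · have a4 := y.support.card_le_univ
    have : q ≠ 4 := by rintro rfl; norm_num at hq
    rw [support_ofSubtype, Finset.card_map] at a3
    omega
  · rw [← a2, MonoidHom.map_closure, Set.image_pair]

theorem closure_iso_map {G H : Type*} [Group G] [Group H] (f : G →* H) (hf : Function.Injective f) (x y : G) :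
    Nonempty (closure {x, y} ≃* closure {f x, f y}) :=
  ⟨((closure {x, y}).equivMapOfInjective f hf).trans
    (MulEquiv.subgroupCongr (by rw [MonoidHom.map_closure, Set.image_pair]))⟩

theorem closure_iso_alt_six (h6 : Fintype.card Ω = 6) {x y : Perm Ω} (hx : orderOf x = 3) (hy : orderOf y = 5) :
    ∃ d, 5 ≤ d ∧ Nonempty (closure {x, y} ≃* alternatingGroup (Fin d)) := by
  have key : ∀ {x y : Perm Ω}, x.IsThreeCycle → orderOf y = 5 →
      ∃ d, 5 ≤ d ∧ Nonempty (closure {x, y} ≃* alternatingGroup (Fin d)) := fun hx hy =>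
    closure_iso_alt Nat.prime_three Nat.prime_five hx.orderOf hy le_rfl (by omega) (by omega) (Or.inl ⟨hx.isCycle, by simp⟩)
  rcases H29.cycleType_three_six h6 hx with h | h
  · exact key h hy
  obtain ⟨τ, h1, -⟩ := H29.index_six_cases h6
  rcases H29.aut_six_cases h6 τ⁻¹ with ⟨σ, h2⟩ | h2
  · obtain ⟨a⟩ := Fintype.card_pos_iff.1 (by omega : 0 < Fintype.card Ω)
    refine absurd (Subgroup.ext fun g => ?_) (h1 (σ a) a)
    have : τ g = σ⁻¹ * g * σ := by
      have := h2 (τ g)
      rw [MulAut.inv_apply_self] at this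
      conv_rhs => rw [this]
      group
    simp [this, Equiv.symm_apply_eq]
  obtain ⟨c, h3, h4⟩ := exists_cycle (Ω := Ω) (p := 3) (by omega) (by omega)
  obtain ⟨σ, h5⟩ := isConj_iff.1 (isConj_iff_cycleType_eq.2 ((h2 c (card_support_eq_three_iff.1 h4)).trans h.symm))
  obtain ⟨d, h7, ⟨e⟩⟩ := key (x := τ x) (y := τ y) (card_support_eq_three_iff.1 (by
    rw [← h5, map_mul, map_mul, map_inv, MulAut.apply_inv_self, card_support_conj, h4])) (by rw [τ.orderOf_eq, hy])
  exact ⟨d, h7, ⟨(closure_iso_map τ.toMonoidHom τ.injective x y).some.trans e⟩⟩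

end H23
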