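import Cfsg.Agent.H23.QS
import Cfsg.Agent.H18.Prod

/-! Direct decomposability of the Sylow 2-subgroups of alternating groups in the wreath model:
`Dec`, `PA`, `cen_el`, `not_dec_even`, `not_dec_odd`, `dec_odd`, `dec_two`, `exists_restrict`. -/

set_option autoImplicit false
set_option linter.unusedSectionVars false

namespace H23.Wr

open Subgroup Equiv Equiv.Perm Sum H20 H18 MulAction

/-- directly decomposable -/
def Dec {G : Type*} [Group G] (P : Subgroup G) : Prop := ∃ S₁ S₂ : Subgroup G, S₁ ≠ ⊥ ∧ S₂ ≠ ⊥ ∧ DP S₁ S₂ P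

theorem dec_map {G G' : Type*} [Group G] [Group G'] {P : Subgroup G} {f : G →* G'} (hf : Function.Injective f) :
    Dec (P.map f) ↔ Dec P := by
  have key : ∀ S₁ S₂ : Subgroup G, DP (S₁.map f) (S₂.map f) (P.map f) ↔ DP S₁ S₂ P := fun S₁ S₂ =>
    ⟨fun h => ⟨fun x hx y hy => hf (by simpa using h.cent (mem_map_of_mem f hx) _ (mem_map_of_mem f hy)),
      map_injective hf (by rw [map_inf _ _ _ hf, h.inf, Subgroup.map_bot]), map_injective hf (by rw [Subgroup.map_sup, h.sup])⟩,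
    fun h => ⟨by
      rintro _ ⟨x, hx, rfl⟩ _ ⟨y, hy, rfl⟩
      rw [← map_mul, ← map_mul, h.cent hx y hy], by rw [← map_inf _ _ _ hf, h.inf, Subgroup.map_bot], by rw [← Subgroup.map_sup, h.sup]⟩⟩
  refine ⟨fun ⟨S₁, S₂, a, b, c⟩ => ?_, fun ⟨S₁, S₂, a, b, c⟩ =>
    ⟨_, _, mt (map_eq_bot_iff_of_injective _ hf).1 a, mt (map_eq_bot_iff_of_injective _ hf).1 b, (key _ _).2 c⟩⟩
  have d := map_comap_eq_self ((le_sup_left.trans c.sup.le).trans (map_le_range f P))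
  have e := map_comap_eq_self ((le_sup_right.trans c.sup.le).trans (map_le_range f P))
  exact ⟨S₁.comap f, S₂.comap f, fun k => a (by rw [← d, k, Subgroup.map_bot]), fun k => b (by rw [← e, k, Subgroup.map_bot]),
    (key _ _).1 (by rwa [d, e])⟩

theorem exists_restrict {Ω : Type*} [Fintype Ω] [DecidableEq Ω] {p : ℕ} {A : Subgroup (Perm Ω)} (hA : Syl p A ⊤) {O : Set Ω}
    (hO : Inv A O) {σ : Perm Ω} (h : σ ∈ A) : ∃ τ ∈ A, (∀ z ∈ O, τ z = σ z) ∧ ∀ z ∉ O, τ z = z := by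
  classical
  have h1 : Inv A Oᶜ := Set.compl_eq_univ_sdiff O ▸ Inv.diff (fun _ _ _ _ => trivial) hO
  let B : Subgroup (Perm Ω) := ⨅ S ∈ ({O, Oᶜ} : Set (Set Ω)),
    { carrier := {τ | Inv A S → ∃ a ∈ A, ∀ z ∈ S, τ z = a z}
      one_mem' := fun _ => ⟨1, one_mem _, fun _ _ => rfl⟩
      mul_mem' := fun h1 h2 e => (h1 e).elim fun a ha => (h2 e).elim fun b hb => ⟨a * b, mul_mem ha.1 hb.1, fun z hz => by
        rw [Perm.mul_apply, hb.2 z hz, ha.2 _ (e b hb.1 z hz), Perm.mul_apply]⟩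
      inv_mem' := fun h1 e => (h1 e).elim fun a ha => ⟨a⁻¹, inv_mem ha.1, fun z hz => by
        rw [Perm.inv_eq_iff_eq, ha.2 _ (e _ (inv_mem ha.1) z hz)]; simp⟩ }
  have h2 : ∀ τ, τ ∈ B ↔ (∃ a ∈ A, ∀ z ∈ O, τ z = a z) ∧ ∃ a ∈ A, ∀ z ∈ Oᶜ, τ z = a z := fun τ => by
    simp only [B, mem_iInf, Set.mem_insert_iff, Set.mem_singleton_iff, forall_eq_or_imp, forall_eq]
    exact and_congr ⟨fun e => e hO, fun e _ => e⟩ ⟨fun e => e h1, fun e _ => e⟩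
  have h3 : ∀ {S}, Inv A S → ∀ {τ a : Perm Ω}, a ∈ A → (∀ z ∈ S, τ z = a z) → ∀ k : ℕ, ∀ z ∈ S, (τ ^ k) z = (a ^ k) z :=
    fun {S} e τ a ha d k z hz => by
      induction k with
      | zero => rfl
      | succ k ih => rw [pow_succ', pow_succ', Perm.mul_apply, ih, d _ (e _ (pow_mem ha k) z hz), Perm.mul_apply]
  have h4 : B ≤ A := hA.2.2 B (fun a ha => (h2 a).2 ⟨⟨a, ha, fun _ _ => rfl⟩, a, ha, fun _ _ => rfl⟩) le_top fun τ => by
    obtain ⟨⟨a, a1, a2⟩, b, b1, b2⟩ := (h2 τ).1 τ.2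
    obtain ⟨i, c⟩ := hA.2.1 ⟨a, a1⟩
    obtain ⟨j, d⟩ := hA.2.1 ⟨b, b1⟩
    refine ⟨i + j, Subtype.ext (Equiv.ext fun z => ?_)⟩
    by_cases e : z ∈ O
    · rw [Subgroup.coe_pow, h3 hO a1 a2 _ z e, pow_add, pow_mul, show a ^ p ^ i = 1 from congrArg Subtype.val c, one_pow]; rfl
    · rw [Subgroup.coe_pow, h3 h1 b1 b2 _ z e, pow_add, pow_mul', show b ^ p ^ j = 1 from congrArg Subtype.val d, one_pow]; rfl
  have h5 : ∀ z, σ z ∈ O ↔ z ∈ O := fun z => ⟨fun e => by_contra fun d => h1 σ h z d e, hO σ h z⟩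
  exact ⟨ofSubtype (σ.subtypePerm h5), h4 ((h2 _).2 ⟨⟨σ, h, fun z => ofSubtype_subtypePerm_of_mem h5⟩, 1, one_mem _,
    fun z => ofSubtype_apply_of_not_mem _⟩), fun z => ofSubtype_subtypePerm_of_mem h5, fun z => ofSubtype_apply_of_not_mem _⟩

variable {α β : Type*} [Fintype α] [DecidableEq α] [Fintype β] [DecidableEq β] {A : Subgroup (Perm α)} {σ ρ : Perm α}
  {v w : α → ZMod 2} {x y : α} {g : Perm (α × ZMod 2 ⊕ β)} {S₁ S₂ : Subgroup (Perm (α × ZMod 2 ⊕ β))} {O : Set α}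

theorem sign_mon : sign (mon β σ 1 v) = 1 ↔ ∑ x, v x = 0 := by
  have : ∀ s : Finset α, ∏ x ∈ s, sign (Equiv.addRight (v x)) = sign (Equiv.addRight (∑ x ∈ s, v x)) := fun s => by
    induction s using Finset.induction_on with
    | empty => rw [Finset.prod_empty, Finset.sum_empty]; decide
    | insert a s h ih =>
      rw [Finset.prod_insert h, Finset.sum_insert h, ih]
      generalize v a = c, ∑ x ∈ s, v x = d
      revert c d; decide
  rw [mon_one_eq, Perm.sign_mul, sign_δ, Int.units_sq, one_mul, sign_el, this]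
  generalize ∑ x, v x = d
  revert d; decide

variable (β A) in
/-- the elements of the Sylow subgroup of the alternating group supported above `O` -/
def PA (O : Set α) : Subgroup (Perm (α × ZMod 2 ⊕ β)) := T 2 β A ⊓ alternatingGroup _ ⊓ fx (inl '' (Oᶜ ×ˢ Set.univ))

theorem mem_P : g ∈ T 2 β A ⊓ alternatingGroup _ ↔ ∃ σ ∈ A, ∃ v, ∑ x, v x = 0 ∧ g = mon β σ 1 v :=
  ⟨fun ⟨⟨σ, h, v, e⟩, d⟩ => ⟨σ, h, v, sign_mon.1 (e ▸ d), e⟩, fun ⟨σ, h, v, d, e⟩ => ⟨⟨σ, h, v, e⟩, e ▸ sign_mon.2 d⟩⟩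

theorem mon_mem_fx : mon β σ 1 v ∈ fx (inl '' (Oᶜ ×ˢ Set.univ)) ↔ ∀ x ∉ O, σ x = x ∧ v x = 0 := by
  simp [mem_fx, forall_and]

theorem mem_PA : g ∈ PA β A O ↔ ∃ σ ∈ A, ∃ v, ∑ x, v x = 0 ∧ g = mon β σ 1 v ∧ ∀ x ∉ O, σ x = x ∧ v x = 0 :=
  ⟨fun ⟨h, e⟩ => let ⟨σ, a, v, b, c⟩ := mem_P.1 h; ⟨σ, a, v, b, c, mon_mem_fx.1 (c ▸ e)⟩,
    fun ⟨σ, a, v, b, c, d⟩ => ⟨mem_P.2 ⟨σ, a, v, b, c⟩, c ▸ mon_mem_fx.2 d⟩⟩

theorem δ_mem_P (h : σ ∈ A) : δ 2 β σ ∈ T 2 β A ⊓ alternatingGroup _ := mem_P.2 ⟨σ, h, 0, by simp, rfl⟩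

theorem nml_PA (h : Inv A O) : PA β A O ⊴ T 2 β A ⊓ alternatingGroup _ := ⟨inf_le_left, norm_inf le_N fun g hg => mem_normalizer_of_conj fun k hk => by
  obtain ⟨σ, a, v, -, rfl⟩ := mem_P.1 hg
  rw [mem_fx] at *
  rintro _ ⟨⟨x, z⟩, ⟨b, -⟩, rfl⟩
  rw [Perm.mul_apply, Perm.mul_apply, hk _ ⟨(σ⁻¹ x, _), ⟨fun e => b (by simpa using h σ a _ e), trivial⟩, by rw [mon_inv, mon_inl]⟩]
  simp⟩

theorem cen_el (h3 : 3 ≤ Fintype.card α) (h : g ∈ Z(T 2 β A ⊓ alternatingGroup _)) :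
    ∃ v, ∑ x, v x = 0 ∧ g = el β v ∧ ∀ σ ∈ A, ∀ x, v (σ x) = v x := by
  obtain ⟨τ, -, v, a, rfl⟩ := mem_P.1 h.1
  have b : ∀ x y, y ≠ x → τ x = x ∨ τ x = y := fun x y e => by
    have c := mul_inv_eq_iff_eq_mul.2 (h.2 _ ⟨el_mem, el_pair_mem (x := x) (y := y) 1⟩).symm
    rw [mon_conj_el] at c
    have := congrFun (el_inj c) (τ x)
    by_contra! d
    simp [Pi.single_apply, d.1, d.2, e.symm] at this
  obtain rfl : τ = 1 := Equiv.ext fun x => by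
    obtain ⟨y, c, -⟩ := exists_third h3 x x
    obtain ⟨z, d, e⟩ := exists_third h3 x y
    exact (b x y c).elim id fun f => (b x z d).resolve_right fun k => e (k.symm.trans f)
  refine ⟨v, a, rfl, fun σ c x => ?_⟩
  have d := mul_inv_eq_iff_eq_mul.2 (h.2 _ (δ_mem_P c))
  simpa using (congrFun (el_inj (δ_conj_el.symm.trans d)) (σ x)).symm

theorem exists_cen (h3 : 3 ≤ Fintype.card α) (hA : IsPGroup 2 A) (h : S₁ ⊴ T 2 β A ⊓ alternatingGroup _) (h1 : S₁ ≠ ⊥) :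
    ∃ v, v ≠ 0 ∧ el β v ∈ S₁ ∧ ∑ x, v x = 0 ∧ ∀ σ ∈ A, ∀ x, v (σ x) = v x := by
  have a : PiGrp {2} (T 2 β A ⊓ alternatingGroup _) := PiGrp.inf_left (by
    obtain ⟨k, e⟩ := hA.exists_card_eq
    exact piGrp_of_card_pow Nat.prime_two (by rw [card_T, e, ← pow_add]))
  obtain ⟨⟨g, b, c⟩, d⟩ := ne_bot_iff_exists_ne_one.1 (a.meet_cent (a.of_le h.le) h.norm h1)
  obtain ⟨v, e, rfl, f⟩ := cen_el h3 ⟨h.le b, c⟩
  exact ⟨v, fun k => d (Subtype.ext ((congrArg _ k).trans el_zero)), b, e, f⟩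

theorem not_dec_odd (h3 : 3 ≤ Fintype.card α) (ho : Odd (Fintype.card α)) (hA : IsPGroup 2 A)
    (h : ∀ y z, y ≠ x → z ≠ x → ∃ σ ∈ A, σ y = z) : ¬ Dec (T 2 β A ⊓ alternatingGroup _) := by
  rintro ⟨S₁, S₂, a, b, c⟩
  obtain ⟨y, d, -⟩ := exists_third h3 x x
  have key : ∀ v : α → ZMod 2, v ≠ 0 → ∑ x, v x = 0 → (∀ σ ∈ A, ∀ x, v (σ x) = v x) → v = 1 - sg x 1 := fun v e f i => by
    have j : ∀ z, z ≠ x → v z = v y := fun z k => (h y z d k).elim fun σ l => l.2 ▸ i σ l.1 y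
    rw [← Finset.add_sum_erase _ _ (Finset.mem_univ x), Finset.sum_congr rfl fun z k => j z (Finset.ne_of_mem_erase k),
      Finset.sum_const, Finset.card_erase_of_mem (Finset.mem_univ x), Finset.card_univ, nsmul_eq_mul,
      (ZMod.natCast_eq_zero_iff_even).2 (Nat.Odd.sub_odd ho odd_one), zero_mul, add_zero] at f
    have k : v y = 1 := (zmod_two_cases _).resolve_left fun k => e (funext fun z => by
      by_cases l : z = x
      exacts [l ▸ f, (j z l).trans k])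
    funext z
    by_cases l : z = x
    · simp [l, f]
    · simp [l, j z l, k]
  obtain ⟨v, d1, d2, d3, d4⟩ := exists_cen h3 hA c.nml_left a
  obtain ⟨w, e1, e2, e3, e4⟩ := exists_cen h3 hA c.nml_right b
  rw [key w e1 e3 e4, ← key v d1 d3 d4] at e2
  exact d1 (el_inj ((mem_bot.1 (c.inf.le ⟨d2, e2⟩)).trans el_zero.symm))

theorem dec_odd [Subsingleton β] (hA : Syl 2 A ⊤) (h1 : ∀ σ ∈ A, σ x = x) (hO : Inv A O) (h2 : x ∉ O) (h3 : O.Nonempty) (h4 : y ∉ O)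
    (h5 : y ≠ x) : Dec (T 2 β A ⊓ alternatingGroup _) := by
  classical
  obtain ⟨u, h3⟩ := h3
  have a : ∀ {O : Set α} {y}, x ∈ O → y ∈ O → y ≠ x → PA β A O ≠ ⊥ := fun {O y} a b c => ne_bot_of_mem
    (x := el β (sg x 1 - sg y 1)) ⟨⟨el_mem, el_pair_mem 1⟩, mon_mem_fx.2 fun z d => ⟨rfl, by
      simp [show z ≠ x from fun e => d (e ▸ a), show z ≠ y from fun e => d (e ▸ b)]⟩⟩ fun e => by
      simpa [c.symm] using congrFun (el_inj (e.trans el_zero.symm)) x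
  refine ⟨PA β A (insert x O), PA β A Oᶜ, a (Or.inl rfl) (Or.inr h3) (fun e => h2 (e ▸ h3)), a h2 h4 h5,
    fun g hg k hk => ?_, eq_bot_iff.2 fun g ⟨hg, hk⟩ => ?_, le_antisymm (sup_le inf_le_left inf_le_left) fun g hg => ?_⟩
  · obtain ⟨σ, b1, v, -, rfl, b2⟩ := mem_PA.1 hg
    obtain ⟨τ, c1, w, -, rfl, c2⟩ := mem_PA.1 hk
    ext (⟨z, t⟩ | c)
    · by_cases e : z ∈ O
      · simp [c2 z (by simpa), c2 (σ z) (by simpa using hO σ b1 z e)]
      by_cases d : z = x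
      · simp [d, h1 σ b1, h1 τ c1, add_right_comm]
      · simp [b2 z (by simp [d, e]), b2 (τ z) (by
          rintro (f | f)
          exacts [d (τ.injective (f.trans (h1 τ c1).symm)), e (by simpa using hO _ (inv_mem c1) _ f)])]
    · rfl
  · obtain ⟨σ, b1, v, b0, rfl, b2⟩ := mem_PA.1 hg
    have b3 : ∀ z, z ≠ x → σ z = z ∧ v z = 0 := fun z e => by
      by_cases d : z ∈ O
      exacts [mon_mem_fx.1 hk.2 z (by simpa), b2 z (by simp [d, e])]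
    rw [Finset.sum_eq_single x (fun z _ e => (b3 z e).2) (by simp)] at b0
    ext (⟨z, t⟩ | c)
    · by_cases e : z = x
      · simp [e, b0, h1 σ b1]
      · simp [b3 z e]
    · rfl
  · obtain ⟨σ, b1, v, -, rfl⟩ := mem_P.1 hg
    obtain ⟨τ, c1, c2, c3⟩ := exists_restrict hA hO b1
    have c4 : mon β τ 1 (O.indicator v - sg x (∑ z, O.indicator v z)) ∈ PA β A (insert x O) :=
      mem_PA.2 ⟨τ, c1, _, by simp, rfl, fun z e => by simp at e; simp [e, c3]⟩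
    rw [← mul_inv_cancel_left (mon β τ 1 _) (mon β σ 1 v)]
    refine mul_mem (mem_sup_left c4) (mem_sup_right ⟨Subgroup.mul_mem _ (Subgroup.inv_mem _ c4.1) hg, mem_fx.2 ?_⟩)
    rintro _ ⟨⟨z, t⟩, ⟨e, -⟩, rfl⟩
    have e : z ∈ O := by simpa using e
    simp [symm_apply_eq, e, c2, show z ≠ x from fun d => h2 (d ▸ e)]

theorem dec_two (h : Fintype.card α = 2) (h1 : A ≠ ⊥) : Dec (T 2 β A ⊓ alternatingGroup _) := by
  obtain ⟨x, y, a, b⟩ := Finset.card_eq_two.1 h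
  have c : ∀ v : α → ZMod 2, ∑ z, v z = 0 → ∀ z, v z = v x := fun v e z => by
    rw [b, Finset.sum_pair a] at e
    rcases Finset.mem_insert.1 (b ▸ Finset.mem_univ z) with d | d
    · rw [d]
    · rw [Finset.mem_singleton.1 d, eq_neg_of_add_eq_zero_right e, ZMod.neg_eq_self_mod_two]
  refine ⟨T 2 β ⊥ ⊓ alternatingGroup _, A.map (δ 2 β), ne_bot_of_mem (x := el β (sg x 1 - sg y 1)) ⟨el_mem, el_pair_mem 1⟩
    fun e => by simpa [a] using congrFun (el_inj (e.trans el_zero.symm)) x, fun e => h1 (eq_bot_iff.2 fun σ d =>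
      (mon_inj ((mem_bot.1 (e.le ⟨σ, d, rfl⟩)).trans mon_one.symm)).1), ?_, eq_bot_iff.2 ?_, le_antisymm
    (sup_le (inf_le_inf_right _ (T_mono bot_le)) (map_le_iff_le_comap.2 fun σ => δ_mem_P)) fun g hg => ?_⟩
  · rintro g hg _ ⟨σ, -, rfl⟩
    obtain ⟨_, rfl, v, d, rfl⟩ := mem_P.1 hg
    exact mul_inv_eq_iff_eq_mul.1 (δ_conj_el.trans (congrArg _ (funext fun z => (c v d _).trans (c v d _).symm)))
  · rintro _ ⟨⟨d, -⟩, σ, -, rfl⟩
    rw [mem_bot.1 (mem_of_mon_mem d), map_one]; exact one_mem _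
  · obtain ⟨σ, d, v, e, rfl⟩ := mem_P.1 hg
    rw [mon_one_eq]
    exact mul_mem (mem_sup_right ⟨σ, d, rfl⟩) (mem_sup_left (mem_P.2 ⟨1, one_mem _, v, e, rfl⟩))

section
variable (h3 : 3 ≤ Fintype.card α) (hA : IsPGroup 2 A) (h1 : ∀ x, ρ (ρ x) = x) (h2 : ∀ x, ρ x ≠ x) (h4 : ρ ∈ A)
  (h5 : ∀ x, swap x (ρ x) ∈ A)
include h3 hA

theorem ind_mem (h : S₁ ⊴ T 2 β A ⊓ alternatingGroup _) (h0 : PA β A (orbit A x) ⊓ S₁ ≠ ⊥) :
    el β ((orbit A x).indicator 1) ∈ S₁ := by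
  obtain ⟨v, a, ⟨b, c⟩, -, d⟩ := exists_cen h3 hA ((nml_PA (inv_orbit x)).inf h) h0
  have e : ∀ z ∈ orbit A x, v z = v x := by rintro _ ⟨σ, rfl⟩; exact d σ σ.2 x
  have f := fun z k => (mon_mem_fx.1 b.2 z k).2
  refine (funext fun z => ?_ : (orbit A x).indicator 1 = v) ▸ c
  by_cases i : z ∈ orbit A x
  · rw [Set.indicator_of_mem i, e z i]
    refine ((zmod_two_cases _).resolve_left fun k => a (funext fun z => ?_)).symm
    by_cases l : z ∈ orbit A x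
    exacts [(e z l).trans k, f z l]
  · rw [Set.indicator_of_notMem i, f z i]

theorem cent_or (h : DP S₁ S₂ (T 2 β A ⊓ alternatingGroup _)) (x : α) :
    S₁ ≤ C(PA β A (orbit A x)) ∨ S₂ ≤ C(PA β A (orbit A x)) := by
  have a := nml_PA (β := β) (inv_orbit (H := A) x)
  have b : ∀ {S}, S ⊴ T 2 β A ⊓ alternatingGroup _ → PA β A (orbit A x) ⊓ S = ⊥ → S ≤ C(PA β A (orbit A x)) := fun c d =>
    cent_of_inf_eq_bot (c.le.trans a.norm) (a.le.trans c.norm) (by rwa [inf_comm])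
  by_contra! e
  have := congrFun (el_inj ((mem_bot.1 (h.inf.le ⟨ind_mem h3 hA h.nml_left (mt (b h.nml_left) e.1),
    ind_mem h3 hA h.nml_right (mt (b h.nml_right) e.2)⟩)).trans el_zero.symm)) x
  simp at this

include h4 h5

theorem δ_swap_mem (x : α) : δ 2 β (swap x (ρ x)) ∈ PA β A (orbit A x) :=
  ⟨δ_mem_P (h5 x), mon_mem_fx.2 fun z e => ⟨swap_apply_of_ne_of_ne (fun d => e (by rw [d]; exact mem_orbit_self x))
    fun d => e ⟨⟨ρ, h4⟩, d.symm⟩, rfl⟩⟩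

include h2

theorem eq_bot_of_cent (h : DP S₁ S₂ (T 2 β A ⊓ alternatingGroup _)) (h0 : ∀ x, S₂ ≤ C(PA β A (orbit A x))) : S₂ = ⊥ := by
  classical
  by_contra e
  obtain ⟨v, a, b, -, c⟩ := exists_cen h3 hA h.nml_right e
  have d : ∀ x, el β ((orbit A x).indicator 1) ∈ S₁ := fun x => ind_mem h3 hA h.nml_left fun f => by
    have i := nml_PA (β := β) (inv_orbit (H := A) x)
    have j := δ_swap_mem (β := β) h3 hA h4 h5 x
    obtain ⟨w, -, k, -⟩ := cen_el h3 ⟨j.1, cent_symm (h.sup.ge.trans (sup_le (cent_of_inf_eq_bot (h.le_left.trans i.norm)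
      (i.le.trans h.nml_left.norm) (by rwa [inf_comm])) (h0 x))) j⟩
    exact h2 x (by simpa using congrArg (· x) (mon_inj k).1)
  refine a (el_inj ((mem_bot.1 (h.inf.le ⟨?_, b⟩)).trans el_zero.symm))
  have f : ∀ x y, y ∈ orbit A x → v y = v x ∧ orbit A y = orbit A x := by
    rintro x _ ⟨σ, rfl⟩
    exact ⟨c σ σ.2 x, orbit_smul σ x⟩
  refine (funext fun y => ?_ : ∑ O ∈ (Finset.univ.filter (v · = 1)).image (orbit A), O.indicator 1 = v) ▸
    el_sum_mem _ fun O hO => ?_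
  · rw [Finset.sum_apply]
    rcases zmod_two_cases (v y) with l | l <;> rw [l]
    · refine Finset.sum_eq_zero fun O i => ?_
      obtain ⟨x, j, rfl⟩ := Finset.mem_image.1 i
      exact Set.indicator_of_notMem (fun k => by simp [← (f x y k).1, l] at j) _
    · rw [Finset.sum_eq_single_of_mem (orbit A y) (Finset.mem_image_of_mem _ (by simpa)) fun O i j => ?_]
      · simp
      · obtain ⟨x, -, rfl⟩ := Finset.mem_image.1 i
        exact Set.indicator_of_notMem (fun k => j (f x y k).2.symm) _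
  · obtain ⟨x, -, rfl⟩ := Finset.mem_image.1 hO
    exact d x

include h1

theorem not_dec_even : ¬ Dec (T 2 β A ⊓ alternatingGroup _) := by
  classical
  rintro ⟨S₁, S₂, a, b, c⟩
  obtain ⟨x, d⟩ := not_forall.1 (mt (eq_bot_of_cent h3 hA h2 h4 h5 c) b)
  obtain ⟨y, e⟩ := not_forall.1 (mt (eq_bot_of_cent h3 hA h2 h4 h5 c.symm) a)
  let U : Finset α := {z | S₂ ≤ C(PA β A (orbit A z))}
  have a1 : ∀ σ ∈ A, ∀ z, σ z ∈ U ↔ z ∈ U := fun σ f z => by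
    simp only [U, Finset.mem_filter_univ]; rw [show orbit A (σ z) = _ from orbit_smul (⟨σ, f⟩ : A) z]
  have a2 : ∀ {σ v} (V : Finset α), (∀ z ∈ V, ρ z ∈ V) → (∀ z ∈ V, mon β σ 1 v ∈ C(PA β A (orbit A z))) → ∑ z ∈ V, v z = 0 :=
    fun {σ v} V f i => Finset.sum_involution (fun z _ => ρ z) (fun z j => by
      have := congrArg (· (inl (z, 0))) (i z j _ (δ_swap_mem h3 hA h4 h5 z))
      simp at this
      rw [this.2, CharTwo.add_self_eq_zero]) (fun z _ _ => h2 z) f fun z _ => h1 z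
  obtain ⟨g, b1, k, b2, b3⟩ := c.mem_iff.1 ⟨el_mem, el_pair_mem (x := x) (y := y) 1⟩
  obtain ⟨σ, c1, v, c2, rfl⟩ := mem_P.1 (c.le_left b1)
  obtain ⟨τ, d1, w, -, rfl⟩ := mem_P.1 (c.le_right b2)
  have b4 := a2 U (fun z => (a1 ρ h4 z).2) fun z f => (Finset.mem_filter_univ _).1 f b2
  have b5 := a2 Uᶜ (fun z => by simp [a1 ρ h4]) fun z f => (cent_or h3 hA c z).resolve_right (by simpa [U] using f) b1
  rw [← Finset.sum_add_sum_compl U, b5, add_zero, ← Finset.sum_equiv τ (s := U) (f := fun z => v (τ z))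
    (fun z => (a1 τ d1 z).symm) fun _ _ => rfl] at c2
  rw [mon_mul] at b3
  have b6 := Finset.sum_congr (rfl (a := U)) fun z _ => congrFun (mon_inj b3).2.2 z
  have b7 : y ∈ U := (Finset.mem_filter_univ _).2 ((cent_or h3 hA c y).resolve_left e)
  have b8 : x ∉ U := by simpa [U] using d
  simp [Finset.sum_add_distrib, b4, c2, Pi.single_apply, b7, b8] at b6
end

end H23.Wr
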