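import Cfsg.Agent.H23.FSimp
import Cfsg.Agent.H11.TSub
import Cfsg.Agent.H11.Levi

/-! The fusion system of a symplectic or unitary group in the defining characteristic is simple: unipotent radicals
`RU S U` (centric `p`-groups), Sylow subgroups are generated by Eichler maps (`syl_le_closure`), `simple_form`. -/

set_option autoImplicit false

namespace H23.FS

open Subgroup Cfsg H20 H11 H11.PForm Module

universe u

variable {F : Type*} [Field F] {p : ℕ} [Fact p.Prime] [CharP F p]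

theorem pow_eq_one_of_unip {R : Type*} [Ring R] [Algebra F R] {A : R} {n : ℕ} (h : (A - 1) ^ n = 0) :
    A ^ p ^ n = 1 := by
  rcases subsingleton_or_nontrivial R with _ | _
  · exact Subsingleton.elim _ _
  have : CharP R p := charP_of_injective_algebraMap (algebraMap F R).injective p
  have h1 := sub_pow_char_pow_of_commute (p := p) (n := n) (Commute.one_right A)
  rw [one_pow, pow_eq_zero_of_le (Nat.lt_pow_self (Fact.out : p.Prime).one_lt).le h] at h1
  exact sub_eq_zero.1 h1.symm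

theorem eq_one_of_pow_char {c : F} {k : ℕ} (h : c ^ p ^ k = 1) : c = 1 := by
  have h1 := sub_pow_char_pow (p := p) (n := k) c 1
  rw [h, one_pow, sub_self] at h1
  exact sub_eq_zero.1 (pow_eq_zero_iff (pow_pos (Fact.out : p.Prime).pos k).ne' |>.1 h1)

/-- a `p`-group acting linearly on a nonzero finite space fixes a nonzero vector -/
theorem exists_fixed_vec {G V : Type*} [Group G] [AddCommGroup V] [Module F V] [Finite V] (ρ : G →* (V ≃ₗ[F] V))
    {Q : Subgroup G} (hQ : IsPGroup p Q) (U : Submodule F V) (hU : U ≠ ⊥) (h : ∀ g ∈ Q, ∀ x ∈ U, ρ g x ∈ U) :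
    ∃ x ∈ U, x ≠ 0 ∧ ∀ g ∈ Q, ρ g x = x := by
  let _ : MulAction Q U :=
    { smul := fun g x => ⟨ρ g x, h g g.2 x x.2⟩
      one_smul := fun x => Subtype.ext (by change ρ 1 x = x; simp)
      mul_smul := fun g g' x => Subtype.ext (by change ρ (g * g') x = ρ g (ρ g' x); simp) }
  obtain ⟨y, hy, hy0⟩ := (Submodule.ne_bot_iff U).1 hU
  have hd : p ∣ Nat.card U := by
    have h1 : addOrderOf (⟨y, hy⟩ : U) = p := addOrderOf_eq_prime (Subtype.ext (by
      change p • y = 0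
      rw [← Nat.cast_smul_eq_nsmul F, CharP.cast_eq_zero, zero_smul])) (fun e => hy0 (congrArg Subtype.val e))
    exact h1 ▸ addOrderOf_dvd_natCard _
  obtain ⟨b, hb, hb0⟩ := hQ.exists_fixed_point_of_prime_dvd_card_of_fixed_point U hd (a := 0)
    (fun g => Subtype.ext (by change ρ g 0 = 0; simp))
  exact ⟨b, b.2, fun e => hb0 (Subtype.ext e.symm), fun g hg => congrArg Subtype.val (hb ⟨g, hg⟩)⟩

theorem eig_one {G V : Type*} [Group G] [AddCommGroup V] [Module F V] (ρ : G →* (V ≃ₗ[F] V)) {g : G}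
    (hg : PElt p g) {x : V} (hx : ρ g x ∈ F ∙ x) : ρ g x = x := by
  obtain ⟨c, hc⟩ := Submodule.mem_span_singleton.1 hx
  obtain ⟨k, hk⟩ := hg
  have h1 : ∀ n : ℕ, ρ (g ^ n) x = c ^ n • x := fun n => by
    induction n with
    | zero => simp
    | succ n ih => rw [pow_succ, map_mul, LinearEquiv.mul_apply, ← hc, map_smul, ih, smul_smul, pow_succ']
  have h2 := h1 (p ^ k)
  rw [hk, map_one, LinearEquiv.coe_one, id] at h2
  by_cases h0 : x = 0
  · simp [h0]
  rw [← hc, eq_one_of_pow_char (smul_left_injective F h0 (h2.symm.trans (one_smul F x).symm)), one_smul]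

variable {σ : F →+* F} {P : FParam σ} {V : Type u} [AddCommGroup V] [Module F V] {S : PForm P V}

/-- the unipotent radical of the stabiliser of `U` -/
def RU (S : PForm P V) (U : Submodule F V) : Subgroup S.Isom where
  carrier := {g | (∀ x ∈ U, g.1 x = x) ∧ ∀ x ∈ S.perp U, g.1 x - x ∈ U}
  one_mem' := ⟨fun _ _ => rfl, fun x _ => by simp⟩
  mul_mem' := fun {a b} ha hb => ⟨fun x hx => by rw [isom_mul_apply, hb.1 x hx, ha.1 x hx], fun x hx => by
    have := U.add_mem (hb.2 x hx) (ha.2 x hx)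
    rwa [← ha.1 _ (hb.2 x hx), map_sub, sub_add_sub_cancel] at this⟩
  inv_mem' := fun {a} ha => ⟨fun x hx => by
      conv_lhs => rw [← ha.1 x hx]
      exact S.isom_inv_apply_self a x, fun x hx => by
    have h1 : (a⁻¹).1 (a.1 x - x) = a.1 x - x := by
      conv_lhs => rw [← ha.1 _ (ha.2 x hx)]
      exact S.isom_inv_apply_self a _
    rw [map_sub, S.isom_inv_apply_self] at h1
    rw [← neg_sub, h1]; exact U.neg_mem (ha.2 x hx)⟩

omit [Fact p.Prime] [CharP F p]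
theorem mem_RU {U : Submodule F V} {g : S.Isom} :
    g ∈ RU S U ↔ (∀ x ∈ U, g.1 x = x) ∧ ∀ x ∈ S.perp U, g.1 x - x ∈ U := Iff.rfl

theorem ts_singleton {u : V} (hu : S.Sing u) : S.TS (F ∙ u) := by
  simpa using ts_bot.sup_span hu (by simp)

theorem exists_Λ (hΛ : P.Λ ≠ ⊥) : ∃ a ∈ P.Λ, a ≠ 0 := by
  by_contra h
  push Not at h
  exact hΛ ((AddSubgroup.eq_bot_iff_forall _).2 h)

theorem eich_mem_RU {U : Submodule F V} (hU : S.TS U) {u v : V} (hu : u ∈ U) (hv : v ∈ S.perp U) (a : F) :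
    S.eich u v a ∈ RU S U := by
  by_cases h : S.ECond u v a
  · refine ⟨fun x hx => eich_apply_of_perp_perp (hU.h_eq hu hx) (S.h_swap_zero (hv x hx)), fun x hx => ?_⟩
    rw [eich_apply_of_perp h (hx u hu), sub_sub_cancel_left]
    exact U.neg_mem (U.smul_mem _ hu)
  · rw [eich_junk h]; exact one_mem _

theorem stab_le_normalizer_RU (U : Submodule F V) : S.stab U ≤ normalizer (RU S U : Set S.Isom) := by
  have key : ∀ g ∈ S.stab U, ∀ r ∈ RU S U, g * r * g⁻¹ ∈ RU S U := fun g hg r hr =>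
    ⟨fun x hx => by
      rw [isom_mul_apply, isom_mul_apply, hr.1 _ ((mem_stab.1 (inv_mem hg) x).1 hx), isom_apply_inv_self],
    fun x hx => by
      have := (mem_stab.1 hg _).1 (hr.2 _ ((mem_stab.1 (stab_le_stab_perp U (inv_mem hg)) x).1 hx))
      rwa [map_sub, isom_apply_inv_self] at this⟩
  exact fun g hg => mem_normalizer_of_conj2 (key g hg) fun r hr => by simpa using key _ (inv_mem hg) r hr

theorem X_le_RU {u : V} (hu : S.Sing u) : S.X u ≤ RU S (F ∙ u) := by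
  rintro _ ⟨v, a, rfl⟩
  by_cases h : S.ECond u v a
  · exact eich_mem_RU (ts_singleton hu) (Submodule.mem_span_singleton_self u) (S.mem_perp_singleton.2 h.perp) a
  · rw [eich_junk h]; exact one_mem _

theorem mem_normalizer_X {u : V} {g : S.Isom} {c : F} (hc : c ≠ 0) (hg : g.1 u = c • u) :
    g ∈ normalizer (S.X u : Set S.Isom) := by
  have key : ∀ (g : S.Isom) (c : F), c ≠ 0 → g.1 u = c • u → ∀ r ∈ S.X u, g * r * g⁻¹ ∈ S.X u := by
    rintro g c hc hg _ ⟨v, a, rfl⟩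
    rw [conj_eich, hg]; exact X_smul_le u hc (eich_mem_X _ _ _)
  refine mem_normalizer_of_conj2 (key g c hc hg) fun r hr => ?_
  have := key g⁻¹ c⁻¹ (inv_ne_zero hc) (by
    rw [eq_inv_smul_iff₀ hc, ← map_smul, ← hg, isom_inv_apply_self]) r hr
  simpa using this

variable [FiniteDimensional F V]

theorem fix_decomp {e f : V} (H : S.IsHyp e f) {g : S.Isom} (hg : g.1 e = e) :
    ∃ k ∈ S.X e, ∃ w ∈ S.fix (Submodule.span F {e, f}), g = k * w := by
  obtain ⟨k, hk, c, w, hw, rfl⟩ := H.exists_X_tor_fix (g := g) (c := 1) (by rw [hg, one_smul])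
  rw [isom_mul_apply, isom_mul_apply, mem_fix_span.1 hw e (by simp), H.tor_e, map_smul, X_apply_self hk] at hg
  have : c = 1 := Units.ext (smul_left_injective F H.e_ne (hg.trans (one_smul F e).symm))
  exact ⟨k, hk, w, hw, by rw [this, map_one, mul_one]⟩

theorem RU_le_X {e f : V} (H : S.IsHyp e f) : RU S (F ∙ e) ≤ S.X e := by
  intro g hg
  obtain ⟨k, hk, w, hw, rfl⟩ := fix_decomp H (hg.1 e (Submodule.mem_span_singleton_self e))
  have h1 : w ∈ RU S (F ∙ e) := (mul_mem_cancel_left (X_le_RU H.sing_e hk)).1 hg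
  have : w = 1 := H.isom_ext (mem_fix_span.1 hw e (by simp)) (mem_fix_span.1 hw f (by simp)) fun x hx => by
    have h2 := S.mem_perp_pair.1 hx
    obtain ⟨c, hc⟩ := Submodule.mem_span_singleton.1 (h1.2 x (S.mem_perp_singleton.2 h2.1))
    have h3 := congrArg (S.h f) hc
    rw [map_sub, map_smul, H.h_fe, h2.2, ← mem_fix_span.1 hw f (by simp), isom_h, h2.2, sub_zero, smul_eq_mul] at h3
    rw [(mul_eq_zero.1 h3).resolve_right P.ε_ne_zero, zero_smul] at hc
    exact sub_eq_zero.1 hc.symm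
  rw [this, mul_one]; exact hk

theorem mem_span_of_X_fix (hS : S.Nondeg) (hΛ : P.Λ ≠ ⊥) {u x : V} (hu : S.Sing u) (h : ∀ k ∈ S.X u, k.1 x = x) (hu0 : u ≠ 0) :
    x ∈ F ∙ u := by
  obtain ⟨a, ha, ha0⟩ := exists_Λ hΛ
  have h1 := h _ (eich_mem_X u 0 a)
  rw [eich_apply (ECond.of_mem hu ha)] at h1
  have h2 : S.h u x = 0 := by
    simp only [smul_zero, add_zero, map_zero, LinearMap.zero_apply, zero_add, sub_eq_self, smul_eq_zero, mul_eq_zero,
      P.ε_ne_zero, hu0, false_or, or_false] at h1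
    exact h1.resolve_left ha0
  rw [← hS.perp_perp (F ∙ u)]
  intro v hv
  have h3 := h _ (eich_mem_X u v (S.q v))
  rw [eich_apply_of_perp (ECond.of_q hu (S.mem_perp_singleton.1 hv)) h2] at h3
  simpa [P.ε_ne_zero, hu0] using h3

variable [Fact p.Prime] [CharP F p]

theorem RU_pgroup (U : Submodule F V) : IsPGroup p (RU S U) := by
  refine pgroup_iff.2 fun g hg => ⟨3, ?_⟩
  have h1 : ((g.1 : Module.End F V) - 1) ^ 3 = 0 := by
    ext x
    have h2 : g.1 x - x ∈ S.perp U := fun u hu => by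
      rw [map_sub]; conv_lhs => rw [← hg.1 u hu, isom_h, hg.1 u hu, sub_self]
    simpa [pow_succ, sub_eq_zero] using hg.1 _ (hg.2 _ h2)
  have h2 := pow_eq_one_of_unip (F := F) (p := p) h1
  refine S.isom_ext fun x => ?_
  have := LinearMap.congr_fun h2 x
  rw [Module.End.pow_apply] at this
  change (g.1 ^ p ^ 3) x = x
  rw [LinearEquiv.pow_apply]; exact this

theorem X_pgroup (u : V) : IsPGroup p (S.X u) := by
  by_cases hu : S.Sing u
  · exact (RU_pgroup _).to_le (X_le_RU hu)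
  · refine pgroup_iff.2 ?_
    rintro _ ⟨v, a, rfl⟩
    exact ⟨0, by rw [eich_junk fun h => hu h.sing, one_pow]⟩

theorem pElt_eich (u v : V) (a : F) : PElt p (S.eich u v a) := pElt_of_mem (X_pgroup u) (eich_mem_X u v a)

theorem mem_SIsom_of_pElt {g : S.Isom} (hg : PElt p g) : g ∈ S.SIsom := by
  obtain ⟨k, hk⟩ := hg
  have := congrArg (fun x => (S.detHom x : F)) hk
  simp only [map_pow, map_one, Units.val_pow_eq_pow_val, Units.val_one] at this
  exact Units.ext (eq_one_of_pow_char this)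

theorem mem_RU_of_commute (hS : S.Nondeg) (hΛ : P.Λ ≠ ⊥) {U : Submodule F V} (hU : S.TS U) (h0 : U ≠ ⊥) {x : S.Isom}
    (hx : PElt p x) (h : ∀ u ∈ U, ∀ v ∈ S.perp U, ∀ a, x * S.eich u v a = S.eich u v a * x) : x ∈ RU S U := by
  obtain ⟨a, ha, ha0⟩ := exists_Λ hΛ
  have h1 : ∀ u ∈ U, x.1 u = u := fun u hu => by
    by_cases hu0 : u = 0
    · simp [hu0]
    refine eig_one S.Isom.subtype hx ?_
    obtain ⟨y, hy⟩ := hS.exists_h_eq_one hu0
    have h2 := congrArg (fun g : S.Isom => g.1 y) (h u hu 0 (zero_mem _) a)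
    have h3 := ECond.of_mem (hU.sing _ hu) ha
    simp only [isom_mul_apply, eich_apply h3, hy, smul_zero, add_zero, map_zero, LinearMap.zero_apply, zero_add,
      mul_one, map_sub, map_smul, sub_right_inj] at h2
    exact Submodule.mem_span_singleton.2 ⟨_, ((eq_inv_smul_iff₀ (mul_ne_zero P.ε_ne_zero ha0)).2 h2).symm.trans rfl
      |> fun e => by rw [smul_smul] at e; exact e⟩
  refine ⟨h1, fun v hv => ?_⟩
  obtain ⟨u, hu, hu0⟩ := (Submodule.ne_bot_iff U).1 h0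
  obtain ⟨y, hy⟩ := hS.exists_h_eq_one hu0
  have h3 := ECond.of_q (hU.sing _ hu) (hv u hu)
  have h2 := congrArg (fun g : S.Isom => g.1 y) (h u hu v hv (S.q v))
  have h4 : S.h u (x.1 y) = 1 := by rw [← h1 u hu, isom_h, hy]
  simp only [isom_mul_apply, eich_apply h3, hy, h4, one_smul, map_sub, map_add, map_smul, h1 u hu] at h2
  have : x.1 v - v = (P.ε * (S.h v y + S.q v * 1) - P.ε * (S.h v (x.1 y) + S.q v * 1)) • u := by
    rw [sub_smul]; linear_combination (norm := module) h2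
  rw [this]; exact U.smul_mem _ hu

theorem cen_RU (hS : S.Nondeg) (hΛ : P.Λ ≠ ⊥) {U : Submodule F V} (hU : S.TS U) (h0 : U ≠ ⊥) (K : Subgroup S.Isom) :
    Cen p K (RU S U) := fun _ _ hx h =>
  mem_RU_of_commute hS hΛ hU h0 hx fun _ hu _ hv a => h _ (eich_mem_RU hU hu hv a)

theorem cen_X (hS : S.Nondeg) (hΛ : P.Λ ≠ ⊥) {e f : V} (H : S.IsHyp e f) (K : Subgroup S.Isom) :
    Cen p K (S.X e) :=
  (cen_RU hS hΛ (ts_singleton H.sing_e) (by simpa using H.e_ne) K).mono (RU_le_X H)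

theorem exists_sing_fixed [Finite F] (hS : S.Nondeg) (hP : ∀ a, a + P.ε * σ a = 0 → a ∈ P.Λ) {Q : Subgroup S.Isom}
    (hQ : IsPGroup p Q) (h1 : Q ≠ ⊥) : ∃ u, u ≠ 0 ∧ S.Sing u ∧ ∀ g ∈ Q, g.1 u = u := by
  have : Finite V := Module.finite_of_finite F
  let C : Submodule F V :=
    { carrier := {x | ∀ g ∈ Q, g.1 x = x}
      add_mem' := fun ha hb g hg => by rw [map_add, ha g hg, hb g hg]
      zero_mem' := fun g _ => map_zero _
      smul_mem' := fun c x hx g hg => by rw [map_smul, hx g hg] }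
  have h2 : S.perp C ≠ ⊥ := fun h => h1 (eq_bot_iff.2 fun g hg => mem_bot.2 (S.isom_ext fun x => by
    have : x ∈ C := by rw [← hS.perp_perp C, h, perp_bot]; trivial
    exact this g hg))
  obtain ⟨x, hx, hx0, h⟩ := exists_fixed_vec S.Isom.subtype hQ _ h2 fun g hg x hx y hy => by
    rw [← hy g hg]; exact (S.isom_h g y x).trans (hx y hy)
  exact ⟨x, hx0, hP _ ((S.h_self x).symm.trans (hx x h)), h⟩

theorem syl_le_closure [Finite F] (hP : ∀ a, a + P.ε * σ a = 0 → a ∈ P.Λ) (n : ℕ) :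
    ∀ {V : Type u} [AddCommGroup V] [Module F V] [FiniteDimensional F V] {S : PForm P V} (_ : S.Nondeg)
      (_ : finrank F V = n) (Q : Subgroup S.Isom) (_ : Syl p Q ⊤),
      Q ≤ Subgroup.closure {g | g ∈ Q ∧ ∃ u v a, g = S.eich u v a} := by
  induction n using Nat.strong_induction_on with
  | _ n ih =>
  intro V _ _ _ S hS hn Q hQ
  by_cases h1 : Q = ⊥
  · rw [h1]; exact bot_le
  obtain ⟨e, he0, he, hf⟩ := exists_sing_fixed hS hP hQ.pgroup h1
  obtain ⟨f, H⟩ := hS.exists_isHyp he he0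
  have hX : S.X e ≤ Q := hQ.le_of_normal le_top (X_pgroup e) fun g hg =>
    mem_normalizer_X one_ne_zero (by rw [hf g hg, one_smul])
  have hd : ∀ g ∈ Q, ∃ k ∈ S.X e, ∃ w ∈ Q.comap (ext2 H.nondeg), g = k * ext2 H.nondeg w := fun g hg => by
    obtain ⟨k, hk, w, hw, rfl⟩ := fix_decomp H (hf g hg)
    rw [← ext2_range H.nondeg] at hw
    obtain ⟨w, rfl⟩ := hw
    exact ⟨k, hk, w, (mul_mem_cancel_left (hX hk)).1 hg, rfl⟩
  have h2 : Syl p (Q.comap (ext2 H.nondeg)) ⊤ := by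
    refine ⟨le_top, hQ.pgroup.comap_of_injective _ (ext2_injective _), fun L hL _ hp w hw => ?_⟩
    refine hQ.2.2 (L.map (ext2 H.nondeg) ⊔ S.X e) (fun g hg => ?_) le_top
      (pgroup_sup (hp.map _) (X_pgroup e) ?_) (mem_sup_left ⟨w, hw, rfl⟩)
    · obtain ⟨k, hk, w, hw, rfl⟩ := hd g hg
      exact mul_mem (mem_sup_right hk) (mem_sup_left ⟨w, hL hw, rfl⟩)
    · rintro _ ⟨w, -, rfl⟩
      exact mem_normalizer_X one_ne_zero (by rw [ext2_left _ _ (Submodule.subset_span (by simp)), one_smul])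
  have h3 := ih _ (by have := H.finrank_perp; omega) (hS.restrict_perp H.nondeg) rfl _ h2
  intro g hg
  obtain ⟨k, hk, w, hw, rfl⟩ := hd g hg
  refine mul_mem (Subgroup.subset_closure ⟨hX hk, e, hk⟩) ?_
  refine (Subgroup.closure_le ((Subgroup.closure _).comap (ext2 H.nondeg))).2 ?_ (h3 hw)
  rintro _ ⟨h4, u, v, a, rfl⟩
  exact Subgroup.subset_closure ⟨h4, u, v, a, ext2_eich _ _ _ _⟩

omit [Fact p.Prime] [CharP F p] in
theorem tor_tor_eq {e f e₂ f₂ : V} (H : S.IsHyp e f) (H₂ : S.IsHyp e₂ f₂)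
    (he : e₂ ∈ S.perp (Submodule.span F {e, f})) (hf : f₂ ∈ S.perp (Submodule.span F {e, f})) (c : Fˣ) :
    H.tor c * H₂.tor c⁻¹ = S.eich e ((-σ c) • f₂) 0 * S.eich e₂ ((σ c)⁻¹ • f) 0 * S.eich e ((-σ c) • f₂) 0 *
      S.eich e ((1 : F) • f₂) 0 * S.eich e₂ ((-1 : F) • f) 0 * S.eich e ((1 : F) • f₂) 0 := by
  obtain ⟨a1, a2⟩ := S.mem_perp_pair.1 he
  obtain ⟨a3, a4⟩ := S.mem_perp_pair.1 hf
  have b1 := S.h_swap_zero a1
  have b2 := S.h_swap_zero a2
  have b3 := S.h_swap_zero a3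
  have b4 := S.h_swap_zero a4
  have hε := P.εε
  refine S.isom_ext fun x => ?_
  obtain ⟨w', hw', hx⟩ := H.exists_decomp x
  obtain ⟨w, hw, hx'⟩ := H₂.exists_decomp w'
  obtain ⟨c1, c2⟩ := S.mem_perp_pair.1 hw
  obtain ⟨c3, c4⟩ := S.mem_perp_pair.1 hw'
  have c5 : S.h e w = 0 := by rw [hx'] at c3; simpa [a1, a3] using c3
  have c6 : S.h f w = 0 := by rw [hx'] at c4; simpa [a2, a4] using c4
  have hA : ∀ l α β γ δ : F, (S.eich e (l • f₂) 0).1 (α • e + β • e₂ + γ • f + δ • f₂ + w) =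
      (α - σ l * β) • e + β • e₂ + γ • f + (δ + l * γ) • f₂ + w := fun l α β γ δ => by
    rw [eich_apply ⟨H.sing_e, by simp [a3], by simpa using P.Λ.neg_mem (H₂.sing_f.smul l)⟩]
    simp only [map_add, map_smul, S.h_smul_left, H.h_ee, H.h_ef, a1, a3, c5, b3, b4, H₂.h_fe, H₂.h_ff, c2, smul_eq_mul]
    match_scalars <;> first | ring1 | linear_combination (-(σ l * β)) * hε
  have hB : ∀ l α β γ δ : F, (S.eich e₂ (l • f) 0).1 (α • e + β • e₂ + γ • f + δ • f₂ + w) =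
      α • e + (β - σ l * α) • e₂ + (γ + l * δ) • f + δ • f₂ + w := fun l α β γ δ => by
    rw [eich_apply ⟨H₂.sing_e, by simp [b2], by simpa using P.Λ.neg_mem (H.sing_f.smul l)⟩]
    simp only [map_add, map_smul, S.h_smul_left, H₂.h_ee, H₂.h_ef, b1, b2, c1, a2, a4, H.h_fe, H.h_ff, c6, smul_eq_mul]
    match_scalars <;> first | ring1 | linear_combination (-(σ l * α)) * hε
  obtain ⟨α, β, γ, δ, e1⟩ : ∃ α β γ δ : F, x = α • e + β • e₂ + γ • f + δ • f₂ + w :=
    ⟨_, _, _, _, by rw [hx, hx']; abel⟩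
  have hc : σ c ≠ 0 := by simp
  simp only [isom_mul_apply, e1, hA, hB]
  simp only [map_add, map_smul, H.tor_e, H.tor_f, H₂.tor_e, H₂.tor_f, H.tor_perp c he, H.tor_perp c hf,
    H₂.tor_perp _ hw, H₂.tor_perp _ (S.mem_perp_pair.2 ⟨b1, b3⟩), H₂.tor_perp _ (S.mem_perp_pair.2 ⟨b2, b4⟩),
    H.tor_perp _ (S.mem_perp_pair.2 ⟨c5, c6⟩), map_neg, map_one, map_inv₀, P.σσ, Units.val_inv_eq_inv_val, inv_inv]
  match_scalars <;> field_simp <;> ring

omit [Fact p.Prime] [CharP F p] [FiniteDimensional F V] in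
theorem econd_perp {e f v : V} {a : F} (H : S.IsHyp e f) (hc : S.ECond e v a) :
    ∃ v' ∈ S.perp (Submodule.span F {e, f}), ∃ a', S.ECond e v' a' ∧ S.eich e v' a' = S.eich e v a := by
  have h1 := H.sub_mem_perp v
  rw [hc.perp, zero_smul, sub_zero, sub_eq_add_neg, ← neg_smul] at h1
  refine ⟨_, h1, _, ⟨hc.sing, (S.mem_perp_pair.1 h1).1, ?_⟩, (eich_add_smul hc (-(P.ε * S.h f v))).2⟩
  have h2 := (eich_add_smul hc (-(P.ε * S.h f v))).1.q
  have hl : ∀ c, σ c - P.ε * c ∈ P.Λ := fun c => by simpa [P.σσ] using P.sub_mem (σ c)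
  have := P.Λ.sub_mem (P.Λ.sub_mem h2 (hl (-(P.ε * S.h f v)))) (hl (-(P.ε * S.h f v)))
  convert this using 1
  rw [S.h_swap_zero hc.perp]
  ring

omit [Fact p.Prime] [CharP F p] in
theorem exists_sq_sub_sq [Finite F] (x : F) : ∃ a b : F, x = a * a - b * b := by
  by_cases h : (2 : F) = 0
  · obtain ⟨a, ha⟩ := FiniteField.isSquare_of_char_two
      (ringChar.eq_iff.2 (CharTwo.of_one_ne_zero_of_two_eq_zero one_ne_zero h)) x
    exact ⟨a, 0, by simp [ha]⟩
  · exact ⟨(x + 1) / 2, (x - 1) / 2, by field_simp; ring⟩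

omit [Fact p.Prime] [CharP F p] in
/-- a subgroup of `X e` normalized by the stabilizer of `⟨e⟩` and not contained in `Z e` is `X e` -/
theorem X_le_of_normal [Finite F] (hS : S.Nondeg) (hP : ∀ a, a + P.ε * σ a = 0 → a ∈ P.Λ) (hΛ : P.Λ ≠ ⊥)
    (hN : ∀ a ∈ P.Λ, a ≠ 0 → ∀ B : AddSubgroup F, (∀ c, c * a * σ c ∈ B) → P.Λ ≤ B)
    {e f e₂ f₂ : V} (H : S.IsHyp e f) (H₂ : S.IsHyp e₂ f₂) (he : e₂ ∈ S.perp (Submodule.span F {e, f}))
    (hf : f₂ ∈ S.perp (Submodule.span F {e, f}))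
    (hex : (∃ d, d - P.ε * σ d ≠ 0) ∨ (∃ c : F, c ≠ 0 ∧ c ≠ 1) ∨ ∃ w ∈ S.perp (Submodule.span F {e, f}),
      ∃ w' ∈ S.perp (Submodule.span F {e, f}), S.h w w' = 0 ∧ w ≠ 0 ∧ w' ≠ 0 ∧ w + w' ≠ 0)
    {A : Subgroup S.Isom} (hA : ∀ g ∈ S.SIsom, ∀ c : F, c ≠ 0 → g.1 e = c • e → ∀ r ∈ A, r ∈ S.X e → g * r * g⁻¹ ∈ A)
    {v : V} (hv : v ∈ S.perp (Submodule.span F {e, f})) (hv0 : v ≠ 0) {a : F} (hc : S.ECond e v a)
    (hva : S.eich e v a ∈ A) : S.X e ≤ A := by
  set W := S.perp (Submodule.span F {e, f}) with hW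
  have hWn : (S.restrict W).Nondeg := hS.restrict_perp H.nondeg
  have H₂' : (S.restrict W).IsHyp ⟨e₂, he⟩ ⟨f₂, hf⟩ := ⟨H₂.1, H₂.2, H₂.3⟩
  have hE : ∀ u v a, S.eich u v a ∈ S.SIsom := fun u v a => det_eich S u v a
  have hWe : ∀ w ∈ W, S.h w e = 0 := fun w hw => S.h_swap_zero (S.mem_perp_pair.1 hw).1
  have P1 : ∀ g ∈ S.SIsom, ∀ c : F, c ≠ 0 → g.1 e = c • e → ∀ v a, S.ECond e v a → S.eich e v a ∈ A →
      S.ECond e (σ c • g.1 v) (c * a * σ c) ∧ S.eich e (σ c • g.1 v) (c * a * σ c) ∈ A := by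
    intro g hg c hc hge v a h1 h2
    have h3 := h1.map g
    have h4 := hA g hg c hc hge _ h2 (eich_mem_X _ _ _)
    rw [conj_eich, hge] at h4
    rw [hge] at h3
    have h5 := h3.smul' c⁻¹
    rw [inv_smul_smul₀ hc] at h5
    exact ⟨h3.smul hc, by rwa [eich_smul h5] at h4⟩
  have P1' : ∀ g ∈ S.SIsom, g.1 e = e → ∀ v a, S.ECond e v a → S.eich e v a ∈ A →
      S.ECond e (g.1 v) a ∧ S.eich e (g.1 v) a ∈ A := fun g hg hge v a h1 h2 => by
    simpa using P1 g hg 1 one_ne_zero (by simpa using hge) v a h1 h2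
  let AW : AddSubgroup V :=
    { carrier := {v | ∃ a, S.ECond e v a ∧ S.eich e v a ∈ A}
      add_mem' := by
        rintro v v' ⟨a, h1, h2⟩ ⟨a', h3, h4⟩
        exact ⟨_, h1.add h3, eich_mul h1 h3 ▸ mul_mem h2 h4⟩
      zero_mem' := ⟨0, ECond.of_mem H.sing_e (zero_mem _), by rw [eich_zero]; exact one_mem A⟩
      neg_mem' := by
        rintro v ⟨a, h1, h2⟩
        exact ⟨_, h1.neg, eich_inv h1 ▸ inv_mem h2⟩ }
  have tor : ∀ w ∈ W, S.Sing w → w ≠ 0 → ∀ c : F, c ≠ 0 → ∃ g ∈ S.SIsom, g.1 e = c • e ∧ g.1 w = σ c • w := by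
    intro w hw hs hw0 c hc
    obtain ⟨f', H'⟩ := hWn.exists_isHyp (e := ⟨w, hw⟩) hs (fun h => hw0 (congrArg Subtype.val h))
    have H'' : S.IsHyp w f' := ⟨H'.1, H'.2, H'.3⟩
    refine ⟨H.tor (Units.mk0 c hc) * H''.tor (Units.mk0 (σ c) (by simpa using hc)), ?_, ?_, ?_⟩
    · change S.detHom _ = 1
      rw [map_mul, ← Units.val_inj, Units.val_mul, H.det_tor, H''.det_tor]
      have : σ c ≠ 0 := by simpa using hc
      simp only [Units.val_mk0, P.σσ, Units.val_one]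
      field_simp
    · rw [isom_mul_apply, H''.tor_perp _ (S.mem_perp_pair.2 ⟨hWe _ hw, hWe _ f'.2⟩), H.tor_e]; rfl
    · rw [isom_mul_apply, H''.tor_e, map_smul, H.tor_perp _ hw]; rfl
  have P2 : ∀ w ∈ W, S.Sing w → ∀ l : F, l ≠ 0 → l • w ∈ AW → ∀ m : F, m • w ∈ AW := by
    intro w hw hs l hl hlw m
    by_cases hw0 : w = 0
    · rw [hw0, smul_zero]; exact zero_mem _
    have h1 : ∀ c : F, (c * c * l) • w ∈ AW := fun c => by
      by_cases hc : c = 0
      · rw [hc, zero_mul, zero_mul, zero_smul]; exact zero_mem _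
      obtain ⟨g, hg, h1, h2⟩ := tor w hw hs hw0 (σ c) (by simpa using hc)
      obtain ⟨a, h3, h4⟩ := hlw
      have := P1 g hg _ (by simpa using hc) h1 _ _ h3 h4
      rw [map_smul, h2, P.σσ, smul_smul, smul_smul, mul_right_comm] at this
      exact ⟨_, this⟩
    obtain ⟨a, b, hab⟩ := exists_sq_sub_sq (m / l)
    have := sub_mem (h1 a) (h1 b)
    rwa [← sub_smul, ← sub_mul, ← hab, div_mul_cancel₀ _ hl] at this
  have tv : ∀ w ∈ W, S.Sing w → ∀ b ∈ P.Λ, ∀ v a, S.ECond e v a → S.eich e v a ∈ A →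
      S.ECond e (v - (P.ε * (b * S.h w v)) • w) a ∧ S.eich e (v - (P.ε * (b * S.h w v)) • w) a ∈ A := by
    intro w hw hs b hb v a h1 h2
    have := P1' _ (hE w 0 b) (eich_apply_of_perp_perp (hWe w hw) (by simp)) v a h1 h2
    rw [eich_apply (ECond.of_mem hs hb)] at this
    simpa using this
  obtain ⟨b, hb, hb0⟩ := exists_Λ hΛ
  obtain ⟨w, hw, hs, hwv⟩ : ∃ w ∈ W, S.Sing w ∧ S.h w v ≠ 0 := by
    by_contra h
    push Not at h
    have := H₂'.addSubgroup_eq_top (LinearMap.ker ((S.h v).comp W.subtype)).toAddSubgroup fun x hx =>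
      S.h_swap_zero (h x x.2 hx)
    exact hv0 (congrArg Subtype.val (hWn ⟨v, hv⟩ fun y => (this ▸ trivial : y ∈ (LinearMap.ker _).toAddSubgroup)))
  have hw0 : w ≠ 0 := by rintro rfl; simp at hwv
  have h1 : ∀ m : F, m • w ∈ AW := by
    refine P2 w hw hs (P.ε * (b * S.h w v)) (by simp [P.ε_ne_zero, hb0, hwv]) ?_
    simpa using AW.sub_mem ⟨a, hc, hva⟩ ⟨a, tv w hw hs b hb v a hc hva⟩
  have h2 : ∀ x ∈ W, x ∈ AW := fun x hx => by
    have := H₂'.addSubgroup_eq_top (AW.comap W.subtype.toAddMonoidHom) fun y hy => by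
      by_cases hy0 : y = 0
      · rw [hy0]; exact zero_mem _
      obtain ⟨g, hg, c, hc, hgc⟩ := hWn.exists_E_move (.inl hΛ) (x := ⟨w, hw⟩) hs
        (fun h => hw0 (congrArg Subtype.val h)) hy hy0
      obtain ⟨a, h3, h4⟩ := h1 c⁻¹
      have h5 : S.E ≤ S.SIsom := S.E_le_iff.2 fun u v a _ => hE u v a
      have := P1' _ (h5 (ext2_mem_E H.nondeg hg)) (ext2_left _ _ (Submodule.subset_span (by simp))) _ _ h3 h4
      rw [map_smul, ext2_right H.nondeg g ⟨w, hw⟩, hgc, Submodule.coe_smul, inv_smul_smul₀ hc] at this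
      exact ⟨a, this⟩
    exact (this ▸ trivial : (⟨x, hx⟩ : W) ∈ AW.comap W.subtype.toAddMonoidHom)
  have sub : ∀ v a a', S.ECond e v a → S.ECond e v a' → a - a' ∈ P.Λ ∧
      S.eich e v a = S.eich e v a' * S.eich e 0 (a - a') := fun v a a' h h' => by
    have h3 : a - a' ∈ P.Λ := by simpa using P.Λ.sub_mem h.q h'.q
    exact ⟨h3, by rw [eich_mul h' (ECond.of_mem H.sing_e h3)]; simp⟩
  have sub' : ∀ v a a', S.ECond e v a → S.ECond e v a' → S.eich e v a ∈ A → S.eich e v a' ∈ A → a ≠ a' →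
      ∃ z ∈ P.Λ, z ≠ 0 ∧ S.eich e 0 z ∈ A := fun v a a' h h' h3 h4 h5 =>
    ⟨_, (sub v a a' h h').1, sub_ne_zero.2 h5, (mul_mem_cancel_left h4).1 ((sub v a a' h h').2 ▸ h3)⟩
  obtain ⟨z, hz, hz0, hzA⟩ : ∃ z ∈ P.Λ, z ≠ 0 ∧ S.eich e 0 z ∈ A := by
    by_cases hd : ∃ d, d - P.ε * σ d ≠ 0
    · obtain ⟨d, hd⟩ := hd
      obtain ⟨a, h3, h4⟩ := h2 e₂ he
      obtain ⟨a', h5, h6⟩ := h2 (d • f₂) (W.smul_mem _ hf)
      refine ⟨_, P.sub_mem d, hd, ?_⟩
      have := commutator_eich h3 h5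
      rw [S.h_smul_left, S.h_smul_right, H₂.h_ef, H₂.h_fe, mul_one, mul_comm (σ d)] at this
      rw [← this]
      exact mul_mem (mul_mem (mul_mem h4 h6) (inv_mem h4)) (inv_mem h6)
    replace hex := hex.resolve_left hd
    push Not at hd
    have e1 : P.ε = 1 := by have := hd 1; rw [map_one] at this; linear_combination -this
    have e2 : ∀ d, σ d = d := fun d => by have := hd d; rw [e1] at this; linear_combination -this
    have e3 : (2 : F) = 0 := by
      have := P.mem_imp b hb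
      rw [e1, e2] at this
      exact (mul_eq_zero.1 (by linear_combination this : 2 * b = 0)).resolve_right hb0
    have e4 : ∀ a, a ∈ P.Λ := fun a => hP a (by rw [e1, e2]; linear_combination a * e3)
    have e5 : ∀ x, S.h x x = 0 := fun x => Sing.h_self (e4 _)
    have e6 : ∀ v a, v ∈ W → S.ECond e v a := fun v a hv => ⟨H.sing_e, (S.mem_perp_pair.1 hv).1, e4 _⟩
    have K : ∀ v ∈ W, ∀ w ∈ W, S.h w v ≠ 0 → S.eich e w (-S.h w v) ∈ A := fun v hv w hw h => by
      obtain ⟨a, h3, h4⟩ := h2 v hv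
      obtain ⟨h5, h6⟩ := tv w hw (e4 _) (-(S.h w v)⁻¹) (e4 _) v a h3 h4
      have h7 := mul_mem h6 (inv_mem h4)
      rw [eich_inv h3, eich_mul h5 h3.neg, e1, e2] at h7
      convert h7 using 2
      · rw [neg_mul, inv_mul_cancel₀ h]; module
      · rw [neg_mul, inv_mul_cancel₀ h]
        simp only [map_neg, map_sub, mul_neg, mul_one, neg_smul, one_smul, LinearMap.sub_apply, LinearMap.neg_apply, e5]
        linear_combination -a * e3
    rcases hex with ⟨c, hc0, hc1⟩ | ⟨w, hw, w', hw', h3, h4, h5, h6⟩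
    · have h3 := K f₂ hf e₂ he (by rw [H₂.h_ef]; exact one_ne_zero)
      have h4 := K (c • f₂) (W.smul_mem _ hf) e₂ he (by rw [S.h_smul_right, H₂.h_ef, mul_one]; exact hc0)
      refine sub' _ _ _ (e6 _ _ he) (e6 _ _ he) h3 h4 ?_
      rw [S.h_smul_right, H₂.h_ef, mul_one]
      exact fun h => hc1 (neg_injective h).symm
    · have K' : ∀ w ∈ W, w ≠ 0 → S.eich e w (-1) ∈ A := fun w hw h => by
        obtain ⟨y, hy⟩ := hWn.exists_h_eq_one (x := ⟨w, hw⟩) (fun h' => h (congrArg Subtype.val h'))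
        have hy' : S.h w y = 1 := hy
        exact hy' ▸ K y y.2 w hw (by rw [hy']; exact one_ne_zero)
      have h7 := mul_mem (K' w hw h4) (K' w' hw' h5)
      rw [eich_mul (e6 _ _ hw) (e6 _ _ hw'), h3] at h7
      refine sub' _ _ _ (e6 _ _ (W.add_mem hw hw')) (e6 _ _ (W.add_mem hw hw')) h7 (K' _ (W.add_mem hw hw') h6) ?_
      intro h
      exact one_ne_zero (α := F) (by linear_combination -h)
  let ZA : AddSubgroup F :=
    { carrier := {a | a ∈ P.Λ ∧ S.eich e 0 a ∈ A}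
      add_mem' := fun {a a'} h h' => ⟨add_mem h.1 h'.1, by
        have := mul_mem h.2 h'.2
        rw [eich_mul (ECond.of_mem H.sing_e h.1) (ECond.of_mem H.sing_e h'.1)] at this
        simpa using this⟩
      zero_mem' := ⟨zero_mem _, by rw [eich_zero]; exact one_mem A⟩
      neg_mem' := fun {a} h => ⟨neg_mem h.1, by
        have := inv_mem h.2
        rw [eich_inv (ECond.of_mem H.sing_e h.1), neg_zero] at this
        rwa [neg_eq_of_add_eq_zero_right (P.mem_imp a h.1)]⟩ }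
  have h3 : P.Λ ≤ ZA := hN z hz hz0 ZA fun c => by
    by_cases hc : c = 0
    · rw [hc, zero_mul, zero_mul]; exact zero_mem _
    obtain ⟨g, hg, h3, -⟩ := tor e₂ he H₂.sing_e H₂.e_ne c hc
    have := P1 g hg c hc h3 0 z (ECond.of_mem H.sing_e hz) hzA
    rw [map_zero, smul_zero] at this
    exact ⟨by simpa [P.σσ] using P.conj_mem (σ c) z hz, this.2⟩
  rintro _ ⟨v, a, rfl⟩
  by_cases h : S.ECond e v a
  · obtain ⟨v', hv', a', h4, h5⟩ := econd_perp H h
    obtain ⟨a'', h6, h7⟩ := h2 v' hv'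
    rw [← h5, (sub _ _ _ h4 h6).2]
    exact mul_mem h7 (h3 (sub _ _ _ h4 h6).1).2
  · rw [eich_junk h]; exact one_mem _

theorem simple_form [Finite F] (hS : S.Nondeg) (hP : ∀ a, a + P.ε * σ a = 0 → a ∈ P.Λ) (hΛ : P.Λ ≠ ⊥)
    (hN : ∀ a ∈ P.Λ, a ≠ 0 → ∀ B : AddSubgroup F, (∀ c, c * a * σ c ∈ B) → P.Λ ≤ B)
    {e f e₂ f₂ : V} (H : S.IsHyp e f) (H₂ : S.IsHyp e₂ f₂) (he : e₂ ∈ S.perp (Submodule.span F {e, f}))
    (hf : f₂ ∈ S.perp (Submodule.span F {e, f}))
    (hex : (∃ d, d - P.ε * σ d ≠ 0) ∨ (∃ c : F, c ≠ 0 ∧ c ≠ 1) ∨ ∃ w ∈ S.perp (Submodule.span F {e, f}),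
      ∃ w' ∈ S.perp (Submodule.span F {e, f}), S.h w w' = 0 ∧ w ≠ 0 ∧ w' ≠ 0 ∧ w + w' ≠ 0)
    (hE : S.SIsom = S.E) (hE' : (S.restrict (S.perp (Submodule.span F {e, f}))).SIsom ≤
      (S.restrict (S.perp (Submodule.span F {e, f}))).E) {G' : Type*} [Group G'] (φ : S.SIsom →* G')
    (hs : Function.Surjective φ) (hk : ∀ x, φ x = 1 → x ∈ center S.SIsom) (S' : Sylow p G') :
    (groupFusionSystem (S' : Subgroup G')).IsSimple p := by
  have : Finite V := Module.finite_of_finite F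
  obtain ⟨a1, a2⟩ := S.mem_perp_pair.1 he
  obtain ⟨a3, a4⟩ := S.mem_perp_pair.1 hf
  have b1 := S.h_swap_zero a1
  have b2 := S.h_swap_zero a2
  have b3 := S.h_swap_zero a3
  have b4 := S.h_swap_zero a4
  set U : Submodule F V := (F ∙ e) ⊔ F ∙ e₂ with hU
  have hUe : e ∈ U := Submodule.mem_sup_left (Submodule.mem_span_singleton_self e)
  have hUe₂ : e₂ ∈ U := Submodule.mem_sup_right (Submodule.mem_span_singleton_self e₂)
  have hUt : S.TS U := (ts_singleton H.sing_e).sup_span H₂.sing_e (S.mem_perp_singleton.2 a1)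
  have hU0 : U ≠ ⊥ := fun h => H.e_ne (by rwa [h] at hUe)
  have hst : ∀ g : S.Isom, g.1 e ∈ U → g.1 e₂ ∈ U → g ∈ normalizer (RU S U : Set S.Isom) := fun g h1 h2 =>
    stab_le_normalizer_RU U (mem_stab_of_le fun x hx => by
      obtain ⟨_, h3, _, h4, rfl⟩ := Submodule.mem_sup.1 hx
      obtain ⟨c, rfl⟩ := Submodule.mem_span_singleton.1 h3
      obtain ⟨d, rfl⟩ := Submodule.mem_span_singleton.1 h4
      rw [map_add, map_smul, map_smul]
      exact U.add_mem (U.smul_mem _ h1) (U.smul_mem _ h2))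
  have hXe : ∀ v a, S.eich e v a ∈ normalizer (RU S U : Set S.Isom) := fun v a => by
    by_cases h : S.ECond e v a
    · refine hst _ (by rwa [eich_apply_self]) ?_
      rw [eich_apply_of_perp h a1]; exact U.sub_mem hUe₂ (U.smul_mem _ hUe)
    · rw [eich_junk h]; exact one_mem _
  have hXe₂ : ∀ v a, S.eich e₂ v a ∈ normalizer (RU S U : Set S.Isom) := fun v a => by
    by_cases h : S.ECond e₂ v a
    · refine hst _ ?_ (by rwa [eich_apply_self])
      rw [eich_apply_of_perp h b1]; exact U.sub_mem hUe (U.smul_mem _ hUe₂)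
    · rw [eich_junk h]; exact one_mem _
  obtain ⟨Q, hQ1, hQ⟩ := exists_syl_ge (p := p) (L := S.X e ⊔ RU S U) le_top
    (pgroup_sup (X_pgroup e) (RU_pgroup U) (by rintro _ ⟨v, a, rfl⟩; exact hXe v a))
  have hX : S.X e ≤ Q := le_sup_left.trans hQ1
  have hR : RU S U ≤ Q := le_sup_right.trans hQ1
  have hQK : Q ≤ S.SIsom := fun g hg => mem_SIsom_of_pElt (pElt_of_mem hQ.pgroup hg)
  have hQe : ∀ g ∈ Q, g.1 e = e := by
    obtain ⟨x, -, hx0, hx⟩ := exists_fixed_vec S.Isom.subtype hQ.pgroup ⊤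
      (fun h => H.e_ne (by have : e ∈ (⊤ : Submodule F V) := trivial; rwa [h] at this)) (fun _ _ _ _ => trivial)
    obtain ⟨c, rfl⟩ := Submodule.mem_span_singleton.1
      (mem_span_of_X_fix hS hΛ H.sing_e (fun k hk => hx k (hX hk)) H.e_ne)
    intro g hg
    have := hx g hg
    rw [map_smul] at this
    exact smul_right_injective V (left_ne_zero_of_smul hx0) this
  have hne : ∀ l : F, l ≠ 0 → l • e₂ ≠ 0 := fun l hl => smul_ne_zero hl H₂.e_ne
  have hEK : ∀ u v a, S.eich u v a ∈ S.SIsom := fun u v a => det_eich S u v a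
  have c1 : S.ECond e f₂ 0 := ⟨H.sing_e, a3, by simpa using P.Λ.neg_mem H₂.sing_f⟩
  refine simple_of_gd φ hs (fun x hx => ⟨?_, fun y hy => ?_⟩) (hQ.mono hQK le_top) (fun h => ?_) (fun T hT h1 => ?_)
    (fun g hg hn => ?_) S'
  · obtain ⟨c, hc⟩ := (H.mem_center_iff_scalar hS (.inl hΛ) hE.ge x).1 (hk x hx)
    obtain ⟨a, b, h1, h2, h3⟩ := exists_parts' (p := p) x.2
    have h4 : ∀ n : ℕ, ∀ y, ((x : S.Isom) ^ n).1 y ∈ F ∙ y := fun n y => by
      induction n with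
      | zero => exact Submodule.mem_span_singleton_self y
      | succ n ih => rw [pow_succ', isom_mul_apply, hc]; exact Submodule.smul_mem _ _ ih
    have h5 : (x : S.Isom) ^ a = 1 := S.isom_ext fun y => eig_one S.Isom.subtype h1 (h4 a y)
    rwa [h3, h5, one_mul]
  · exact congrArg Subtype.val ((mem_center_iff.1 (hk x hx) ⟨y, hy⟩).symm)
  · have := congrArg (fun g : S.Isom => S.h e₂ (g.1 f)) (mem_bot.1 (h ▸ hX (eich_mem_X e f₂ 0)))
    simp [eich_apply c1, H.h_ef, b2, H₂.h_ef, b1] at this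
  · have hA : ∀ g ∈ S.SIsom, ∀ c : F, c ≠ 0 → g.1 e = c • e → ∀ r ∈ T, r ∈ S.X e → g * r * g⁻¹ ∈ T :=
      fun g hg c hc h r hr hr' => hT.2 r hr g hg (hX (conj_mem_of_mem_normalizer (mem_normalizer_X hc h) hr'))
    have hXT : S.X e ≤ T := by
      obtain ⟨_, hx, ⟨v, a, rfl⟩, hx1⟩ := hT.exists_mem hQK hQ.pgroup h1 (cen_X hS hΛ H _) hX fun g hg =>
        mem_normalizer_X one_ne_zero (by rw [hQe g hg, one_smul])
      have hc : S.ECond e v a := by_contra fun h => hx1 (eich_junk h)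
      obtain ⟨v', hv', a', hc', e1⟩ := econd_perp H hc
      rw [← e1] at hx hx1
      by_cases h0 : v' = 0
      swap
      · exact X_le_of_normal hS hP hΛ hN H H₂ he hf hex hA hv' h0 hc' hx
      subst h0
      have ha' : a' ∈ P.Λ := by simpa using P.Λ.add_mem hc'.q S.q_zero
      have ha0 : a' ≠ 0 := by rintro rfl; exact hx1 (eich_zero e)
      obtain ⟨g, hg, c, hc0, hgc⟩ := hS.exists_E_move (.inl hΛ) H.sing_e H.e_ne H₂.sing_e H₂.e_ne
      have h2 := hT.2 _ hx g (hE ▸ hg)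
      rw [conj_eich, hgc, map_zero] at h2
      have h3 := h2 (hR (eich_mem_RU hUt (U.smul_mem c hUe₂) (zero_mem _) a'))
      have h4 := mul_mem h3 (hT.conj hQK (inv_mem h3) (hX (eich_mem_X e f₂ 0)))
      have c2 := ECond.of_mem (H₂.sing_e.smul c) ha'
      have h5 : (S.eich (c • e₂) 0 a').1 e = e := eich_apply_of_perp_perp (by simp [b1]) (by simp)
      have c3 := c1.map (S.eich (c • e₂) 0 a')
      rw [← mul_assoc, ← mul_assoc, conj_eich, eich_inv c1, h5] at h4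
      rw [h5] at c3
      rw [eich_mul c3 c1.neg] at h4
      have e2 : (S.eich (c • e₂) 0 a').1 f₂ + -f₂ = (-(P.ε * (a' * σ c) * c)) • e₂ := by
        rw [eich_apply c2, S.h_smul_left, H₂.h_ef]; simp only [map_zero, LinearMap.zero_apply]; module
      have c4 := c3.add c1.neg
      rw [e2] at h4 c4
      exact X_le_of_normal hS hP hΛ hN H H₂ he hf hex hA (Submodule.smul_mem _ _ he)
        (hne _ (by simp [P.ε_ne_zero, ha0, hc0])) c4 h4
    refine (syl_le_closure hP _ hS rfl Q hQ).trans ((Subgroup.closure_le T).2 ?_)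
    rintro _ ⟨h2, u, v, a, rfl⟩
    by_cases hc : S.ECond u v a
    swap
    · rw [eich_junk hc]; exact one_mem _
    by_cases hu : u = 0
    · rw [hu, eich_zero_left]; exact one_mem _
    obtain ⟨g, hg, c, hc0, hgc⟩ := hS.exists_E_move (.inl hΛ) hc.sing hu H.sing_e H.e_ne
    have h3 : g * S.eich u v a * g⁻¹ ∈ T := by
      rw [conj_eich, hgc]; exact hXT (X_smul_le e hc0 (eich_mem_X _ _ _))
    have h4 := hT.2 _ h3 g⁻¹ (inv_mem (hE ▸ hg)) (by simpa [mul_assoc] using h2)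
    simpa [mul_assoc] using h4
  · have hge : g.1 e ∈ F ∙ e := mem_span_of_X_fix hS hΛ H.sing_e (fun k hk => by
      have := hQe _ (conj_mem_of_mem_normalizer' hn (hX hk))
      rw [isom_mul_apply, isom_mul_apply] at this
      have h2 := congrArg g.1 this
      rwa [isom_apply_inv_self] at h2) H.e_ne
    obtain ⟨c, hc⟩ := Submodule.mem_span_singleton.1 hge
    obtain ⟨k, hk, c, w, hw, rfl⟩ := H.exists_X_tor_fix hc.symm
    have t1 : (H₂.tor c).1 e = e := H₂.tor_perp _ (S.mem_perp_pair.2 ⟨b1, b3⟩)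
    have t2 : H₂.tor c ∈ S.fix (Submodule.span F {e, f}) := mem_fix_span.2 (by
      rintro _ (rfl | rfl)
      · exact t1
      · exact H₂.tor_perp _ (S.mem_perp_pair.2 ⟨b2, b4⟩))
    have pR : ∀ u v a, S.eich u v a ∈ normalizer (RU S U : Set S.Isom) → S.eich u v a ∈ GdN p S.SIsom Q _ hR :=
      fun u v a h => pelt_mem_GdN hR (hEK _ _ _) h (pElt_eich _ _ _)
    have h1 : H.tor c * H₂.tor c⁻¹ ∈ GdN p S.SIsom Q _ hR := by
      rw [tor_tor_eq H H₂ he hf]
      exact mul_mem (mul_mem (mul_mem (mul_mem (mul_mem (pR _ _ _ (hXe _ _)) (pR _ _ _ (hXe₂ _ _))) (pR _ _ _ (hXe _ _)))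
        (pR _ _ _ (hXe _ _))) (pR _ _ _ (hXe₂ _ _))) (pR _ _ _ (hXe _ _))
    have h2 : H.tor c * H₂.tor c⁻¹ ∈ normalizer (S.X e : Set S.Isom) := mem_normalizer_X c.ne_zero (by
      rw [isom_mul_apply, H₂.tor_perp _ (S.mem_perp_pair.2 ⟨b1, b3⟩), H.tor_e])
    have h3 : H.tor c * H₂.tor c⁻¹ ∈ GdN p S.SIsom Q _ hX := ⟨h2, Gd.move (cen_RU hS hΛ hUt hU0 _) hX h2 h1.1 h1.2⟩
    have h4 : k ∈ GdN p S.SIsom Q _ hX := pelt_mem_GdN hX (hQK (hX hk)) (le_normalizer hk) (pElt_of_mem (X_pgroup e) hk)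
    have e1 : k * H.tor c * w = k * (H.tor c * H₂.tor c⁻¹) * (H₂.tor c * w) := by rw [map_inv]; group
    have h5 : H₂.tor c * w ∈ GdN p S.SIsom Q _ hX := by
      have h6 := mul_mem t2 hw
      have h7 : H₂.tor c * w ∈ S.SIsom := by
        rw [e1] at hg
        exact (mul_mem_cancel_left (mul_mem h4.2.mem h3.2.mem)).1 hg
      rw [← ext2_range H.nondeg] at h6
      obtain ⟨w', hw'⟩ := h6
      rw [← hw'] at h7 ⊢
      have h8 := hE' ((det_ext2 H.nondeg w').symm.trans h7)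
      refine ((S.restrict _).E_le_iff (K := (GdN p S.SIsom Q _ hX).comap (ext2 H.nondeg))).2 (fun u v a _ => ?_) h8
      rw [mem_comap]
      refine pelt_mem_GdN hX ?_ (mem_normalizer_X one_ne_zero ?_) ?_
      · rw [ext2_eich]; exact hEK _ _ _
      · rw [ext2_left _ _ (Submodule.subset_span (by simp)), one_smul]
      · rw [ext2_eich]; exact pElt_eich _ _ _
    have h6 := mul_mem (mul_mem h4 h3) h5
    rw [← e1] at h6
    exact Gd.up (cen_X hS hΛ H _) hX le_rfl (fun x hx => conj_mem_of_mem_normalizer hn hx) h6.2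

end H23.FS
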