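import Cfsg.Agent.H23.G2y
import Cfsg.Agent.H11.Shp

/-! Two-generation of classical groups: `E_le_of_X` (two opposite Eichler groups generate `E`), the condition `Good2` on a torus element of
the complement of a hyperbolic pair and the resulting generators (`core_cl`). -/

set_option autoImplicit false

namespace H23.G2
open H11 H11.PForm Module

variable {F : Type*} [Field F] {σ : F →+* F} {P : FParam σ} {V W : Type*} [AddCommGroup V] [Module F V] [AddCommGroup W] [Module F W]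
  {S : PForm P V} {T : PForm P W}

theorem X_conj_le {K : Subgroup S.Isom} {g : S.Isom} (hg : g ∈ K) {x y : V} {c : F} (hc : c ≠ 0) (e : g.1 x = c • y) (h : S.X x ≤ K) :
    S.X y ≤ K := by
  refine le_trans ?_ (show S.X (g.1 x) ≤ K from ?_)
  · have := S.X_smul_le (c • y) (inv_ne_zero hc)
    rwa [inv_smul_smul₀ hc, ← e] at this
  · rintro _ ⟨v, a, rfl⟩
    have := mul_mem (mul_mem hg (h (S.eich_mem_X x ((g⁻¹).1 v) a))) (inv_mem hg)
    rwa [conj_eich, isom_apply_inv_self] at this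

theorem E_le_of_X [FiniteDimensional F V] (hS : S.Nondeg) (hR : S.Rich 3) {e f : V} (H : S.IsHyp e f) {K : Subgroup S.Isom}
    (h1 : S.X e ≤ K) (h2 : S.X f ≤ K) : S.E ≤ K := by
  refine S.E_le_iff.2 fun u v a hc => ?_
  by_cases hu : u = 0
  · rw [hu, eich_zero_left]; exact K.one_mem
  obtain ⟨z, hz, a1, a2⟩ := hS.exists_common hR H.sing_e H.e_ne hc.sing hu
  obtain ⟨g, b1, c, b2, b3⟩ := exists_X_move H.sing_e H.sing_f hz (by simp [H.h_ef]) (mt S.h_swap_zero a1)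
  have hz' := X_conj_le (h1 b1) b2 b3 h2
  obtain ⟨g, b1, c, b2, b3⟩ := exists_X_move hz H.sing_e hc.sing a1 a2
  exact X_conj_le (hz' b1) b2 b3 h1 (S.eich_mem_X u v a)

/-- the irreducibility condition on the torus element -/
def Good2 (T : PForm P W) (γ ν : T.Isom) (c : Fˣ) : Prop := Commute γ (ν * γ * ν⁻¹) ∧ ∃ v, ∀ A : AddSubgroup W,
  (∀ x ∈ A, σ c • γ.1 x ∈ A) → σ c • γ.1 v + (c : F)⁻¹ • (ν * γ * ν⁻¹).1 (-(σ c • γ.1 v) + v) + -v ∈ A → A = ⊤

theorem Good2.congr {W' : Type*} [AddCommGroup W'] [Module F W'] {T' : PForm P W'} (ι : W ≃ₗ[F] W') (hι : IsIsom T T' ι) {γ ν : T.Isom}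
    {c : Fˣ} (h : Good2 T γ ν c) : Good2 T' (isomCongr ι hι γ) (isomCongr ι hι ν) c := by
  obtain ⟨h1, v, h2⟩ := h
  refine ⟨by simpa using h1.map (isomCongr ι hι), ι v, fun A a1 a2 => ?_⟩
  have := h2 (A.comap ι.toLinearMap.toAddMonoidHom) (fun x hx => by simpa using a1 _ hx) (by
    rw [← map_inv, ← map_mul, ← map_mul] at a2
    generalize ν * γ * ν⁻¹ = κ at a2 ⊢
    simpa using a2)
  exact eq_top_iff.2 fun x _ => by simpa using (this.ge (AddSubgroup.mem_top (ι.symm x)))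

theorem core_cl [FiniteDimensional F V] (hS : S.Nondeg) (hR : S.Rich 3) {e f : V} (H : S.IsHyp e f)
    {γ ν : (S.restrict (S.perp (Submodule.span F {e, f}))).Isom} {c : Fˣ} (d : Fˣ) (h : Good2 _ γ ν c)
    (hZ : ∀ a ∈ P.Λ, ∃ v ∈ S.perp (Submodule.span F {e, f}), ∃ v' ∈ S.perp (Submodule.span F {e, f}), S.h v v' - S.h v' v = a) :
    ∃ y ∈ S.E, ∀ K : Subgroup S.Isom, H.tor c * ext2 H.nondeg γ ∈ K → y * (H.swp d * ext2 H.nondeg ν) ∈ K → S.E ≤ K := by
  obtain ⟨h1, v, h2⟩ := h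
  have me : e ∈ Submodule.span F {e, f} := Submodule.subset_span (by simp)
  have mf : f ∈ Submodule.span F {e, f} := Submodule.subset_span (by simp)
  have pe : ∀ w : S.perp (Submodule.span F {e, f}), S.h e w = 0 := fun w => (S.mem_perp_pair.1 w.2).1
  refine ⟨S.eich e v (S.q v), S.eich_mem_E _ _ _, fun K hg hn => ?_⟩
  set g := H.tor c * ext2 H.nondeg γ with eg
  set n := H.swp d * ext2 H.nondeg ν with en
  have ge : g.1 e = (c : F) • e := by simp [eg, ext2_left _ _ me]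
  have gf : g.1 f = (σ c)⁻¹ • f := by simp [eg, ext2_left _ _ mf]
  have gw : ∀ w : S.perp (Submodule.span F {e, f}), g.1 w = γ.1 w := fun w => by simp [eg, ext2_right, H.tor_perp _ (γ.1 w).2]
  have ne : n.1 e = (d : F) • f := by simp [en, ext2_left _ _ me]
  have nf : n.1 f = (P.ε * (σ d)⁻¹) • e := by simp [en, ext2_left _ _ mf]
  have nw : ∀ w : S.perp (Submodule.span F {e, f}), n.1 w = ν.1 w := fun w => by simp [en, ext2_right, H.swp_perp _ (ν.1 w).2]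
  have hσ : ∀ u : Fˣ, σ u ≠ 0 := fun u => by simp
  have key : ∀ {x y : V} {a b : F}, n.1 x = a • y → a ≠ 0 → g.1 x = b • x → (n * g * n⁻¹).1 y = b • y := fun {x y a b} e1 h0 e2 => by
    have : y = n.1 (a⁻¹ • x) := by rw [map_smul, e1, inv_smul_smul₀ h0]
    rw [this, isom_mul_apply, isom_mul_apply, isom_inv_apply_self, map_smul, e2, smul_comm, map_smul]
  have ge' := key nf (mul_ne_zero P.ε_ne_zero (inv_ne_zero (hσ d))) gf
  have gf' := key ne d.ne_zero ge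
  have gw' : ∀ w : S.perp (Submodule.span F {e, f}), (n * g * n⁻¹).1 w = (ν * γ * ν⁻¹).1 w := fun w => by
    have : (n⁻¹).1 w = (ν⁻¹).1 w := by rw [← isom_inv_apply_self n ((ν⁻¹).1 w : V), nw, isom_apply_inv_self]
    rw [isom_mul_apply, isom_mul_apply, this, gw, nw]; rfl
  let R : S.perp (Submodule.span F {e, f}) → S.Isom → Prop := fun w x => ∃ a, S.ECond e w a ∧ x = S.eich e w a
  have hadd : ∀ w x w' x', R w x → R w' x' → R (w + w') (x * x') := by
    rintro w _ w' _ ⟨a, a1, rfl⟩ ⟨a', a2, rfl⟩; exact ⟨_, a1.add a2, eich_mul a1 a2⟩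
  have hneg : ∀ w x, R w x → R (-w) x⁻¹ := by rintro w _ ⟨a, a1, rfl⟩; exact ⟨_, a1.neg, eich_inv a1⟩
  have hconj : ∀ {k : S.Isom} {b : F} {κ : (S.restrict (S.perp (Submodule.span F {e, f}))).Isom}, b ≠ 0 → k.1 e = b • e →
      (∀ w : S.perp (Submodule.span F {e, f}), k.1 w = κ.1 w) → ∀ w x, R w x → R (σ b • κ.1 w) (k * x * k⁻¹) := by
    rintro k b κ hb e1 e2 w _ ⟨a, a1, rfl⟩
    have a2 := a1.map k
    rw [e1, e2] at a2
    have a3 : S.ECond e (κ.1 w) a := by simpa [hb] using a2.smul' b⁻¹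
    exact ⟨_, a2.smul hb, by rw [conj_eich, e1, e2, eich_smul a3]; rfl⟩
  have hc : g * (n * g * n⁻¹) = n * g * n⁻¹ * g := H.isom_ext (by rw [isom_mul_apply, ge', map_smul, ge, isom_mul_apply _ g, ge, map_smul, ge', smul_comm])
    (by rw [isom_mul_apply, gf', map_smul, gf, isom_mul_apply _ g, gf, map_smul, gf', smul_comm]) fun w hw => by
      rw [isom_mul_apply, gw' ⟨w, hw⟩, gw, isom_mul_apply _ g, gw ⟨w, hw⟩, gw', ← isom_mul_apply, h1.eq]; rfl
  have hy : R v (S.eich e v (S.q v)) := ⟨_, .of_q H.sing_e (pe v), rfl⟩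
  have k1 := trickR hadd hneg (hconj c.ne_zero ge gw) (hconj (inv_ne_zero (hσ c)) ge' gw') hc hy hg
    (by simpa [mul_assoc] using mul_mem (mul_mem hn hg) (inv_mem hn))
  rw [map_inv₀, P.σσ] at k1
  let A : AddSubgroup (S.perp (Submodule.span F {e, f})) :=
    { carrier := {w | ∃ x ∈ K, R w x}
      add_mem' := fun ⟨_, a1, a2⟩ ⟨_, a3, a4⟩ => ⟨_, mul_mem a1 a3, hadd _ _ _ _ a2 a4⟩
      zero_mem' := ⟨1, one_mem _, 0, .of_mem H.sing_e (zero_mem _), (eich_zero e).symm⟩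
      neg_mem' := fun ⟨_, a1, a2⟩ => ⟨_, inv_mem a1, hneg _ _ a2⟩ }
  have k2 : ∀ w, ∃ x ∈ K, R w x := fun w => (h2 A (fun w ⟨_, a1, a2⟩ => ⟨_, mul_mem (mul_mem hg a1) (inv_mem hg),
    hconj c.ne_zero ge gw _ _ a2⟩) k1).ge (AddSubgroup.mem_top w)
  have k3 : ∀ a ∈ P.Λ, S.eich e 0 a ∈ K := fun a ha => by
    obtain ⟨w, hw, w', hw', rfl⟩ := hZ a ha
    obtain ⟨_, a1, b, a2, rfl⟩ := k2 ⟨w, hw⟩
    obtain ⟨_, a3, b', a4, rfl⟩ := k2 ⟨w', hw'⟩
    rw [← commutator_eich a2 a4]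
    exact mul_mem (mul_mem (mul_mem a1 a3) (inv_mem a1)) (inv_mem a3)
  have k4 : ∀ (w : S.perp (Submodule.span F {e, f})) a, S.ECond e w a → S.eich e w a ∈ K := fun w a ha => by
    obtain ⟨_, a1, b, a2, rfl⟩ := k2 w
    have hm : a - b ∈ P.Λ := by simpa using P.Λ.sub_mem ha.q a2.q
    have := mul_mem a1 (k3 _ hm)
    rwa [eich_mul a2 (.of_mem H.sing_e hm), add_zero, map_zero, add_zero, add_sub_cancel] at this
  have k5 : S.X e ≤ K := by
    rintro _ ⟨v, a, rfl⟩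
    by_cases hc : S.ECond e v a
    swap
    · rw [eich_junk hc]; exact one_mem _
    have h1 := H.sub_mem_perp v
    rw [hc.perp, zero_smul, sub_zero, sub_eq_add_neg, ← neg_smul] at h1
    rw [← (eich_add_smul hc (-(P.ε * S.h f v))).2]
    refine k4 ⟨_, h1⟩ _ ⟨hc.sing, (S.mem_perp_pair.1 h1).1, ?_⟩
    have h2 := (eich_add_smul hc (-(P.ε * S.h f v))).1.q
    have hl : ∀ c, σ c - P.ε * c ∈ P.Λ := fun c => by simpa [P.σσ] using P.sub_mem (σ c)
    have := P.Λ.sub_mem (P.Λ.sub_mem h2 (hl (-(P.ε * S.h f v)))) (hl (-(P.ε * S.h f v)))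
    convert this using 1
    rw [S.h_swap_zero hc.perp]
    ring
  have k6 : n ∈ K := (K.mul_mem_cancel_left (k5 (S.eich_mem_X _ _ _))).1 hn
  exact E_le_of_X hS hR H k5 (X_conj_le k6 d.ne_zero ne k5)

end H23.G2
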