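import Cfsg.Agent.H23.G2c
import Cfsg.Agent.H11.Zas
import Cfsg.Agent.H11.Res

/-! Trace-form models of unitary and orthogonal spaces on a finite field (`trS`, `model`), generators of finite fields (`gen_orth`,
`gen_unit`), irreducibility on a product of two fields (`sep_top`). -/

set_option autoImplicit false

namespace H23.G2
open H11 H11.PForm Module

section arith
variable {L : Type*} [Field L] [Finite L]
theorem not_gen_pow {ξ : L} (h : ¬ Gen ξ) : ∃ k d : ℕ, 2 ≤ k ∧ 2 ≤ d ∧ Nat.card L = k ^ d ∧ ξ ^ k = ξ := by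
  let R := Subring.closure {ξ}
  have := Fintype.ofFinite R
  letI : Field R := (Finite.isField_of_domain R).toField
  refine ⟨Fintype.card R, finrank R L, Fintype.one_lt_card, ?_, by rw [Module.natCard_eq_pow_finrank (K := R), Nat.card_eq_fintype_card],
    (FiniteField.frobeniusAlgHom R L).commutes ⟨ξ, Subring.subset_closure rfl⟩⟩
  refine not_lt.1 fun h2 => h (eq_top_iff.2 fun a _ => ?_)
  obtain ⟨c, rfl⟩ := exists_smul_eq_of_finrank_eq_one (K := R) (by have := finrank_pos (R := R) (M := L); omega)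
    (one_ne_zero (α := L)) a
  simpa [Subring.smul_def] using c.2

theorem pow_pred {a : Lˣ} {k : ℕ} (hk : 1 ≤ k) (h : a ^ k = a) : a ^ (k - 1) = 1 := by
  apply mul_right_cancel (b := a); rw [← pow_succ, Nat.sub_add_cancel hk, h, one_mul]

theorem gen_orth {N : ℕ} (hL : Nat.card L = N ^ 2) (hN : 2 ≤ N) {c γ : Lˣ} (hγ : orderOf γ = N + 1) (hc : c ^ N = c) : Gen ((c * γ : Lˣ) : L) := by
  by_contra h
  obtain ⟨k, d, h1, h2, h3, h4⟩ := not_gen_pow h
  have h4 : (c * γ) ^ k = c * γ := Units.ext (by simpa using h4)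
  have e : γ ^ N = γ⁻¹ := eq_inv_of_mul_eq_one_left (by rw [← pow_succ, ← hγ, pow_orderOf_eq_one])
  have e1 : (c * γ) ^ N = c * γ⁻¹ := by rw [mul_pow, hc, e]
  have e2 : (c * γ⁻¹) ^ k = c * γ⁻¹ := by rw [← e1, ← pow_mul, mul_comm N, pow_mul, h4]
  have e3 : (γ ^ 2) ^ k = γ ^ 2 := by
    rw [show γ ^ 2 = c * γ * (c * γ⁻¹)⁻¹ by simp [sq, mul_comm, mul_left_comm], mul_pow, inv_pow, h4, e2]
  have e4 := pow_pred (by omega) e3
  rw [← pow_mul, ← orderOf_dvd_iff_pow_eq_one, hγ] at e4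
  rcases h2.eq_or_lt with rfl | h2
  · obtain rfl : N = k := Nat.pow_left_injective two_ne_zero (hL.symm.trans h3)
    have : N + 1 ∣ 2 := by
      rw [← hγ, orderOf_dvd_iff_pow_eq_one, sq]; exact mul_eq_one_iff_eq_inv.2 (mul_left_cancel (h4.symm.trans e1))
    have := Nat.le_of_dvd two_pos this; omega
  · have e5 := Nat.le_of_dvd (by omega) e4
    have e6 : k ^ 3 ≤ N ^ 2 := hL ▸ h3 ▸ Nat.pow_le_pow_right (by omega) h2
    obtain ⟨k, rfl⟩ := Nat.exists_eq_add_of_le' h1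
    have e7 : N ^ 2 ≤ (2 * k + 1) ^ 2 := Nat.pow_le_pow_left (by omega) 2
    nlinarith [Nat.zero_le (k ^ 3), Nat.zero_le (k ^ 2)]

theorem gen_unit {q j : ℕ} (hL : Nat.card L = (q ^ j) ^ 2) (hq : 2 ≤ q) (hj : 3 ≤ j) (ho : Odd j) {c γ : Lˣ} (hγ : orderOf γ = q ^ j + 1)
    (hc : c ^ q ^ 2 = c) : Gen ((c * γ : Lˣ) : L) := by
  by_contra h
  obtain ⟨k, d, h1, h2, h3, h4⟩ := not_gen_pow h
  have h4 : (c * γ) ^ k = c * γ := Units.ext (by simpa using h4)
  have q3 : q ^ 3 ≤ q ^ j := Nat.pow_le_pow_right (by omega) hj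
  have e1 : γ ^ (k - 1) = (c ^ (k - 1))⁻¹ := eq_inv_of_mul_eq_one_right (by rw [← mul_pow, pow_pred (by omega) h4])
  have e2 : (γ ^ (k - 1)) ^ q ^ 2 = γ ^ (k - 1) := by rw [e1, inv_pow, ← pow_mul, mul_comm, pow_mul, hc]
  have e3 : ∀ i, (γ ^ (k - 1)) ^ q ^ (2 * i) = γ ^ (k - 1) := fun i => by
    induction i with
    | zero => simp
    | succ i ih => rw [mul_add, pow_add, pow_mul, ih, mul_one, e2]
  obtain ⟨i, hi⟩ := ho
  have e4 : q ^ j + 1 ∣ (k - 1) * (q + 1) := by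
    rw [← hγ, orderOf_dvd_iff_pow_eq_one, pow_mul, pow_succ, ← e3 i, ← pow_mul _ _ q, ← pow_succ, e3 i, ← hi, ← pow_succ, ← pow_mul, mul_comm,
      pow_mul, ← hγ, pow_orderOf_eq_one, one_pow]
  rcases h2.eq_or_lt with rfl | h2
  · obtain rfl : q ^ j = k := Nat.pow_left_injective two_ne_zero (hL.symm.trans h3)
    have : q ^ j + 1 ∣ 2 * (q + 1) := by
      have := Nat.dvd_sub (Dvd.intro (q + 1) rfl) e4
      rwa [← Nat.sub_mul, show q ^ j + 1 - (q ^ j - 1) = 2 by omega] at this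
    have := Nat.le_of_dvd (by omega) this
    nlinarith [Nat.pow_le_pow_left hq 2]
  have e5 := Nat.le_of_dvd (Nat.mul_pos (by omega) (by omega)) e4
  have e6 : k ^ 3 ≤ (q ^ j) ^ 2 := hL ▸ h3 ▸ Nat.pow_le_pow_right (by omega) h2
  rcases hj.eq_or_lt with rfl | hj
  · rcases (show 3 ≤ d from h2).eq_or_lt with rfl | h2
    · obtain rfl : q ^ 2 = k := Nat.pow_left_injective three_ne_zero (by simp only; rw [← h3, hL]; ring)
      rw [mul_pow, hc, mul_right_inj] at h4
      have := pow_pred (by omega) h4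
      rw [← orderOf_dvd_iff_pow_eq_one, hγ] at this
      have := Nat.le_of_dvd (by omega) this
      have := Nat.pow_le_pow_right (show 0 < q by omega) (show 2 ≤ 3 by omega)
      omega
    · have e7 : (k ^ 2) ^ 2 ≤ (q ^ 3) ^ 2 := by rw [← pow_mul, ← hL, h3]; exact Nat.pow_le_pow_right (by omega) h2
      have e8 := (Nat.pow_le_pow_iff_left two_ne_zero).1 e7
      obtain ⟨k, rfl⟩ := Nat.exists_eq_add_of_le' h1
      obtain ⟨q, rfl⟩ := Nat.exists_eq_add_of_le' hq
      have e9 : q ^ 2 + 3 * q + 2 ≤ k := by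
        by_contra! c
        have : (k + 2 - 1) * (q + 2 + 1) ≤ (q ^ 2 + 3 * q + 2) * (q + 2 + 1) := Nat.mul_le_mul_right _ (by omega)
        nlinarith
      have := Nat.pow_le_pow_left (show q ^ 2 + 3 * q + 4 ≤ k + 2 by omega) 2
      nlinarith [Nat.zero_le (q ^ 4), Nat.zero_le (q ^ 3), Nat.zero_le (q ^ 2)]
  · have q5 : q ^ 5 ≤ q ^ j := Nat.pow_le_pow_right (by omega) (by omega)
    generalize q ^ j = N at *
    have e7 : N ^ 3 < (k * (q + 1)) ^ 3 := Nat.pow_lt_pow_left (lt_of_lt_of_le (Nat.lt_succ_self N)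
      (e5.trans (Nat.mul_le_mul_right _ (Nat.sub_le _ _)))) three_ne_zero
    have e8 : N < (q + 1) ^ 3 := by
      by_contra! c
      have := Nat.mul_le_mul e6 c
      rw [mul_pow] at e7
      nlinarith
    have e9 := Nat.pow_le_pow_left (show 2 * (q + 1) ≤ 3 * q by omega) 3
    have := Nat.mul_le_mul_left (q ^ 3) (Nat.pow_le_pow_left hq 2)
    nlinarith

theorem top_of_gen {a v : L} (ha : Gen a) (hv : v ≠ 0) {A : AddSubgroup L} (h : ∀ x ∈ A, a * x ∈ A) (h' : v ∈ A) : A = ⊤ :=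
  eq_top_iff.2 fun x _ => all_of_gen (P := (· ∈ A)) ha A.zero_mem (fun _ _ => A.add_mem) h hv h' x

theorem sep_top {L' : Type*} [Field L'] [Finite L'] {a v : L} {b w : L'} (ha : Gen a) (hb : Gen b) (hv : v ≠ 0) (hw : w ≠ 0) {M : ℕ}
    (h1 : a ^ M = a) (h2 : b ^ M ≠ b) {A : AddSubgroup (L × L')} (h : ∀ x ∈ A, (a * x.1, b * x.2) ∈ A) (h' : (v, w) ∈ A) : A = ⊤ := by
  have k1 : ∀ i : ℕ, (a ^ i * v, b ^ i * w) ∈ A := fun i => by
    induction i with
    | zero => simpa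
    | succ i ih => simpa [pow_succ', mul_assoc] using h _ ih
  have k2 := top_of_gen hb (mul_ne_zero (sub_ne_zero.2 h2) hw) (A := A.comap (AddMonoidHom.inr L L')) (fun x hx => by simpa using h _ hx)
    (by simpa [h1, sub_mul] using sub_mem (k1 M) (k1 1))
  have k3 : ∀ y, (0, y) ∈ A := fun y => k2.ge (AddSubgroup.mem_top y)
  have k4 := top_of_gen ha hv (A := A.comap (AddMonoidHom.inl L L')) (fun x hx => by simpa using h _ hx) (by simpa using sub_mem h' (k3 w))
  exact eq_top_iff.2 fun x _ => by simpa using add_mem (show (x.1, 0) ∈ A from k4.ge (AddSubgroup.mem_top x.1)) (k3 x.2)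

theorem exists_ord {N : ℕ} (hL : Nat.card L = N ^ 2) {β : Lˣ} (hβ : orderOf β = Nat.card L - 1) : orderOf (β ^ (N - 1)) = N + 1 := by
  have h2 := two_le_of_card_sq hL
  have e : Nat.card L - 1 = (N + 1) * (N - 1) := by rw [hL, ← Nat.sq_sub_sq, one_pow]
  rw [orderOf_pow' _ (by omega), hβ, e, Nat.gcd_mul_left_left, Nat.mul_div_cancel _ (by omega)]
end arith

variable {F L : Type*} [Field F] [Field L] [Algebra F L] {σ : F →+* F} {τ : L →+* L} {P : FParam σ}

theorem trace_τ (P : FParam σ) (hτ : ∀ a, τ (algebraMap F L a) = algebraMap F L (σ a)) (hττ : ∀ x, τ (τ x) = x) (x : L) :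
    Algebra.trace F L (τ x) = σ (Algebra.trace F L x) := by
  rw [Algebra.trace_eq_of_equiv_equiv (RingEquiv.ofRingHom σ σ (RingHom.ext P.σσ) (RingHom.ext P.σσ))
    (RingEquiv.ofRingHom τ τ (RingHom.ext hττ) (RingHom.ext hττ)) (RingHom.ext fun a => (hτ a).symm)]
  simp [hττ]

/-- the trace form `Tr (τ x * y)` -/
noncomputable def trS (P : FParam σ) (hε : P.ε = 1) (hτ : ∀ a, τ (algebraMap F L a) = algebraMap F L (σ a)) (hττ : ∀ x, τ (τ x) = x)
    {θ : L} (hθ : θ + τ θ = 1) : PForm P L where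
  h := LinearMap.mk₂'ₛₗ σ (RingHom.id F) (fun x y => Algebra.trace F L (τ x * y)) (by simp [add_mul])
    (fun c x y => by rw [Algebra.smul_def, map_mul τ, hτ, mul_assoc, ← Algebra.smul_def, map_smul]) (by simp [mul_add]) (by simp)
  q x := Algebra.trace F L (θ * (τ x * x))
  symm x y := by simp [hε, ← trace_τ P hτ hττ, hττ, mul_comm]
  q_add x y := by
    convert P.sub_mem (Algebra.trace F L (θ * (τ y * x))) using 1
    simp only [LinearMap.mk₂'ₛₗ_apply, hε, one_mul, ← trace_τ P hτ hττ, ← map_add, ← map_sub, map_mul, hττ]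
    congr 1; rw [map_add]; linear_combination (τ x * y) * hθ
  q_smul a x := by
    convert P.Λ.zero_mem
    rw [sub_eq_zero, mul_right_comm, ← smul_eq_mul (σ a * a), ← map_smul]
    congr 1; simp only [Algebra.smul_def, map_mul, hτ]; ring
  h_self x := by
    simp only [LinearMap.mk₂'ₛₗ_apply, hε, one_mul, ← trace_τ P hτ hττ, ← map_add, map_mul, hττ]
    congr 1; linear_combination -(τ x * x) * hθ

theorem model [Finite L] (P : FParam σ) (hε : P.ε = 1) (hτ : ∀ a, τ (algebraMap F L a) = algebraMap F L (σ a)) (hττ : ∀ x, τ (τ x) = x)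
    (hne : τ ≠ RingHom.id L) : ∃ T : PForm P L, T.Nondeg ∧ (∀ γ : L, τ γ * γ = 1 → ∃ g : T.Isom, ∀ x, g.1 x = γ * x) ∧
      ∀ φ : L ≃ₐ[F] L, (∀ x, φ (τ x) = τ (φ x)) → ∃ g : T.Isom, ∀ x, g.1 x = φ x := by
  obtain ⟨θ, hθ⟩ := exists_trace_one hττ hne
  have := Finite.of_injective _ (algebraMap F L).injective
  have hN : (trS P hε hτ hττ hθ).Nondeg := fun x h => by
    have := (traceForm_nondegenerate F L).1 (τ x) h
    rwa [map_eq_zero] at this
  refine ⟨trS P hε hτ hττ hθ, hN, fun γ h => ⟨mkIsom hN (LinearMap.mulLeft F γ) ⟨fun x y => ?_, fun x => ?_⟩, fun _ => rfl⟩,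
    fun φ h => ⟨⟨φ.toLinearEquiv, fun x y => ?_, fun x => ?_⟩, fun _ => rfl⟩⟩
  · change Algebra.trace F L (τ (γ * x) * (γ * y)) = Algebra.trace F L (τ x * y)
    congr 1; rw [map_mul]; linear_combination (τ x * y) * h
  · change Algebra.trace F L (θ * (τ (γ * x) * (γ * x))) - Algebra.trace F L (θ * (τ x * x)) ∈ _
    convert P.Λ.zero_mem
    rw [sub_eq_zero]; congr 1; rw [map_mul]; linear_combination (θ * τ x * x) * h
  · change Algebra.trace F L (τ (φ x) * φ y) = Algebra.trace F L (τ x * y)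
    rw [← h, ← map_mul, Algebra.trace_eq_of_algEquiv]
  · change Algebra.trace F L (θ * (τ (φ x) * φ x)) - Algebra.trace F L (θ * (τ x * x)) ∈ _
    convert P.sub_mem (Algebra.trace F L (θ * (θ - φ θ) * (τ (φ x) * φ x))) using 1
    rw [← Algebra.trace_eq_of_algEquiv φ (θ * (τ x * x))]
    have h2 := congrArg φ hθ
    rw [hε, one_mul, ← trace_τ P hτ hττ, ← map_sub, ← map_sub]
    congr 1
    simp only [map_mul, map_sub, map_add, map_one, hττ, h] at h2 ⊢
    linear_combination (τ (φ x) * φ x * (τ θ - (θ - φ θ))) * hθ - (τ (φ x) * φ x * τ θ) * h2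

theorem exists_ext (F : Type*) [Field F] [Finite F] {m N : ℕ} (hm : m ≠ 0) (hN : Nat.card F ^ m = N ^ 2) :
    ∃ (L : Type) (_ : Field L) (_ : Algebra F L) (_ : Finite L) (τ : L →+* L), finrank F L = m ∧ Nat.card L = N ^ 2 ∧ (∀ x, τ x = x ^ N) ∧
      (∀ x, τ (τ x) = x) ∧ τ ≠ RingHom.id L := by
  obtain ⟨p, hp⟩ := CharP.exists F
  have : Fact p.Prime := ⟨CharP.char_is_prime F p⟩
  have : NeZero m := ⟨hm⟩
  let L := FiniteField.Extension F p m
  have hL : finrank F L = m := FiniteField.finrank_extension F p m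
  have : Finite L := Module.finite_of_finite F
  have hc : Nat.card L = N ^ 2 := by rw [Module.natCard_eq_pow_finrank (K := F), hL, hN]
  have := Fintype.ofFinite L
  obtain ⟨τ, h1, h2, h3⟩ := H11.exists_frob (F := L) (q := N) (by rw [← Nat.card_eq_fintype_card, hc])
  exact ⟨L, inferInstance, inferInstance, inferInstance, τ, hL, hc, h1, h2, h3⟩

end H23.G2
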