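import Cfsg.Agent.H12.GenW
import Cfsg.Agent.H12.TwG
import Cfsg.Agent.H11.Gen2

/-! Two-generation of groups with a Steinberg system: Steinberg's commutator trick (`trick`), scalar action on a root subgroup (`Sc`),
derivation certificates (`Der`), the schemes `genB` (fields with at least three elements) and `genC` (the field with two elements). -/

set_option autoImplicit false

namespace H23.G2
open Cfsg.Lie H12 H13 H12.StSys Subgroup

theorem trick {Γ : Type*} [Group Γ] {K : Subgroup Γ} {g g' y : Γ} (hc : g * g' = g' * g) (hg : g ∈ K) (hy : y * g' * y⁻¹ ∈ K) :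
    (g * y * g⁻¹) * (g' * ((g * y * g⁻¹)⁻¹ * y) * g'⁻¹) * y⁻¹ ∈ K := by
  have := mul_mem (mul_mem (mul_mem hg hy) (inv_mem hg)) (inv_mem hy)
  have e : g⁻¹ * g' * g = g' := by rw [mul_assoc, ← hc]; group
  convert this using 1
  calc _ = g * y * (g⁻¹ * g' * g) * y⁻¹ * g⁻¹ * y * g'⁻¹ * y⁻¹ := by group
    _ = _ := by rw [e]; group

theorem split {Γ : Type*} [Group Γ] {K : Subgroup Γ} {x h : Γ} {Q : ℕ} (hc : Commute x h) (hx : x ^ Q = 1) (hh : h ^ Q = h)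
    (ha : x * h ∈ K) : x ∈ K ∧ h ∈ K := by
  have h1 : h ∈ K := by simpa [hc.mul_pow, hx, hh] using pow_mem ha Q
  exact ⟨by simpa using mul_mem ha (inv_mem h1), h1⟩

theorem pow_conj_mem {Γ : Type*} [Group Γ] {K : Subgroup Γ} {n h : Γ} (hn : n ∈ K) (hh : h ∈ K) (k : ℕ) : n ^ k * h * (n ^ k)⁻¹ ∈ K :=
  mul_mem (mul_mem (pow_mem hn k) hh) (inv_mem (pow_mem hn k))

theorem top_of {Γ : Type*} [Group Γ] {a b : Γ} (h : ∀ K : Subgroup Γ, a ∈ K → b ∈ K → K = ⊤) : Subgroup.closure ({a, b} : Set Γ) = ⊤ :=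
  h _ (Subgroup.subset_closure (Set.mem_insert _ _)) (Subgroup.subset_closure (Set.mem_insert_of_mem _ rfl))

/-- a two-generated subgroup is a two-generated group -/
theorem gen2_sub {Γ : Type*} [Group Γ] {A : Subgroup Γ} {a b : Γ} (ha : a ∈ A) (hb : b ∈ A)
    (h : ∀ K : Subgroup Γ, K ≤ A → a ∈ K → b ∈ K → A ≤ K) : ∃ a b : A, closure ({a, b} : Set A) = ⊤ := by
  refine ⟨⟨a, ha⟩, ⟨b, hb⟩, eq_top_iff.2 fun g _ => ?_⟩
  obtain ⟨g', h1, h2⟩ := h ((closure ({⟨a, ha⟩, ⟨b, hb⟩} : Set A)).map A.subtype) (map_subtype_le _)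
    ⟨_, subset_closure (Set.mem_insert _ _), rfl⟩ ⟨_, subset_closure (Set.mem_insert_of_mem _ rfl), rfl⟩ g.2
  exact (Subtype.ext h2 : g' = g) ▸ h1

variable {D : ChevalleyDatum} [G : Good D] {F : Type*} [Field F] {Γ : Type*} [Group Γ] {S : StSys D F Γ}

/-- `g` acts on the root subgroup of `r` by the scalar `a` -/
def Sc (S : StSys D F Γ) (g : Γ) (r : Φ D) (a : F) : Prop := ∀ u, g * S.x r u * g⁻¹ = S.x r (a * u)

theorem Sc.mul {g g' : Γ} {r : Φ D} {a b : F} (h : Sc S g r a) (h' : Sc S g' r b) : Sc S (g * g') r (a * b) := fun u => by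
  rw [mul_assoc a, ← h, ← h']; group
theorem sc_h (r s : Φ D) (t : Fˣ) : Sc S (S.h r t) s (t ^ pr r s : Fˣ) := S.h_conj_x r s t
theorem Sc.conj {g n : Γ} {w : W D} {r : Φ D} {a : F} (hn : S.Act n w) (h : Sc S g (w⁻¹ • r) a) : Sc S (n * g * n⁻¹) r a := fun u => by
  obtain ⟨c, hc⟩ := hn.conj_x (w⁻¹ • r)
  rw [smul_inv_smul] at hc
  have e := hc ((c⁻¹ : Fˣ) * u)
  rw [Units.mul_inv_cancel_left] at e
  calc _ = n * (g * S.x (w⁻¹ • r) ((c⁻¹ : Fˣ) * u) * g⁻¹) * n⁻¹ := by rw [← e]; group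
    _ = _ := by rw [h, hc]; congr 1; rw [mul_left_comm, Units.mul_inv_cancel_left]
theorem act_pow {n : Γ} {w : W D} (hn : S.Act n w) (k : ℕ) : S.Act (n ^ k) (w ^ k) := by
  induction k with
  | zero => simpa using S.act_one
  | succ k ih => rw [pow_succ, pow_succ]; exact ih.mul hn
theorem run_iter (l : List (I D)) (k : ℕ) (r : Φ D) : (runW (tab D) (l.map Fin.val))^[k] r = (((wp l ^ k)⁻¹ • r : Φ D) : ℕ) := by
  induction k generalizing r with
  | zero => simp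
  | succ k ih => rw [Function.iterate_succ_apply, runW_eq, ih, pow_succ', mul_inv_rev, mul_smul]
theorem Sc.commute {g : Γ} {r : Φ D} (h : Sc S g r 1) (t : F) : Commute (S.x r t) g := by
  have := h t
  rw [one_mul, mul_inv_eq_iff_eq_mul] at this
  exact this.symm
theorem Sc.pow_mem {K : Subgroup Γ} {g : Γ} {r : Φ D} {a u : F} (h : Sc S g r a) (hg : g ∈ K) (hu : S.x r u ∈ K) (i : ℕ) :
    S.x r (a ^ i * u) ∈ K := by
  induction i with
  | zero => simpa using hu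
  | succ i ih => rw [pow_succ', mul_assoc, ← h]; exact mul_mem (mul_mem hg ih) (inv_mem hg)
theorem Sc.full [Finite F] {K : Subgroup Γ} {g : Γ} {r : Φ D} {a u : F} (h : Sc S g r a) (hg : g ∈ K) (ha : H11.Gen a) (h0 : u ≠ 0)
    (hu : S.x r u ∈ K) (t : F) : S.x r t ∈ K :=
  H11.Gen.all (X := S.x r) ⟨S.add r⟩ ha h0 (h.pow_mem hg hu) t

theorem x_pow_card [Finite F] (r : Φ D) (t : F) : S.x r t ^ Nat.card F = 1 := by
  have := Fintype.ofFinite F
  rw [H11.Add1.pow ⟨S.add r⟩, Nat.card_eq_fintype_card, Nat.cast_card_eq_zero, zero_mul, S.x_zero]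
theorem H_pow_card [Finite F] (h3 : S.R3) {h : Γ} (hh : h ∈ S.H) : h ^ Nat.card F = h := by
  obtain ⟨c, rfl⟩ := h3.exists_hl hh
  have := Fintype.ofFinite F
  rw [← h3.hprod_apply, ← map_pow]; congr 1; funext i
  exact Units.ext (by simp [FiniteField.pow_card])

/-- one step of a derivation: the root `c.1` is obtained from `c.2.1` by the Weyl element or from `c.2.1, c.2.2` by a commutator -/
def Step (T : Tab) (l L : List ℕ) (c : ℕ × ℕ × ℕ) : Prop := c.2.1 ∈ L ∧ (c.1 = runW T l c.2.1 ∨ (c.1 < T.n ∧ c.2.2 ∈ L ∧ c.2.2 ≠ c.2.1 ∧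
  c.2.2 ≠ T.ng c.2.1 ∧ (∃ n ∈ [(1 : ℤ), -1], (c.1, n, 1, 1) ∈ T.terms c.2.1 c.2.2) ∧ ∀ d ∈ T.terms c.2.1 c.2.2, d.1 ≠ c.1 → d.1 ∈ L))
noncomputable instance decStep (T : Tab) (l L : List ℕ) (c : ℕ × ℕ × ℕ) : Decidable (Step T l L c) := by unfold Step; infer_instance
def Der (T : Tab) (l : List ℕ) : List ℕ → List (ℕ × ℕ × ℕ) → List ℕ → Prop
  | L, [], E => ∀ e ∈ E, e ∈ L
  | L, c :: cs, E => Step T l L c ∧ Der T l (c.1 :: L) cs E
noncomputable instance decDer (T : Tab) (l : List ℕ) : ∀ L cs E, Decidable (Der T l L cs E)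
  | L, [], E => inferInstanceAs (Decidable (∀ e ∈ E, e ∈ L))
  | L, c :: cs, E => @instDecidableAnd _ _ (decStep T l L c) (decDer T l (c.1 :: L) cs E)

/-- the root subgroup with index `r` lies in `K` -/
def Fu (S : StSys D F Γ) (K : Subgroup Γ) (r : ℕ) : Prop := ∃ r' : Φ D, r'.1 = r ∧ ∀ t, S.x r' t ∈ K

theorem Fu.mem {K : Subgroup Γ} {r : Φ D} (h : Fu S K r) (t : F) : S.x r t ∈ K := by
  obtain ⟨r', e, h⟩ := h; exact Fin.ext e ▸ h t

theorem full_smul {K : Subgroup Γ} {n : Γ} {w : W D} (hn : S.Act n w) (hK : n ∈ K) {r : Φ D} (h : ∀ t, S.x r t ∈ K) (t : F) :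
    S.x (w • r) t ∈ K := by
  obtain ⟨c, hc⟩ := hn.conj_x r
  simpa [hc] using mul_mem (mul_mem hK (h (↑c⁻¹ * t))) (inv_mem hK)

theorem Der.fu {K : Subgroup Γ} {n : Γ} {l : List (I D)} (hn : S.Act n (wp l)) (hK : n ∈ K) {L E : List ℕ} {cs : List (ℕ × ℕ × ℕ)}
    (h : Der (tab D) (l.map Fin.val) L cs E) (hL : ∀ r ∈ L, Fu S K r) : ∀ r ∈ E, Fu S K r := by
  induction cs generalizing L with
  | nil => exact fun r hr => hL r (h r hr)
  | cons c cs ih =>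
    obtain ⟨u, a, b⟩ := c
    refine ih h.2 (List.forall_mem_cons.2 ⟨?_, hL⟩)
    obtain ⟨h1, h2 | ⟨h2, h3, h4, h5, ⟨m, hm, h6⟩, h7⟩⟩ := h.1
    · obtain ⟨a, rfl, ha⟩ := hL _ h1
      exact ⟨_, (h2.trans (runW_eq l a)).symm, full_smul hn.inv (inv_mem hK) ha⟩
    · obtain ⟨a, rfl, ha⟩ := hL _ h1
      obtain ⟨b, rfl, hb⟩ := hL _ h3
      lift u to Φ D using h2
      have hm : (m : F) * m = 1 := by rcases List.mem_pair.1 hm with rfl | rfl <;> simp
      refine ⟨u, rfl, fun t => x_mem_of_cword (a := a) (b := b) (fun h => h4 (congrArg Fin.val h)) (fun h => h5 (congrArg Fin.val h))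
        (t := -(m * t)) (u := 1) (List.mem_map.2 ⟨(u, m, 1, 1), mem_toΦ.2 h6, by simp [← mul_assoc, hm]⟩)
        (mul_mem (mul_mem (mul_mem (inv_mem (hb _)) (inv_mem (ha _))) (hb _)) (ha _)) fun c hc hne => ?_⟩
      exact (hL _ (h7 _ (mem_toΦ.1 hc) fun h => hne (Fin.ext h))).mem

/-- the fundamental roots and their negatives -/
def goals (T : Tab) : List ℕ := (List.range T.l).flatMap fun i => [T.sim i, T.ng (T.sim i)]
theorem T_le_of_goals {K : Subgroup Γ} (h : ∀ r ∈ goals (tab D), Fu S K r) : S.T ≤ K :=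
  T_le_of_sim (fun i => (h (sim i : Φ D) (List.mem_flatMap.2 ⟨i, List.mem_range.2 i.2, List.mem_cons_self⟩)).mem)
    fun i => (h (ng (sim i) : Φ D) (List.mem_flatMap.2 ⟨i, List.mem_range.2 i.2, List.mem_cons_of_mem _ List.mem_cons_self⟩)).mem

theorem gen_zpow [Finite F] {ζ : Fˣ} (hζ : orderOf ζ = Nat.card F - 1) {m : ℤ} (hm : m ∈ [(1 : ℤ), -1, 2, -2]) : H11.Gen ((ζ ^ m : Fˣ) : F) := by
  have h' : orderOf ζ⁻¹ = Nat.card F - 1 := by rw [orderOf_inv, hζ]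
  simp only [List.mem_cons, List.not_mem_nil, or_false] at hm
  rcases hm with rfl | rfl | rfl | rfl
  · simpa using H11.gen_pow hζ (m := 1) (by simp)
  · simpa using H11.gen_pow h' (m := 1) (by simp)
  · simpa [zpow_ofNat] using H11.gen_pow hζ (m := 2) (by simp)
  · simpa [zpow_ofNat] using H11.gen_pow h' (m := 2) (by simp)

def ChkB (T : Tab) (t r s k : ℕ) (cs : List (ℕ × ℕ × ℕ)) : Prop := t < T.n ∧ r < T.n ∧ s < T.n ∧ T.pr t r = 0 ∧ T.pr t s ∈ [(1 : ℤ), -1] ∧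
  T.pr t (runW T (List.range T.l) s) ∈ [(1 : ℤ), -1] ∧ T.pr t ((runW T (List.range T.l))^[k] r) ∈ [(1 : ℤ), -1, 2, -2] ∧
  Der T (List.range T.l) [s, (runW T (List.range T.l))^[k] r] cs (goals T)
noncomputable instance decChkB (T : Tab) (t r s k : ℕ) (cs : List (ℕ × ℕ × ℕ)) : Decidable (ChkB T t r s k cs) := by unfold ChkB; infer_instance

theorem genB [Finite F] (h3 : S.R3) (hT : S.T = ⊤) (hF : ∃ x : F, x ≠ 0 ∧ x ≠ 1) {t r s k : ℕ} {cs : List (ℕ × ℕ × ℕ)}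
    (h : ChkB (tab D) t r s k cs) : ∃ a b : Γ, closure ({a, b} : Set Γ) = ⊤ := by
  obtain ⟨c1, c2, c3, c4, c5, c6, c7, c8⟩ := h
  lift t to Φ D using c1
  lift r to Φ D using c2
  lift s to Φ D using c3
  obtain ⟨ζ, hζ, hζ'⟩ := H11.exists_prim F
  have h1 : ζ ≠ 1 := by
    rintro rfl
    obtain ⟨x, x0, x1⟩ := hF
    obtain ⟨i, hi⟩ := hζ' (Units.mk0 x x0)
    exact x1 (by simpa using (congrArg Units.val hi).symm)
  have h2 : ∀ m ∈ [(1 : ℤ), -1], ((ζ ^ m : Fˣ) : F) - 1 ≠ 0 := fun m hm => sub_ne_zero.2 <| by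
    rcases List.mem_pair.1 hm with rfl | rfl <;> simpa using h1
  rw [show (tab D).l = D.rank from rfl, ← List.map_coe_finRange_eq_range] at c6 c7 c8
  generalize List.finRange D.rank = l at c6 c7 c8
  rw [run_iter] at c7 c8
  rw [runW_eq] at c6
  rw [pr_tab] at c4 c5 c6 c7
  have hn := S.act_nw l
  generalize S.nw l = n at hn
  refine ⟨S.x r 1 * S.h t ζ, S.x s 1 * n, top_of fun K ha hb => ?_⟩
  obtain ⟨k1, k2⟩ := split (Sc.commute (by simpa [c4] using sc_h (S := S) t r ζ) 1) (x_pow_card r 1) (H_pow_card h3 (S.h_mem_H t ζ)) ha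
  have s1 := sc_h (S := S) t s ζ
  have s2 := Sc.conj hn (sc_h (S := S) t ((wp l)⁻¹ • s) ζ)
  have k3 := trick (y := S.x s 1) (h3.comm (S.h_mem_H t ζ) (hn.conj_mem_H (S.h_mem_H t ζ))) k2
    (by simpa [mul_assoc] using mul_mem (mul_mem hb k2) (inv_mem hb))
  rw [s1, ← x_neg, ← S.add, s2, ← x_neg, ← S.add, ← S.add] at k3
  have k4 := s1.full k2 (gen_zpow hζ (by simp only [List.mem_cons] at c5 ⊢; tauto)) (fun e => mul_ne_zero (h2 _ c5) (h2 _ c6) (by
    linear_combination -e)) k3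
  have k5 : n ∈ K := by simpa using mul_mem (inv_mem (k4 1)) hb
  obtain ⟨c, hc⟩ := (act_pow hn k).inv.conj_x r
  have k6 := (sc_h (S := S) t ((wp l ^ k)⁻¹ • r) ζ).full k2 (gen_zpow hζ c7) (u := (c : F) * 1) (by simp)
    (hc 1 ▸ mul_mem (mul_mem (inv_mem (pow_mem k5 k)) k1) (inv_mem (inv_mem (pow_mem k5 k))))
  exact eq_top_iff.2 (hT ▸ T_le_of_goals (c8.fu hn k5 (List.forall_mem_cons.2 ⟨⟨s, rfl, k4⟩, List.forall_mem_singleton.2 ⟨_, rfl, k6⟩⟩)))

def ChkC (T : Tab) (r s ρ u : ℕ) (cs cs' : List (ℕ × ℕ × ℕ)) : Prop := r < T.n ∧ s < T.n ∧ ρ < T.n ∧ u < T.n ∧ s ≠ r ∧ s ≠ T.ng r ∧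
  (∃ n ∈ [(1 : ℤ), -1], T.terms r s = [(ρ, n, 1, 1)]) ∧ s ≠ ρ ∧ s ≠ T.ng ρ ∧ T.terms ρ s = [] ∧ u ≠ r ∧ u ≠ T.ng r ∧ T.terms r u = [] ∧
  u ≠ s ∧ u ≠ T.ng s ∧ T.terms s u = [] ∧ Der T (List.range T.l) [ρ] cs [r, s] ∧ Der T (List.range T.l) [ρ, u] (cs ++ cs') (goals T)
noncomputable instance decChkC (T : Tab) (r s ρ u : ℕ) (cs cs' : List (ℕ × ℕ × ℕ)) : Decidable (ChkC T r s ρ u cs cs') := by
  unfold ChkC; infer_instance

theorem commute_of_terms {r s : Φ D} (h1 : (s : ℕ) ≠ r) (h2 : (s : ℕ) ≠ (tab D).ng r) (h : (tab D).terms r s = []) (t u : F) :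
    Commute (S.x r t) (S.x s u) := by
  have := S.comm (r := r) (s := s) (fun h => h1 (congrArg Fin.val h)) (fun h => h2 (congrArg Fin.val h)) t u
  rw [cword, cterms, show D.commTerms r s = [] from h, toΦ_nil, List.map_nil, wprod_nil, mul_one] at this
  exact this.symm

theorem genC (hT : S.T = ⊤) (hF : ∀ x : F, x = 0 ∨ x = 1) {r s ρ u : ℕ} {cs cs' : List (ℕ × ℕ × ℕ)}
    (h : ChkC (tab D) r s ρ u cs cs') : ∃ a b : Γ, closure ({a, b} : Set Γ) = ⊤ := by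
  obtain ⟨c1, c2, c3, c4, c5, c6, ⟨m, hm, c7⟩, c8, c9, c10, c11, c12, c13, c14, c15, c16, c17, c18⟩ := h
  lift r to Φ D using c1
  lift s to Φ D using c2
  lift ρ to Φ D using c3
  lift u to Φ D using c4
  rw [show (tab D).l = D.rank from rfl, ← List.map_coe_finRange_eq_range] at c17 c18
  generalize List.finRange D.rank = l at c17 c18
  have hn := S.act_nw l
  generalize S.nw l = n at hn
  have two : (1 : F) + 1 = 0 := (hF _).resolve_right (by simp)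
  have neg : (-1 : F) = 1 := by linear_combination -two
  have sq : ∀ r, S.x r 1 * S.x r 1 = 1 := fun r => by rw [← S.add, two, S.x_zero]
  refine ⟨S.x r 1 * S.x s 1 * S.x u 1, n, top_of fun K ha hb => ?_⟩
  have fu : ∀ r : Φ D, S.x r 1 ∈ K → Fu S K r := fun r h => ⟨r, rfl, fun t => by
    rcases hF t with rfl | rfl
    exacts [S.x_zero r ▸ one_mem K, h]⟩
  have e1 := S.comm (r := r) (s := s) (fun h => c5 (congrArg Fin.val h)) (fun h => c6 (congrArg Fin.val h)) 1 1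
  rw [cword, cterms, show D.commTerms r s = [((ρ : ℕ), m, 1, 1)] from c7, toΦ_cons, toΦ_nil, List.map_singleton, wprod_cons, wprod_nil,
    show (m : F) * (-1) ^ 1 * 1 ^ 1 = 1 by rcases List.mem_pair.1 hm with rfl | rfl <;> simp [neg], mul_one] at e1
  have e2 := commute_of_terms (S := S) c8 c9 c10 1 1
  have e3 := ((commute_of_terms (S := S) c11 c12 c13 1 1).mul_left (commute_of_terms (S := S) c14 c15 c16 1 1))
  have k1 : S.x ρ 1 ∈ K := by
    convert mul_mem ha ha using 1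
    symm
    calc _ = S.x r 1 * (S.x s 1 * S.x r 1) * S.x s 1 * (S.x u 1 * S.x u 1) := by
          rw [mul_assoc _ (S.x u 1), ← mul_assoc (S.x u 1), ← e3.eq]; group
      _ = _ := by
          rw [sq, mul_one, e1, ← mul_assoc, ← mul_assoc, sq, one_mul, mul_assoc, e2.eq, ← mul_assoc, sq, one_mul]
  have k2 := c17.fu hn hb (List.forall_mem_singleton.2 (fu ρ k1))
  have k3 : S.x u 1 ∈ K := (K.mul_mem_cancel_left (mul_mem ((k2 r (by simp)).mem 1) ((k2 s (by simp)).mem 1))).1 ha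
  exact eq_top_iff.2 (hT ▸ T_le_of_goals (c18.fu hn hb (List.forall_mem_cons.2 ⟨fu ρ k1, List.forall_mem_singleton.2 (fu u k3)⟩)))

end H23.G2
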