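import Cfsg.Agent.H23.G2x
import Cfsg.Agent.H12.TwF4
import Cfsg.Agent.H12.TwD4
import Cfsg.Agent.H12.TwE6

/-! Two-generation of twisted groups: additive relations (`trickR`, `all_of_gen`), classes of orthogonal fundamental roots (`Rr`),
transport of classes (`gen_fix_le`), admissibility (`adm_of`). -/

set_option autoImplicit false

namespace H23.G2
open Cfsg.Lie H12 H13 H12.StSys Subgroup

theorem trickR {Γ M : Type*} [Group Γ] [AddCommGroup M] {K : Subgroup Γ} {R : M → Γ → Prop} {g g' y : Γ} {A A' : M → M} {v : M}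
    (hadd : ∀ v x v' x', R v x → R v' x' → R (v + v') (x * x')) (hneg : ∀ v x, R v x → R (-v) x⁻¹)
    (h1 : ∀ v x, R v x → R (A v) (g * x * g⁻¹)) (h2 : ∀ v x, R v x → R (A' v) (g' * x * g'⁻¹)) (hc : g * g' = g' * g) (hy : R v y)
    (hg : g ∈ K) (hy' : y * g' * y⁻¹ ∈ K) : ∃ x ∈ K, R (A v + A' (-A v + v) + -v) x :=
  ⟨_, trick hc hg hy', hadd _ _ _ _ (hadd _ _ _ _ (h1 _ _ hy) (h2 _ _ (hadd _ _ _ _ (hneg _ _ (h1 _ _ hy)) hy))) (hneg _ _ hy)⟩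

theorem all_of_gen {F : Type*} [Field F] [Finite F] {P : F → Prop} {a v : F} (ha : H11.Gen a) (h0 : P 0) (hadd : ∀ u v, P u → P v → P (u + v))
    (hm : ∀ u, P u → P (a * u)) (hv : v ≠ 0) (h : P v) (u : F) : P u := by
  have := ha.ind (P := fun t => P (t * v)) (by simpa) (fun a c h h' => by simpa [add_mul] using hadd _ _ h h') (fun i => by
    induction i with
    | zero => simpa
    | succ i ih => simpa [pow_succ', mul_assoc] using hm _ ih) (u / v)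
  rwa [div_mul_cancel₀ _ hv] at this

theorem pow_ind {F : Type*} [Monoid F] {P : F → Prop} {a : F} (h1 : P 1) (hm : ∀ u, P u → P (a * u)) (i : ℕ) : P (a ^ i) := by
  induction i with
  | zero => simpa
  | succ i ih => rw [pow_succ']; exact hm _ ih

/-- an injective endomorphism maps a generator to a generator -/
theorem prim_map {F : Type*} [Field F] [Finite F] {ζ : Fˣ} (hζ : orderOf ζ = Nat.card F - 1) (f : Fˣ →* Fˣ) (hf : ∀ a, f a = 1 → a = 1) :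
    orderOf (f ζ) = Nat.card F - 1 := by rw [orderOf_injective f ((injective_iff_map_eq_one f).2 hf), hζ]

theorem fix_pow {F : Type*} [Field F] [Finite F] {ζ : Fˣ} (hζ : orderOf ζ = Nat.card F - 1) {q M : ℕ} (hq : 2 ≤ q)
    (hM : Nat.card F - 1 = M * (q - 1)) {v : F} (h0 : v ≠ 0) (hv : v ^ q = v) : ∃ i : ℕ, v = ((ζ : F) ^ M) ^ i := by
  have ht : zpowers ζ = ⊤ := Subgroup.eq_top_of_card_eq _ (by rw [Nat.card_zpowers, hζ, Nat.card_units])
  obtain ⟨j, hj⟩ := (mem_powers_iff_mem_zpowers (x := ζ) (y := Units.mk0 v h0)).2 (ht ▸ mem_top _)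
  have e : v = (ζ : F) ^ j := by simpa using (congrArg Units.val hj).symm
  have h1 : ζ ^ (j * (q - 1)) = 1 := by
    apply Units.ext
    rw [Units.val_pow_eq_pow_val, pow_mul, ← e, Units.val_one]
    apply mul_right_cancel₀ h0
    rw [← pow_succ, Nat.sub_add_cancel (by omega), hv, one_mul]
  rw [← orderOf_dvd_iff_pow_eq_one, hζ, hM] at h1
  obtain ⟨i, rfl⟩ := Nat.dvd_of_mul_dvd_mul_right (by omega) h1
  exact ⟨i, by rw [e, pow_mul]⟩

variable {D : ChevalleyDatum} [G : Good D] {F : Type*} [Field F] {Γ : Type*} [Group Γ] {S : StSys D F Γ} {R : RSym D}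
  {θ : Γ →* GL D.Idx F}

theorem gen_fix_le {τ : Tw S R} {K : Subgroup Γ} (hK : K ≤ τ.Fix) {n : Γ} {w : W D} (hn : S.Act n w) (hn' : n ∈ K) {A B : Set (Φ D)}
    (h : ∀ r ∈ B, w⁻¹ • r ∈ A) (hA : S.gen A ⊓ τ.Fix ≤ K) : S.gen B ⊓ τ.Fix ≤ K := fun g hg => by
  have := hA (mem_inf.2 ⟨hn.conj_mem' h hg.1, mul_mem (mul_mem (inv_mem (hK hn')) hg.2) (hK hn')⟩)
  simpa [mul_assoc] using mul_mem (mul_mem hn' this) (inv_mem hn')

theorem adm_of {τ : Tw S R} {K : Subgroup Γ} (hG : τ.Adm τ.G1) (hθ : S.Cov θ) (hK : K ≤ τ.G1) {n : Γ} {w : W D} (hn : S.Act n w) (hn' : n ∈ K)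
    (hU : ∀ i, S.Um (w0J (R.orb i)) ⊓ τ.Fix ≤ K) (hV : ∀ i r, r ∈ (inv (w0J (R.orb i)) : Set (Φ D)) → w⁻¹ • ng r ∈ (inv (w0J (R.orb i)) : Set (Φ D))) :
    τ.G1 ≤ K := by
  have le := hK.trans τ.G1_le_fix
  refine Tw.Adm.G1_le ⟨le, hU, fun i => ?_⟩ hθ
  obtain ⟨v, h1, h2, h3⟩ := hG.neV i
  refine ⟨v, gen_fix_le le hn hn' (fun r hr => ?_) (hU i) ⟨h2, τ.G1_le_fix h1⟩, h2, h3⟩
  simpa using hV i (ng r) (mem_inv_w0J.2 ⟨isPos_ng.2 hr.1, fun j hj => by simpa using hr.2 j hj⟩)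

/-- `v` maps the inversions of `w0J O` to those of `w0J O'`, from a check on tables -/
theorem inv_of_chk {O O' : List (I D)} (h : Orth O) (h' : Orth O') {l : List (I D)} {k : ℕ} {f : Φ D → Φ D} {f' : ℕ → ℕ}
    (hf : ∀ r, (f r : ℕ) = f' r) (e : ∀ j ∈ O.map Fin.val, (runW (tab D) (l.map Fin.val))^[k] (f' ((tab D).sim j)) ∈ (O'.map Fin.val).map (tab D).sim)
    (r : Φ D) (hr : r ∈ (inv (w0J {j | j ∈ O}) : Set (Φ D))) : (wp l ^ k)⁻¹ • f r ∈ (inv (w0J {j | j ∈ O'}) : Set (Φ D)) := by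
  obtain ⟨j, hj, rfl⟩ := List.mem_map.1 (h.inv_w0J.2 hr)
  obtain ⟨_, h1, h2⟩ := List.mem_map.1 (e j (List.mem_map_of_mem hj))
  obtain ⟨j', h3, rfl⟩ := List.mem_map.1 h1
  refine h'.inv_w0J.1 (List.mem_map.2 ⟨j', h3, Fin.ext ?_⟩)
  rw [← run_iter, hf]; exact h2

/-- `x` is the element of the class of `O` with coordinate `v` at `i` -/
def Rr (τ : TwF S R) (O : List (I D)) (i : I D) (v : F) (x : Γ) : Prop :=
  ∃ c, τ.Cp O c ∧ c i = v ∧ x = (O.map fun j => S.x (sim j) (c j)).prod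

variable {τ : TwF S R} {O : List (I D)} {i : I D}
theorem Rr.add (hO : OrbL R O) (v : F) (x : Γ) (v' : F) (x' : Γ) (h : Rr τ O i v x) (h' : Rr τ O i v' x') : Rr τ O i (v + v') (x * x') := by
  obtain ⟨c, h1, rfl, rfl⟩ := h
  obtain ⟨c', h2, rfl, rfl⟩ := h'
  refine ⟨c + c', fun j hj => by simp [h1 j hj, h2 j hj], rfl, ?_⟩
  rw [← hO.orth.prod_mul S (fun _ => S.x_mem_A1 _ _) fun _ => S.x_mem_A1 _ _]; simp [S.add]
theorem Rr.neg (hO : OrbL R O) (v : F) (x : Γ) (h : Rr τ O i v x) : Rr τ O i (-v) x⁻¹ := by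
  obtain ⟨c, h1, rfl, rfl⟩ := h
  refine ⟨-c, fun j hj => by simp [h1 j hj], rfl, ?_⟩
  rw [← hO.orth.prod_inv S fun _ => S.x_mem_A1 _ _]; simp [S.x_neg]
theorem Rr.zero : Rr τ O i 0 1 := ⟨0, fun j _ => by simp, rfl, by simp⟩
theorem Rr.one : ∃ x, Rr τ O i 1 x := ⟨_, fun _ => 1, fun j _ => by simp, rfl, rfl⟩
theorem Rr.mem (hθ : S.Cov θ) (hO : OrbL R O) {v : F} {x : Γ} (h : Rr τ O i v x) : x ∈ S.Um (w0J {j | j ∈ O}) ⊓ τ.Fix := by
  obtain ⟨c, h1, -, e⟩ := h; exact (TwF.mem_Um_fix hθ hO.orth hO.inv).2 ⟨c, h1, e⟩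
theorem Rr.mem_G1 (hO : OrbL R O) {v : F} {x : Γ} (h : Rr τ O i v x) : x ∈ τ.G1 := by
  obtain ⟨c, h1, -, rfl⟩ := h; exact mem_sup_left ⟨TwF.xU_mem _, TwF.xU_fix hO.orth hO.inv h1⟩
theorem Rr.uniq (hO : OrbL R O) (hi : i ∈ O) {v : F} {x x' : Γ} (h : Rr τ O i v x) (h' : Rr τ O i v x') : x = x' := by
  obtain ⟨c, h1, rfl, rfl⟩ := h
  obtain ⟨c', h2, e, rfl⟩ := h'
  have key : ∀ k : ℕ, c ((R.π ^ k) i) = c' ((R.π ^ k) i) := fun k => by
    induction k with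
    | zero => exact e.symm
    | succ k ih =>
      have := (hO.inv.pow k i).2 hi
      rw [pow_succ', Equiv.Perm.mul_apply, h1 _ this, h2 _ this, ih]
  congr 1
  refine List.map_congr_left fun j hj => ?_
  obtain ⟨k, -, rfl⟩ := Equiv.Perm.SameCycle.exists_pow_eq' (show j ∈ R.orb i from hO.orb i hi ▸ hj)
  rw [key]
theorem Rr.conj (hθ : S.Cov θ) (hO : OrbL R O) (hi : i ∈ O) {k : Γ} (hk : k ∈ S.H) (hk' : k ∈ τ.Fix) {a : F} (ha : Sc S k (sim i) a)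
    (v : F) (x : Γ) (h : Rr τ O i v x) : Rr τ O i (a * v) (k * x * k⁻¹) := by
  obtain ⟨c', h2, e⟩ := (TwF.mem_Um_fix hθ hO.orth hO.inv).1 (show k * x * k⁻¹ ∈ S.Um (w0J {j | j ∈ O}) ⊓ τ.Fix from
    mem_inf.2 ⟨conj_mem_of_normalizer (H_le_normalizer _ hk) (h.mem hθ hO).1, mul_mem (mul_mem hk' (h.mem hθ hO).2) (inv_mem hk')⟩)
  refine ⟨c', h2, ?_, e⟩
  obtain ⟨c, h1, rfl, rfl⟩ := h
  obtain ⟨χ, hχ, -⟩ := exists_char_of_mem_H hk
  have e2 : ∀ L : List (I D), k * (L.map fun j => S.x (sim j) (c j)).prod * k⁻¹ =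
      (L.map fun j => S.x (sim j) ((if j = i then a else χ (rc (sim j))) * c j)).prod := fun L => by
    induction L with
    | nil => simp
    | cons j L ih =>
      rw [List.map_cons, List.map_cons, List.prod_cons, List.prod_cons, ← ih]
      have : S.x (sim j) ((if j = i then a else χ (rc (sim j))) * c j) = k * S.x (sim j) (c j) * k⁻¹ := by
        split_ifs with h
        exacts [h ▸ (ha _).symm, (hχ _ _).symm]
      rw [this]; group
  simpa using TwF.xU_inj hθ hO.orth.1 sim sim_injective (l := fl) (fun j => isPos_iff_fl.1 (isPos_sim j)) (e.symm.trans (e2 O)) i hi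
theorem Rr.pow_card [Finite F] (hO : OrbL R O) (hi : i ∈ O) {v : F} {x : Γ} (h : Rr τ O i v x) : x ^ Nat.card F = 1 := by
  have key : ∀ k : ℕ, Rr τ O i (k * v) (x ^ k) := fun k => by
    induction k with
    | zero => simpa using Rr.zero
    | succ k ih => simpa [pow_succ, add_mul] using Rr.add hO _ _ _ _ ih h
  have := Fintype.ofFinite F
  have e := key (Nat.card F)
  rw [Nat.card_eq_fintype_card, Nat.cast_card_eq_zero, zero_mul, ← Nat.card_eq_fintype_card] at e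
  exact e.uniq hO hi Rr.zero
theorem Rr.U_le (hθ : S.Cov θ) (hO : OrbL R O) (hi : i ∈ O) {K : Subgroup Γ} (h : ∀ c, τ.Cp O c → ∃ x ∈ K, Rr τ O i (c i) x) :
    S.Um (w0J {j | j ∈ O}) ⊓ τ.Fix ≤ K := fun u hu => by
  obtain ⟨c, h1, e⟩ := (TwF.mem_Um_fix hθ hO.orth hO.inv).1 hu
  obtain ⟨x, h2, h3⟩ := h c h1
  exact h3.uniq hO hi ⟨c, h1, rfl, e⟩ ▸ h2

/-- the common part: `x h` splits and the trick fills the second class -/
theorem core [Finite F] (hθ : S.Cov θ) (h3 : S.R3) (hO : OrbL R O) (hi : i ∈ O) {Q : F → Γ → Prop} {s : Φ D}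
    (h0 : Q 0 1) (hadd : ∀ v x v' x', Q v x → Q v' x' → Q (v + v') (x * x')) (hneg : ∀ v x, Q v x → Q (-v) x⁻¹)
    (hc : ∀ k ∈ S.H, k ∈ τ.Fix → ∀ a, Sc S k s a → ∀ v x, Q v x → Q (a * v) (k * x * k⁻¹))
    {n h x y : Γ} {w : W D} (hn : S.Act n w) (hn' : n ∈ τ.Fix) (hh : h ∈ S.H) (hh' : h ∈ τ.Fix) (s1 : Sc S h (sim i) 1) {α β : F}
    (s2 : Sc S h s α) (s3 : Sc S h (w⁻¹ • s) β) (hα : H11.Gen α) (hα' : α ≠ 1) (hβ : β ≠ 1) (hx : Rr τ O i 1 x) (hy : Q 1 y)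
    {K : Subgroup Γ} (ha : x * h ∈ K) (hb : y * n ∈ K) : x ∈ K ∧ h ∈ K ∧ ∀ v, ∃ z ∈ K, Q v z := by
  have e := (Rr.conj hθ hO hi hh hh' s1 _ _ hx).uniq hO hi (by simpa using hx)
  obtain ⟨k1, k2⟩ := split (show Commute x h from (mul_inv_eq_iff_eq_mul.1 e).symm) (hx.pow_card hO hi) (H_pow_card h3 hh) ha
  have k3 := trickR hadd hneg (hc h hh hh' α s2) (hc _ (hn.conj_mem_H hh) (mul_mem (mul_mem hn' hh') (inv_mem hn')) β (s3.conj hn))
    (h3.comm hh (hn.conj_mem_H hh)) hy k2 (by simpa [mul_assoc] using mul_mem (mul_mem hb k2) (inv_mem hb))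
  refine ⟨k1, k2, all_of_gen (P := fun v => ∃ z ∈ K, Q v z) hα ⟨1, one_mem _, h0⟩ ?_ ?_ (fun e => mul_ne_zero (sub_ne_zero.2 hα')
    (sub_ne_zero.2 hβ) (by linear_combination -e)) k3⟩
  · rintro u v ⟨z, h1, h2⟩ ⟨z', h3, h4⟩; exact ⟨_, mul_mem h1 h3, hadd _ _ _ _ h2 h4⟩
  · rintro u ⟨z, h1, h2⟩; exact ⟨_, mul_mem (mul_mem k2 h1) (inv_mem k2), hc h hh hh' α s2 _ _ h2⟩

theorem sc_prod (L : List (I D)) (c : I D → Fˣ) (r : Φ D) :
    Sc S (L.map fun j => S.h (sim j) (c j)).prod r ((L.map fun j => c j ^ (tab D).ca j r).prod : Fˣ) := by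
  induction L with
  | nil => intro u; simp
  | cons j L ih =>
    rw [List.map_cons, List.map_cons, List.prod_cons, List.prod_cons, Units.val_mul]
    exact Sc.mul (pr_sim j r ▸ sc_h (S := S) (sim j) r (c j) :) ih
theorem prod_mem_H (L : List (I D)) (c : I D → Fˣ) : (L.map fun j => S.h (sim j) (c j)).prod ∈ S.H :=
  list_prod_mem (by simpa using fun j _ => S.h_mem_H _ _)
/-- the action of the `k`-th conjugate -/
theorem sc_conj_pow {n : Γ} {l : List (I D)} (hn : S.Act n (wp l)) (L : List (I D)) (c : I D → Fˣ) (k : ℕ) (r : Φ D) :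
    Sc S (n ^ k * (L.map fun j => S.h (sim j) (c j)).prod * (n ^ k)⁻¹) r
      ((L.map fun j => c j ^ (tab D).ca j ((runW (tab D) (l.map Fin.val))^[k] r)).prod : Fˣ) := by
  rw [run_iter]; exact (sc_prod L c _).conj (act_pow hn k)
theorem sc_val {n : Γ} {l : List (I D)} (hn : S.Act n (wp l)) (L : List (I D)) (c : I D → Fˣ) (k m : ℕ) (r : Φ D) {E : List ℤ}
    (h : (L.map Fin.val).map (fun j => (tab D).ca j ((runW (tab D) (l.map Fin.val))^[k + m] r)) = E) :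
    Sc S (n ^ k * (L.map fun j => S.h (sim j) (c j)).prod * (n ^ k)⁻¹) ((wp l ^ m)⁻¹ • r) (((L.zip E).map fun p => c p.1 ^ p.2).prod : Fˣ) := by
  have := sc_conj_pow hn L c k ((wp l ^ m)⁻¹ • r)
  rw [← run_iter, ← Function.iterate_add_apply] at this
  convert this using 3
  subst h
  rw [List.map_map, List.zip_map_right, List.zip_eq_zipWith, List.map_map, List.map_zipWith, List.zipWith_self]; rfl
theorem sc_val' {n : Γ} {l : List (I D)} (hn : S.Act n (wp l)) (L : List (I D)) (c : I D → Fˣ) (k : ℕ) (r : Φ D) {E : List ℤ}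
    (h : (L.map Fin.val).map (fun j => (tab D).ca j ((runW (tab D) (l.map Fin.val))^[k] r)) = E) :
    Sc S (n ^ k * (L.map fun j => S.h (sim j) (c j)).prod * (n ^ k)⁻¹) r (((L.zip E).map fun p => c p.1 ^ p.2).prod : Fˣ) := by
  simpa only [pow_zero, inv_one, one_smul] using sc_val hn L c k 0 r h
theorem conj_pow_mem {τ : Tw S R} {n h : Γ} {w : W D} (hn : S.Act n w) (hn' : n ∈ τ.G1) (hh : h ∈ S.H) (hh' : h ∈ τ.G1) (k : ℕ) :
    n ^ k * h * (n ^ k)⁻¹ ∈ S.H ∧ n ^ k * h * (n ^ k)⁻¹ ∈ τ.G1 := ⟨(act_pow hn k).conj_mem_H hh, pow_conj_mem hn' hh' k⟩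
/-- a class consisting of one fixed root -/
theorem U_le_fix [Finite F] (hθ : S.Cov θ) (hO : OrbL R [i]) {K : Subgroup Γ} {x k : Γ} (hx : Rr τ [i] i 1 x) (hx' : x ∈ K) (hk : k ∈ S.H)
    (hk' : k ∈ τ.Fix) (hk'' : k ∈ K) {a : F} (ha : Sc S k (sim i) a) (h : ∀ v, v ≠ 0 → τ.ψ (sim i) v = v → ∃ m : ℕ, v = a ^ m) :
    S.Um (w0J {j | j ∈ [i]}) ⊓ τ.Fix ≤ K := by
  refine Rr.U_le hθ hO (List.mem_singleton_self i) fun c hc => ?_
  by_cases h0 : c i = 0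
  · exact ⟨1, one_mem _, h0 ▸ Rr.zero⟩
  have e : R.π i = i := by simpa using (hO.inv i).2 (List.mem_singleton_self i)
  obtain ⟨m, hm⟩ := h _ h0 (by simpa [e] using (hc i (List.mem_singleton_self i)).symm)
  rw [hm]
  refine pow_ind (P := fun v => ∃ x ∈ K, Rr τ [i] i v x) ⟨x, hx', hx⟩ ?_ m
  rintro u ⟨z, h1, h2⟩
  exact ⟨_, mul_mem (mul_mem hk'' h1) (inv_mem hk''), Rr.conj hθ hO (List.mem_singleton_self i) hk hk' ha _ _ h2⟩

end H23.G2
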