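import Mathlib.NumberTheory.Bertrand

/-! Two primes `p + 3 ≤ q` in the interval `(m / 2, m]` for `m ≥ 17`: `exists_two_primes`. -/

set_option autoImplicit false

namespace H23

open Nat

theorem small_part_le (n : ℕ) (hn : 0 < n) :
    ∏ x ∈ Finset.range (2 * n / 3 + 1), x ^ n.centralBinom.factorization x ≤
      (2 * n) ^ sqrt (2 * n) * 4 ^ (2 * n / 3) := by
  have n2_pos : 1 ≤ 2 * n := by omega
  let S := {p ∈ Finset.range (2 * n / 3 + 1) | Nat.Prime p}
  let f x := x ^ n.centralBinom.factorization x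
  have : ∏ x ∈ S, f x = ∏ x ∈ Finset.range (2 * n / 3 + 1), f x := by
    refine Finset.prod_filter_of_ne fun p _ h => ?_
    contrapose h; dsimp only [f]
    rw [factorization_eq_zero_of_not_prime n.centralBinom h, _root_.pow_zero]
  rw [← this, ← Finset.prod_filter_mul_prod_filter_not S (· ≤ sqrt (2 * n))]
  apply mul_le_mul'
  · refine (Finset.prod_le_prod' fun p _ => (?_ : f p ≤ 2 * n)).trans ?_
    · exact pow_factorization_choose_le n2_pos
    have : (Finset.Icc 1 (sqrt (2 * n))).card = sqrt (2 * n) := by rw [card_Icc, Nat.add_sub_cancel]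
    rw [Finset.prod_const]
    refine pow_right_mono₀ n2_pos ((Finset.card_le_card fun x hx => ?_).trans this.le)
    obtain ⟨h1, h2⟩ := Finset.mem_filter.1 hx
    exact Finset.mem_Icc.mpr ⟨(Finset.mem_filter.1 h1).2.one_lt.le, h2⟩
  · refine le_trans ?_ (primorial_le_four_pow (2 * n / 3))
    refine (Finset.prod_le_prod' fun p hp => (?_ : f p ≤ p)).trans ?_
    · obtain ⟨h1, h2⟩ := Finset.mem_filter.1 hp
      refine (pow_right_mono₀ (Finset.mem_filter.1 h1).2.one_lt.le ?_).trans (pow_one p).le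
      exact Nat.factorization_choose_le_one (sqrt_lt'.mp <| not_le.1 h2)
    refine Finset.prod_le_prod_of_subset_of_one_le' (Finset.filter_subset _ _) ?_
    exact fun p hp _ => (Finset.mem_filter.1 hp).2.one_lt.le

theorem centralBinom_le_of_window (n a : ℕ) (hn : 2 < n)
    (h : ∀ p : ℕ, p.Prime → n < p → p ≤ 2 * n → a ≤ p ∧ p ≤ a + 2) :
    centralBinom n ≤ (2 * n) ^ 3 * ((2 * n) ^ sqrt (2 * n) * 4 ^ (2 * n / 3)) := by
  let f x := x ^ n.centralBinom.factorization x
  have h1 : ∀ x, 1 ≤ f x := fun x => by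
    rcases x with _ | x
    · simp [f]
    · exact Nat.one_le_pow _ _ (by omega)
  have h2 : ∏ x ∈ Finset.range (2 * n + 1) ∩ (Finset.Icc a (a + 2) ∪ Finset.range (2 * n / 3 + 1)), f x =
      ∏ x ∈ Finset.range (2 * n + 1), f x := by
    refine Finset.prod_subset Finset.inter_subset_left fun x hx h2x => ?_
    simp only [Finset.mem_inter, Finset.mem_union, Finset.mem_range, Finset.mem_Icc] at hx h2x
    by_cases hp : x.Prime
    · have := h x hp
      dsimp only [f]
      rw [factorization_centralBinom_of_two_mul_self_lt_three_mul hn (by omega) (by omega), Nat.pow_zero]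
    · dsimp only [f]
      rw [factorization_eq_zero_of_not_prime n.centralBinom hp, Nat.pow_zero]
  rw [← n.prod_pow_factorization_centralBinom, ← h2]
  refine (Finset.prod_le_prod_of_subset_of_one_le' Finset.inter_subset_right fun x _ _ => h1 x).trans ?_
  refine le_trans (Nat.le_mul_of_pos_right _ (Finset.one_le_prod' fun x _ => h1 x))
    (Finset.prod_union_inter.le.trans (mul_le_mul' ?_ ?_))
  · refine (Finset.prod_le_pow_card _ _ (2 * n) fun p _ => pow_factorization_choose_le (by omega)).trans ?_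
    rw [Nat.card_Icc, show a + 2 + 1 - a = 3 by omega]
  · exact small_part_le n (by omega)

theorem pow_seven_le (s : ℕ) (h : 37 ≤ s) : (s + 1) ^ 7 ≤ 2 ^ s := by
  induction s, h using Nat.le_induction with
  | base => norm_num
  | succ s h ih =>
    have h1 : (10 * (s + 1 + 1)) ^ 7 ≤ (11 * (s + 1)) ^ 7 := Nat.pow_le_pow_left (by omega) 7
    rw [mul_pow, mul_pow] at h1
    rw [pow_succ 2]
    omega

theorem exists_two_primes_large (n : ℕ) (hn : 685 ≤ n) :
    ∃ p q : ℕ, p.Prime ∧ q.Prime ∧ n < p ∧ p + 3 ≤ q ∧ q ≤ 2 * n := by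
  by_contra hc
  push Not at hc
  have he := Nat.exists_infinite_primes (n + 1)
  have h1 := centralBinom_le_of_window n (Nat.find he) (by omega) fun p hp h1 h2 =>
    ⟨Nat.find_min' he ⟨h1, hp⟩, by
      have := hc _ p (Nat.find_spec he).2 hp (Nat.find_spec he).1
      omega⟩
  have h2 := Nat.four_pow_lt_mul_centralBinom n (by omega)
  have h3 := Nat.sqrt_le' (2 * n)
  have h4 := Nat.lt_succ_sqrt' (2 * n)
  have h5 : 37 ≤ sqrt (2 * n) := Nat.le_sqrt'.2 (by omega)
  generalize sqrt (2 * n) = s at *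
  have h6 : n * ((2 * n) ^ 3 * (2 * n) ^ s) ≤ (s + 1) ^ (2 * (s + 4)) := by
    rw [pow_mul, ← pow_add]
    calc _ ≤ (2 * n) * (2 * n) ^ (3 + s) := Nat.mul_le_mul_right _ (by omega)
      _ = (2 * n) ^ (s + 4) := by ring
      _ ≤ _ := Nat.pow_le_pow_left h4.le _
  have h7 : (s + 1) ^ (2 * (s + 4)) ≤ 4 ^ (n - 2 * n / 3) := by
    refine (Nat.pow_le_pow_iff_left (n := 3) (by omega)).1 ?_
    calc _ = (s + 1) ^ (2 * (s + 4) * 3) := (pow_mul _ _ _).symm
      _ ≤ (s + 1) ^ (7 * s) := Nat.pow_le_pow_right (by omega) (by omega)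
      _ ≤ (2 ^ s) ^ s := by rw [pow_mul]; exact Nat.pow_le_pow_left (pow_seven_le s h5) _
      _ ≤ 2 ^ (2 * (n - 2 * n / 3) * 3) := by
        rw [← pow_mul, ← sq]; exact Nat.pow_le_pow_right (by omega) (by omega)
      _ = _ := by rw [pow_mul, pow_mul]; rfl
  refine h2.not_ge ((Nat.mul_le_mul_left _ h1).trans ?_)
  rw [← mul_assoc ((2 * n) ^ 3), ← mul_assoc]
  refine (Nat.mul_le_mul_right _ (h6.trans h7)).trans ?_
  rw [← pow_add, Nat.sub_add_cancel (by omega)]

theorem exists_two_primes (m : ℕ) (hm : 17 ≤ m) :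
    ∃ p q : ℕ, p.Prime ∧ q.Prime ∧ m < 2 * p ∧ p + 3 ≤ q ∧ q ≤ m := by
  by_cases h : m ≤ 25; · exact ⟨13, 17, by norm_num, by norm_num, by omega, by omega, by omega⟩
  by_cases h : m ≤ 37; · exact ⟨19, 23, by norm_num, by norm_num, by omega, by omega, by omega⟩
  by_cases h : m ≤ 61; · exact ⟨31, 37, by norm_num, by norm_num, by omega, by omega, by omega⟩
  by_cases h : m ≤ 105; · exact ⟨53, 59, by norm_num, by norm_num, by omega, by omega, by omega⟩
  by_cases h : m ≤ 193; · exact ⟨97, 101, by norm_num, by norm_num, by omega, by omega, by omega⟩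
  by_cases h : m ≤ 361; · exact ⟨181, 191, by norm_num, by norm_num, by omega, by omega, by omega⟩
  by_cases h : m ≤ 705; · exact ⟨353, 359, by norm_num, by norm_num, by omega, by omega, by omega⟩
  by_cases h : m ≤ 1381; · exact ⟨691, 701, by norm_num, by norm_num, by omega, by omega, by omega⟩
  obtain ⟨p, q, h1, h2, h3, h4, h5⟩ := exists_two_primes_large (m / 2) (by omega)
  exact ⟨p, q, h1, h2, by omega, h4, by omega⟩

end H23
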