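import Cfsg.Agent.H2.FTCop
import Cfsg.Agent.H2.AutAlt
import Cfsg.Agent.H21.Alt
import Cfsg.Agent.H29.SylN
import Cfsg.Agent.H29.Sym
import Cfsg.Agent.H23.Primes

/-! Element orders `p * q` in symmetric and alternating groups: `le_of_orderOf`, `exists_order_odd`,
`exists_order_two`, `aut_pow_four` (`Out(Aₙ)` has exponent dividing four), `exists_order_of_norm`,
`dvd_of_normal`, `exists_simple_factor`. -/

set_option autoImplicit false
set_option linter.unusedSectionVars false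

namespace H23

open Subgroup Equiv Equiv.Perm H18

variable {Ω : Type*} [Fintype Ω] [DecidableEq Ω] {p q : ℕ}

theorem le_of_orderOf (hp : p.Prime) (hq : q.Prime) (h : p ≠ q) {g : Perm Ω} (hg : p * q ∣ orderOf g) :
    p + q ≤ Fintype.card Ω := by
  have h1 : ∀ {r : ℕ}, r.Prime → r ∣ orderOf g → ∃ a ∈ g.cycleType, r ∣ a := fun hr hd =>
    hr.prime.exists_mem_multiset_dvd (hd.trans (g.lcm_cycleType ▸ Multiset.lcm_dvd.2 fun _ => Multiset.dvd_prod))
  obtain ⟨a, a1, a2⟩ := h1 hp ((dvd_mul_right p q).trans hg)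
  obtain ⟨b, b1, b2⟩ := h1 hq ((dvd_mul_left q p).trans hg)
  have h2 := g.sum_cycleType_le
  have h3 := two_le_of_mem_cycleType a1
  have h4 := two_le_of_mem_cycleType b1
  by_cases e : b = a
  · subst e
    have := Nat.le_of_dvd (by omega) (((Nat.coprime_primes hp hq).2 h).mul_dvd_of_dvd_of_dvd a2 b2)
    have := Multiset.le_sum_of_mem a1
    nlinarith [hp.two_le, hq.two_le]
  · have := Multiset.le_sum_of_mem ((Multiset.mem_erase_of_ne e).2 b1)
    rw [← Multiset.cons_erase a1, Multiset.sum_cons] at h2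
    have := Nat.le_of_dvd (by omega) a2
    have := Nat.le_of_dvd (by omega) b2
    omega

theorem exists_order_odd (hp : p.Prime) (hq : q.Prime) (h : p ≠ q) (h1 : p ≠ 2) (h2 : q ≠ 2)
    (hn : p + q ≤ Fintype.card Ω) : ∃ g : alternatingGroup Ω, orderOf g = p * q := by
  obtain ⟨g, hg⟩ := (exists_with_cycleType_iff Ω (m := {p, q})).2 ⟨by simpa using hn, by simp [hp.two_le, hq.two_le]⟩
  refine ⟨⟨g, mem_alternatingGroup.2 ?_⟩, ?_⟩
  · rw [sign_of_cycleType, hg]
    exact Even.neg_one_pow (by simpa [Nat.even_add] using (hp.odd_of_ne_two h1).add_odd (hq.odd_of_ne_two h2))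
  · rw [orderOf_mk, ← lcm_cycleType, hg]
    simpa [lcm_eq_nat_lcm] using ((Nat.coprime_primes hp hq).2 h).lcm_eq_mul

theorem exists_order_two (hq : q.Prime) (h2 : q ≠ 2) (hn : q + 4 ≤ Fintype.card Ω) :
    ∃ g : alternatingGroup Ω, orderOf g = 2 * q := by
  obtain ⟨g, hg⟩ := (exists_with_cycleType_iff Ω (m := {2, 2, q})).2 ⟨by simp; omega, by simp [hq.two_le]⟩
  refine ⟨⟨g, mem_alternatingGroup.2 ?_⟩, ?_⟩
  · rw [sign_of_cycleType, hg]
    obtain ⟨k, rfl⟩ := hq.odd_of_ne_two h2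
    exact Even.neg_one_pow ⟨k + 4, by simp; omega⟩
  · rw [orderOf_mk, ← lcm_cycleType, hg]
    have := ((Nat.coprime_primes Nat.prime_two hq).2 h2.symm).lcm_eq_mul
    simp [lcm_eq_nat_lcm, ← Nat.lcm_assoc, this]

theorem isConj_alt {g h : alternatingGroup Ω} (e : IsConj (g : Perm Ω) h)
    (hc : ¬ centralizer {(g : Perm Ω)} ≤ alternatingGroup Ω) : IsConj g h := by
  obtain ⟨σ, e⟩ := isConj_iff.1 e
  obtain ⟨c, h1, h2⟩ := SetLike.not_le_iff_exists.1 hc
  by_cases hs : σ ∈ alternatingGroup Ω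
  · exact isConj_iff.2 ⟨⟨σ, hs⟩, Subtype.ext e⟩
  · refine isConj_iff.2 ⟨⟨σ * c, ?_⟩, Subtype.ext ?_⟩
    · rw [mem_alternatingGroup] at *
      rw [map_mul, (Int.units_eq_one_or _).resolve_left hs, (Int.units_eq_one_or _).resolve_left h2]; simp
    · simp [← e, mul_assoc, ← mul_assoc c, mem_centralizer_singleton_iff.1 h1]

theorem aut_sq_three (φ : MulAut (alternatingGroup Ω)) (g : alternatingGroup Ω) (hg : (g : Perm Ω).IsThreeCycle) :
    ((φ ^ 2) g : Perm Ω).IsThreeCycle := by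
  rw [sq, MulAut.mul_apply]
  by_cases h6 : Fintype.card Ω = 6
  swap; exact H2.isThreeCycle_aut h6 _ _ (H2.isThreeCycle_aut h6 _ _ hg)
  have h1 : ∀ {a b : alternatingGroup Ω}, IsConj a b → (a : Perm Ω).cycleType = (b : Perm Ω).cycleType := fun h =>
    isConj_iff_cycleType_eq.1 ((alternatingGroup Ω).subtype.map_isConj h)
  have h2 : ∀ {a : alternatingGroup Ω}, orderOf (a : Perm Ω) = 3 → orderOf (φ a : Perm Ω) = 3 := fun h => by
    rwa [orderOf_coe, φ.orderOf_eq, ← orderOf_coe]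
  rcases H29.cycleType_three_six h6 (h2 hg.orderOf) with h | h
  · exact (h1 (φ.toMonoidHom.map_isConj (alternatingGroup.isThreeCycle_isConj (by simp [h6]) hg h))).symm.trans h
  refine (H29.cycleType_three_six h6 (h2 (h2 hg.orderOf))).resolve_right fun h' => ?_
  have := h1 (φ.symm.toMonoidHom.map_isConj (isConj_alt (isConj_iff_cycleType_eq.2 (h.trans h'.symm)) (by
    rw [centralizer_le_alternating_iff, h]
    exact fun e => absurd (e.2.2 3) (by decide))))
  simp only [MulEquiv.toMonoidHom_eq_coe, MonoidHom.coe_coe, MulEquiv.symm_apply_apply] at this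
  rw [hg, h] at this
  exact absurd this (by decide)

theorem aut_pow_four (h4 : 4 ≤ Fintype.card Ω) (φ : MulAut (alternatingGroup Ω)) :
    φ ^ 4 ∈ (MulAut.conj : alternatingGroup Ω →* _).range := by
  obtain ⟨σ, h⟩ := H2.exists_conj_of_threeCycle h4 _ (aut_sq_three φ)
  refine ⟨⟨σ ^ 2, by rw [mem_alternatingGroup, map_pow, Int.units_sq]⟩, ?_⟩
  rw [show φ ^ 4 = (φ ^ 2) ^ 2 by group, ← h]
  exact map_pow MulAut.conjNormal σ 2

variable {G : Type*} [Group G] [Finite G]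

theorem exists_order_of_norm (hp : p.Prime) (hq : q.Prime) (h : p ≠ q) (h1 : ¬ p ∣ q - 1) {Q : Subgroup G}
    (hQ : Nat.card Q = q) (hd : p ∣ Nat.card N(Q)) : ∃ g : G, orderOf g = p * q := by
  obtain ⟨x, h2, h3⟩ := cauchy hp hd
  obtain ⟨y, h4, h5⟩ := cauchy hq hQ.symm.dvd
  have := H29.mem_cent_of_coprime Q (hQ ▸ hq) h2 (by rw [h3, hQ]; exact hp.coprime_iff_not_dvd.2 h1) y h4
  exact ⟨x * y, by rw [(show Commute x y from this.symm).orderOf_mul_eq_mul_orderOf_of_coprime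
    (by rw [h3, h5]; exact (Nat.coprime_primes hp hq).2 h), h3, h5]⟩

theorem card_sylow_eq (hq : q.Prime) {Q K : Subgroup G} (h : Hall {q} Q K) (h1 : q ∣ Nat.card K)
    (h2 : ¬ q ^ 2 ∣ Nat.card G) : Nat.card Q = q := by
  obtain ⟨k, hk⟩ := h.pi.card_eq_pow
  have h3 := h.dvd_card_p hq h1
  rcases k with _ | _ | k
  · exact absurd (Nat.dvd_one.1 (h3.trans hk.dvd)) hq.ne_one
  · rw [hk, pow_one]
  · exact absurd ((pow_dvd_pow q (by omega)).trans (hk ▸ card_subgroup_dvd_card Q)) h2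

theorem dvd_of_normal (hp : p.Prime) (hq : q.Prime) (h : p ≠ q) (h1 : ¬ p ∣ q - 1) (h2 : ¬ q ^ 2 ∣ Nat.card G)
    (h3 : ∀ g : G, orderOf g ≠ p * q) (h4 : p ∣ Nat.card G) {K : Subgroup G} [K.Normal] (h5 : q ∣ Nat.card K) :
    p ∣ Nat.card K := by
  obtain ⟨Q, hQ⟩ := exists_sylow hq K
  have h6 := (nml_top (K := K)).nrm2 (le_top : ⊤ ⊓ N(Q) ≤ ⊤) |>.card_sup_dvd
  rw [frattini_arg hq nml_top hQ, card_top, top_inf_eq] at h6
  refine (hp.dvd_mul.1 (h4.trans h6)).resolve_right fun e => ?_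
  obtain ⟨g, hg⟩ := exists_order_of_norm hp hq h h1 (card_sylow_eq hq hQ h5 h2) e
  exact h3 g hg

theorem exists_simple_factor (hp : p.Prime) (h1 : p ∣ Nat.card G) (h2 : ¬ p ^ 2 ∣ Nat.card G) :
    ∃ (N H : Subgroup G) (_ : N.Normal), H.Normal ∧ N < H ∧ ¬ p ∣ Nat.card N ∧ p ∣ Nat.card H ∧
      IsSimpleGroup (H ⧸ N.subgroupOf H) := by
  set N := O[{p}ᶜ]((⊤ : Subgroup G))
  have hN : N ⊴ ⊤ := pcore_nml
  have h3 : ¬ p ∣ Nat.card N := (piNat_compl_iff hp).1 pcore_pi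
  have h4 : ∀ {L}, L ⊴ ⊤ → ¬ p ∣ Nat.card L → L ≤ N := fun a b => le_pcore a ((piNat_compl_iff hp).2 b)
  obtain ⟨H, -, ⟨h5, h6⟩, h7⟩ := exists_minimal_sub (fun L => L ⊴ ⊤ ∧ N < L) (A := ⊤)
    ⟨Nml.rfl, lt_top_iff_ne_top.2 fun e => h3 (by rwa [e, card_top])⟩
  haveI := hN.normal
  have h8 : p ∣ Nat.card H := by_contra fun e => h6.not_ge (h4 h5 e)
  refine ⟨N, H, inferInstance, h5.normal, h6, h3, h8, ?_⟩
  haveI : Nontrivial (H ⧸ N.subgroupOf H) := QuotientGroup.nontrivial_iff.2 fun e => h6.not_ge (subgroupOf_eq_top.1 e)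
  refine ⟨fun X hX => ?_⟩
  have a1 : (X.comap (QuotientGroup.mk' _)).map H.subtype ⊴ H := nml_map_subtype
  have a2 : ∀ {x : H}, x.1 ∈ (X.comap (QuotientGroup.mk' _)).map H.subtype ↔ (x : H ⧸ N.subgroupOf H) ∈ X :=
    mem_map_iff_mem H.subtype_injective
  have a3 : N ≤ (X.comap (QuotientGroup.mk' _)).map H.subtype := fun x hx => (a2 (x := ⟨x, h6.le hx⟩)).2 (by
    rw [(QuotientGroup.eq_one_iff _).2 (mem_subgroupOf.2 hx)]; exact one_mem _)
  generalize (X.comap (QuotientGroup.mk' _)).map H.subtype = L at *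
  by_cases e : p ∣ Nat.card L
  · obtain ⟨P, hP⟩ := exists_sylow hp H
    have a4 : P ≤ L.normalCore := fun x hx g => by
      have b1 : cj g⁻¹ L ⊴ H := cj_eq_self (h5.norm (mem_top g⁻¹)) ▸ a1.cj g⁻¹
      simpa [mem_cj] using hP.pi.le_of_nml hP.le b1 ((piNat_compl_iff hp).2 fun d => h2 (by
        rw [sq]
        exact (Nat.mul_dvd_mul (card_cj (g := g⁻¹) ▸ e) d).trans
          (card_mul_relIndex b1.le ▸ card_subgroup_dvd_card H))) hx
    have a5 := h7 L.normalCore ⟨nml_top, lt_of_le_of_ne (normal_le_normalCore.2 a3) fun d => h3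
      ((hP.dvd_card_p hp h8).trans (card_dvd (d ▸ a4)))⟩ (L.normalCore_le.trans a1.le)
    exact Or.inr (eq_top_iff.2 fun x _ => QuotientGroup.induction_on x fun x => a2.1 (L.normalCore_le (a5.ge x.2)))
  · have a4 := (le_pcore a1 ((piNat_compl_iff hp).2 e)).trans (le_pcore h5.pcore pcore_pi)
    exact Or.inl (eq_bot_iff.2 fun x => QuotientGroup.induction_on x fun x hx =>
      mem_bot.2 ((QuotientGroup.eq_one_iff _).2 (mem_subgroupOf.2 (a4 (a2.2 hx)))))

theorem not_solv_of_primes (hp : p.Prime) (hq : q.Prime) (h : p + 1 < q) (h1 : ¬ p ∣ q - 1) (h2 : ¬ q ^ 2 ∣ Nat.card G)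
    (h2' : ¬ p ^ 3 ∣ Nat.card G) (h3 : ∀ g : G, orderOf g ≠ p * q) (h4 : p ∣ Nat.card G) (h5 : q ∣ Nat.card G) :
    ¬ Group.IsSolvable G := fun hs => by
  haveI := Fact.mk hq
  obtain ⟨H, hH⟩ := H2.hall_exists (solv_top_iff.2 hs) {p, q}
  have a1 := hH.dvd_card hp (by simp) (card_top (G := G) ▸ h4)
  have a2 := hH.dvd_card hq (by simp) (card_top (G := G) ▸ h5)
  obtain ⟨Q⟩ : Nonempty (Sylow q H) := inferInstance
  have hQ := hall_map_sylow hq Q
  have a3 : PiNat {p} (Q : Subgroup H).index := fun r hr hd =>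
    (hH.pi r hr (hd.trans (index_dvd_card _))).resolve_right fun e => Q.not_dvd_index (e ▸ hd)
  obtain ⟨k, hk⟩ := (a3.of_dvd Q.card_dvd_index).eq_pow Nat.card_pos.ne'
  have a4 := card_sylow_modEq_one q H
  have a5 : k < 3 := by_contra fun e => h2' ((pow_dvd_pow p (by omega)).trans (hk ▸ H29.card_sylow_dvd.trans
    (card_subgroup_dvd_card H)))
  have a6 := hp.two_le
  have a7 : Nat.card (Sylow q H) = 1 := by
    rw [hk] at a4 ⊢
    have := (Nat.modEq_iff_dvd' (Nat.one_le_pow _ _ hp.pos)).1 a4.symm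
    interval_cases k
    · rfl
    · have := Nat.le_of_dvd (by simp; omega) this
      simp at this; omega
    · rw [show p ^ 2 - 1 = (p + 1) * (p - 1) from Nat.sq_sub_sq p 1] at this
      rcases hq.dvd_mul.1 this with e | e <;> have := Nat.le_of_dvd (by omega) e <;> omega
  haveI := (Nat.card_eq_one_iff_unique.1 a7).1
  haveI := Q.normal_of_subsingleton
  obtain ⟨g, hg⟩ := exists_order_of_norm hp hq (by omega) h1 (card_sylow_eq hq hQ a2 h2)
    (a1.trans (card_dvd nml_map_subtype.norm))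
  exact h3 g hg

theorem dvd_card_alt (hp : p.Prime) (h2 : p ≠ 2) (h : p ≤ Fintype.card Ω) : p ∣ Nat.card (alternatingGroup Ω) := by
  haveI : Nontrivial Ω := Fintype.one_lt_card_iff_nontrivial.1 (hp.one_lt.trans_le h)
  refine ((Nat.coprime_primes hp Nat.prime_two).2 h2).dvd_of_dvd_mul_left ?_
  rw [two_mul_nat_card_alternatingGroup, Nat.card_perm, Nat.card_eq_fintype_card]
  exact hp.dvd_factorial.2 h

theorem not_pow_dvd_card_alt (hp : p.Prime) {k : ℕ} (hk : k ≤ p) (h : Fintype.card Ω < k * p) :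
    ¬ p ^ k ∣ Nat.card (alternatingGroup Ω) := fun e => by
  have := e.trans (card_subgroup_dvd_card _)
  rw [Nat.card_perm, Nat.card_eq_fintype_card, hp.pow_dvd_factorial_iff (b := 2)
    (Nat.log_lt_of_lt_pow' two_ne_zero (h.trans_le (sq p ▸ Nat.mul_le_mul_right p hk)))] at this
  exact this.not_gt (by simpa using Nat.div_lt_of_lt_mul (mul_comm k p ▸ h))

end H23
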