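import Cfsg.Agent.H23.Wr4
import Cfsg.Agent.H23.Spec
import Cfsg.Agent.H17.Comp

/-! Overgroups of Sylow `3`-subgroups in alternating groups: `alt_le_of_stab`, `two_of_part`, `two_three`,
`pow_four_mem` (`F* ≅ Aₙ`). -/

set_option autoImplicit false
set_option linter.unusedSectionVars false

namespace H23.Wr

open Subgroup Equiv Equiv.Perm Sum H20 MulAction H29
open scoped Pointwise

variable {α β Ω : Type*} [Fintype α] [DecidableEq α] [Fintype β] [DecidableEq β] [Fintype Ω] [DecidableEq Ω]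
  {A : Subgroup (Perm α)}

theorem alt_le_of_stab (h3 : 3 ≤ Fintype.card Ω) {c : Ω} {K : Subgroup (Perm Ω)}
    (h1 : stabilizer (Perm Ω) c ⊓ alternatingGroup Ω ≤ K) (h2 : ¬ K ≤ stabilizer (Perm Ω) c) (h4 : 4 ≤ Fintype.card Ω) :
    alternatingGroup Ω ≤ K := by
  obtain ⟨g, h5, h6⟩ := SetLike.not_le_iff_exists.1 h2
  obtain ⟨u, h7, -⟩ := exists_third h3 c c
  obtain ⟨v, h8, h9⟩ := exists_third h3 c u
  obtain ⟨w, hw⟩ := exists_notMem_of_lt {c, u, v} (Finset.card_le_three.trans_lt h4)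
  simp only [Finset.mem_insert, Finset.mem_singleton, not_or] at hw
  refine alternatingGroup_le_of_isPreprimitive_of_isThreeCycle_mem (isPreprimitive_of_is_two_pretransitive
    (prim_of (x := c) (fun a b ha hb => ?_) ⟨g, h5, h6⟩)) (isThreeCycle_swap_mul_swap_same h9.symm (Ne.symm hw.2.1)
      (Ne.symm hw.2.2)) (h1 ⟨by simp [swap_apply_def, h7.symm, h8.symm, Ne.symm hw.1],
        swap_swap_mem h9.symm (Ne.symm hw.2.1)⟩)
  by_cases e : a = b
  · exact ⟨1, one_mem _, rfl, e⟩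
  obtain ⟨d, hd⟩ := exists_notMem_of_lt {a, b, c} (Finset.card_le_three.trans_lt h4)
  simp only [Finset.mem_insert, Finset.mem_singleton, not_or] at hd
  have : (swap b d * swap a d) c = c := by simp [swap_apply_def, ha.symm, hb.symm, Ne.symm hd.2.2]
  exact ⟨_, h1 ⟨this, swap_swap_mem (Ne.symm hd.2.1) (Ne.symm hd.1)⟩, this, by simp⟩

theorem two_of_part {R H : Subgroup (Perm Ω)} {ι : Type*} (f : Ω → ι) (h1 : R ≤ H) (h2 : R ≤ blockStab f) {a b c d : Ω}
    (hn : [a, b, c, d].Nodup) (e1 : f a = f b) (e2 : f a = f c) (e3 : f a ≠ f d) (h3 : swap a b * swap a c ∉ H)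
    (h4 : ∀ K, H ⊓ alternatingGroup Ω ≤ K → ¬ K ≤ H → alternatingGroup Ω ≤ K) : Two R := by
  have h5 := swap_swap_mem (a := a) (b := b) (c := a) (d := c) (by grind) (by grind)
  refine ⟨H, _, h1, h2, fun h => h3 (h h5), ⟨_, swap_swap_mem (a := b) (b := c) (c := b) (d := d) (by grind) (by grind),
    fun h => e3 ?_⟩, ⟨_, ⟨mem_blockStab_of_fix fun x => ?_, h5⟩, h3⟩, h4⟩
  · have := (h a b).1 e1
    simp only [Perm.mul_apply, swap_apply_def] at this
    grind
  · simp only [Perm.mul_apply, swap_apply_def]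
    grind

theorem two_of_set {R : Subgroup (Perm Ω)} {c d : Ω} (O : Set Ω) (h1 : ∀ g ∈ R, g c = c)
    (h2 : ∀ g ∈ R, ∀ x, g x ∈ O ↔ x ∈ O) (h3 : c ∉ O) (h4 : d ∈ O) (h5 : O.ncard + 3 ≤ Fintype.card Ω) : Two R := by
  classical
  have h6 : 0 < O.ncard := (Set.ncard_pos).2 ⟨d, h4⟩
  obtain ⟨u, hu⟩ := exists_notMem_of_lt (insert c O.toFinset) ((Finset.card_insert_le _ _).trans_lt (by
    rw [← Set.ncard_eq_toFinset_card']; omega))
  obtain ⟨v, hv⟩ := exists_notMem_of_lt (insert u (insert c O.toFinset)) ((Finset.card_insert_le _ _).trans_lt (by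
    have := Finset.card_insert_le c O.toFinset
    rw [← Set.ncard_eq_toFinset_card'] at this; omega))
  simp only [Finset.mem_insert, Set.mem_toFinset, not_or] at hu hv
  refine two_of_part (· ∈ O) (H := stabilizer _ c) h1 (fun g hg x y => by simp only [h2 g hg]) (a := c) (b := u) (c := v)
    (d := d) (by grind) (by simp [h3, hu.2]) (by simp [h3, hv.2.2]) (by simp [h3, h4]) ?_
    fun K a1 a2 => alt_le_of_stab (by omega) a1 a2 (by omega)
  simp only [mem_stabilizer_iff, Perm.smul_def, Perm.mul_apply, swap_apply_def]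
  grind

theorem T_le_blockStab' {p : ℕ} [Fact p.Prime] {ι : Type*} {f : α → ι} (h : A ≤ blockStab f) :
    T p (Fin 0) A ≤ blockStab (Sum.elim (fun q => f q.1) (Fin.elim0 : Fin 0 → ι)) := by
  rintro _ ⟨σ, hσ, v, rfl⟩ (⟨x, z⟩ | c) (⟨y, t⟩ | d)
  · exact h hσ x y
  · exact d.elim0
  · exact c.elim0
  · exact c.elim0

theorem two_T {m : ℕ} {A : Subgroup (Perm (Fin m))} {ι : Type*} {f : Fin m → ι} (h : A ≤ blockStab f) {x y z : Fin m}
    (h1 : x ≠ y) (h2 : f x = f y) (h3 : f x ≠ f z) : Two (T 3 (Fin 0) A) := by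
  have h4 : x ≠ z := fun e => h3 (e ▸ rfl)
  have h5 : y ≠ z := fun e => h3 (e ▸ h2)
  refine two_of_part _ (T_le_blockStab' (f := id) fun σ _ a b => σ.injective.eq_iff.symm) (T_le_blockStab' h)
    (a := inl (x, 0)) (b := inl (x, 1)) (c := inl (y, 0)) (d := inl (z, 0)) (by simp [h1, h4, h5]) rfl h2 h3
    (fun e => ?_) fun K => alt_le_of_blockStab (a := 3) (Equiv.sumEmpty _ _) (by rintro (q | c); rfl; exact c.elim0)
      (by omega) (by have := x.2; have := y.2; have := Fin.val_ne_of_ne h1; omega) (by omega)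
  have := (e (inl (x, 0)) (inl (x, 2))).1 rfl
  simp [swap_apply_def, h1, h1.symm, show (2 : ZMod 3) ≠ 0 by decide, show (2 : ZMod 3) ≠ 1 by decide] at this

theorem Two.map {R : Subgroup (Perm Ω)} {S : Subgroup (Perm α)} (e : Ω ≃ α) (h : ∀ g ∈ R, e.permCongr g ∈ S)
    (h2 : Two S) : Two R := by
  obtain ⟨H₁, H₂, a1, a2, a3, ⟨g, a4, a5⟩, ⟨k, a6, a7⟩, a8⟩ := h2
  have key : ∀ g : Perm α, e.permCongrHom.toMonoidHom (e.symm.permCongr g) = g := fun g => by ext; simp
  refine ⟨H₁.comap e.permCongrHom.toMonoidHom, H₂.comap e.permCongrHom.toMonoidHom, fun x hx => a1 (h x hx),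
    fun x hx => a2 (h x hx), fun h => a3 fun x hx => key x ▸ h (x := e.symm.permCongr x) (by simpa using hx),
    ⟨e.symm.permCongr g, by simpa using a4, by rwa [mem_comap, key]⟩,
    ⟨e.symm.permCongr k, mem_inf.2 ⟨by rw [mem_comap, key]; exact a6.1, by simpa using a6.2⟩, by rwa [mem_comap, key]⟩,
    fun K b1 b2 x hx => ?_⟩
  obtain ⟨y, hy, e'⟩ := a8 (K.map e.permCongrHom.toMonoidHom) (fun x hx => ⟨e.symm.permCongr x,
    b1 (mem_inf.2 ⟨by rw [mem_comap, key]; exact hx.1, by simpa using hx.2⟩), key x⟩) (fun h => b2 (map_le_iff_le_comap.1 h))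
    (x := e.permCongr x) (by simpa using hx)
  exact e.permCongr.injective e' ▸ hy

theorem two_three {R : Subgroup (Perm Ω)} (hR : IsPGroup 3 R) (h5 : 5 ≤ Fintype.card Ω) (h6 : Fintype.card Ω ≠ 6)
    (h9 : Fintype.card Ω ≠ 9) (h : ∀ a, Fintype.card Ω ≠ 3 ^ a + 1) : Two R := by
  haveI : Fact (Nat.Prime 3) := ⟨by norm_num⟩
  set n := Fintype.card Ω with hn
  have h1 := hR.card_modEq_card_fixedPoints Ω
  rw [Nat.card_eq_fintype_card, Nat.card_coe_set_eq] at h1
  unfold Nat.ModEq at h1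
  by_cases e : n % 3 = 2
  · obtain ⟨c, d, a1, a2, a3⟩ := (Set.one_lt_ncard_iff (s := fixedPoints R Ω)).1 (by omega)
    exact two_of_set {d} (fun g hg => a1 ⟨g, hg⟩) (fun g hg x => by
      rw [Set.mem_singleton_iff, Set.mem_singleton_iff, ← g.injective.eq_iff (a := x), show g d = d from a2 ⟨g, hg⟩])
      a3 rfl (by simp; omega)
  by_cases e' : n % 3 = 1
  · obtain ⟨c, a1⟩ := (Set.ncard_pos (s := fixedPoints R Ω)).1 (by omega)
    obtain ⟨d, a2, -⟩ := exists_third (by omega) c c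
    obtain ⟨k, a3⟩ := hR.card_orbit d
    have a4 : c ∉ orbit R d := fun ⟨g, e⟩ => a2 (g.1.injective (e.trans (a1 g).symm))
    have a5 := Set.ncard_le_card (insert c (orbit R d))
    rw [Set.ncard_insert_of_notMem a4, Nat.card_eq_fintype_card] at a5
    rw [Nat.card_coe_set_eq] at a3
    refine two_of_set (orbit R d) (fun g hg => a1 ⟨g, hg⟩) (fun g hg x => ?_) a4 (mem_orbit_self d) ?_
    · rw [← orbit_eq_iff, ← orbit_eq_iff, ← orbit_smul (⟨g, hg⟩ : R) x]; rfl
    · have := h k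
      rcases k with _ | k
      · omega
      · rw [pow_succ] at a3 this; omega
  obtain ⟨A, hA⟩ := exists_good 3 (n / 3) (Fin (n / 3)) (by simp)
  obtain ⟨e, he⟩ := exists_model (β := Fin 0) hR (by simp) hA (by simp; omega)
  refine Two.map e he ?_
  by_cases e3 : (n / 3) % 3 = 0
  · obtain ⟨B, hB⟩ := exists_good 3 (n / 9) (Fin (n / 9)) (by simp)
    obtain ⟨e', he'⟩ := exists_model (β := Fin 0) hA.syl.pgroup (by simp) hB (by simp; omega)
    obtain ⟨x, y, a1⟩ := Fintype.exists_pair_of_one_lt_card (α := Fin (n / 9)) (by simp; omega)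
    refine two_T (f := fun a => Sum.elim (fun q => id q.1) Fin.elim0 (e' a)) (fun σ hσ a b => ?_)
      (x := e'.symm (inl (x, 0))) (y := e'.symm (inl (x, 1))) (z := e'.symm (inl (y, 0))) (by simp) (by simp)
      (by simpa using a1)
    simpa using T_le_blockStab' (f := id) (fun σ _ a b => σ.injective.eq_iff.symm) (he' σ hσ) (e' a) (e' b)
  · obtain ⟨z, hz⟩ := hA.syl.pgroup.nonempty_fixed_point_of_prime_not_dvd_card (Fin (n / 3)) (by simp; omega)
    obtain ⟨x, a1, -⟩ := exists_third (by simp; omega) z z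
    obtain ⟨y, a2, a3⟩ := exists_third (by simp; omega) z x
    refine two_T (f := (· = z)) (fun σ hσ a b => ?_) a3.symm (z := z) (by simp [a1, a2]) (by simp [a1])
    have : ∀ a, σ a = z ↔ a = z := fun a => by rw [← σ.injective.eq_iff (a := a), show σ z = z from hz ⟨σ, hσ⟩]
    simp only [this]

theorem not_uniq_alt {G : Type*} [Group G] [Finite G] (φ : G ≃* alternatingGroup Ω) {R : Subgroup G}
    (h2 : Two (R.map ((alternatingGroup Ω).subtype.comp φ.toMonoidHom))) : ¬ ∃! M : Subgroup G, IsCoatom M ∧ R ≤ M := by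
  rintro ⟨M, ⟨h3, h4⟩, hu⟩
  obtain ⟨H₁, H₂, a1, a2, a3, ⟨g, a4, a5⟩, ⟨k, a6, a7⟩, a8⟩ := h2
  set ψ := (alternatingGroup Ω).subtype.comp φ.toMonoidHom
  have hA : ∀ x ∈ alternatingGroup Ω, ∃ y, ψ y = x := fun x hx => ⟨φ.symm ⟨x, hx⟩, by simp [ψ]⟩
  have key : ∀ H, R.map ψ ≤ H → ¬ alternatingGroup Ω ≤ H → H ⊓ alternatingGroup Ω ≤ M.map ψ := fun H b1 b2 x hx => by
    obtain ⟨x, rfl⟩ := hA x hx.2
    obtain ⟨N, b3, b4⟩ := (eq_top_or_exists_le_coatom (H.comap ψ)).resolve_left fun e => b2 fun y hy => by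
      obtain ⟨y, rfl⟩ := hA y hy
      exact e.ge (mem_top y)
    exact mem_map_of_mem _ (hu N ⟨b3, (map_le_iff_le_comap.1 b1).trans b4⟩ ▸ b4 hx.1)
  have := a8 _ (key _ a1 a3) fun e => a7 (e (key _ a2 (fun e => a5 (e a4)) a6))
  exact h3.1 (eq_top_iff.2 fun x _ => (mem_map_iff_mem (Subtype.val_injective.comp φ.injective)).1 (this (φ x).2))

theorem pow_four_mem {X : Type*} [Group X] {L : Subgroup X} [L.Normal] (h4 : 4 ≤ Fintype.card Ω)
    (hc : centralizer (L : Set X) ≤ L) (e : L ≃* alternatingGroup Ω) (x : X) : x ^ 4 ∈ L := by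
  obtain ⟨y, hy⟩ := aut_pow_four h4 (MulAut.congr e (MulAut.conjNormal x))
  rw [← map_pow, ← map_pow] at hy
  have : ((e.symm y : X))⁻¹ * x ^ 4 ∈ centralizer (L : Set X) := fun l hl => by
    have := congrArg (fun φ : MulAut _ => (e.symm (φ (e ⟨l, hl⟩)) : X)) hy
    simp only [MulAut.conj_apply, map_mul, map_inv, MulEquiv.symm_apply_apply, MulAut.congr_apply,
      MulEquiv.trans_apply, MulAut.conjNormal_apply] at this
    calc _ = (e.symm y : X)⁻¹ * (e.symm y * l * (e.symm y : X)⁻¹) * x ^ 4 := by group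
      _ = _ := by rw [show e.symm y * l * (e.symm y : X)⁻¹ = _ from this]; group
  simpa using mul_mem (e.symm y).2 (hc this)

end H23.Wr
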