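import Cfsg.Agent.H23.Nil1
import Cfsg.Agent.H23.Cyc
import Cfsg.Agent.H23.Wr5
import Cfsg.Agent.H16.Hup3
import Cfsg.Agent.H5.Central

/-! Hall subgroups of symmetric and alternating groups: `fib`, `card_blockStab_dvd`, `Res`, `hall_W`,
`hall_class` (the theorem of Hall and Thompson), `conj_W`. -/

set_option autoImplicit false
set_option linter.unusedSectionVars false

namespace H23

open Subgroup Equiv Equiv.Perm H18 MulAction H29 H16
open scoped Pointwise

variable {Ω : Type*} [Fintype Ω] [DecidableEq Ω] {π : Set ℕ} {G H : Subgroup (Perm Ω)} {O S : Set Ω} {a b j n k : ℕ}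

/-- the permutations fixing every fibre of `f` -/
def fib {ι : Type*} (f : Ω → ι) : Subgroup (Perm Ω) where
  carrier := {g | f ∘ g = f}
  one_mem' := rfl
  mul_mem' := fun {a b} ha hb => (congrArg (· ∘ b) ha).trans hb
  inv_mem' := fun {a} ha => funext fun x => by simpa using (congrFun ha (a⁻¹ x)).symm

theorem mem_fib {ι : Type*} {f : Ω → ι} {g : Perm Ω} : g ∈ fib f ↔ ∀ x, f (g x) = f x := funext_iff

theorem fib_le {ι : Type*} {f : Ω → ι} : fib f ≤ blockStab f := fun _ h => mem_blockStab_of_fix (mem_fib.1 h)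

theorem card_fib {ι : Type*} [Fintype ι] (f : Ω → ι) : Nat.card (fib f) = ∏ i, {a | f a = i}.ncard.factorial :=
  DomMulAct.stabilizer_ncard f

theorem relIndex_fib_dvd {ι : Type*} [Fintype ι] (f : Ω → ι) :
    (fib f).relIndex (blockStab f) ∣ (Fintype.card ι).factorial := by
  let X : Set (Set Ω) := Set.range fun x => {y | f x = f y}
  have h : ∀ g ∈ blockStab f, ∀ x, g • {y | f x = f y} = {y | f (g x) = f y} := fun g hg x => by
    ext y
    rw [Set.mem_smul_set_iff_inv_smul_mem]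
    simpa using hg x (g⁻¹ y)
  have h1 : (toPermHom _ (H10.invSub (blockStab f) X (by rintro g hg _ ⟨x, rfl⟩; exact ⟨_, (h g hg x).symm⟩))).ker ≤
      (fib f).subgroupOf _ := fun g hg => mem_fib.2 fun x =>
    ((h g g.2 x).symm.trans (congrArg Subtype.val (Equiv.congr_fun hg ⟨_, x, rfl⟩))).ge (rfl : f x = f x)
  refine (index_dvd_of_le h1).trans ((index_ker _).dvd.trans ((card_subgroup_dvd_card _).trans
    ((Nat.card_perm (α := X)).dvd.trans (Nat.factorial_dvd_factorial ?_))))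
  rw [← Nat.card_eq_fintype_card]
  exact (Nat.card_le_card_of_injective (Set.inclusion (t := Set.range fun i => {y | i = f y})
    (by rintro _ ⟨x, rfl⟩; exact ⟨_, rfl⟩)) (Set.inclusion_injective _)).trans (Finite.card_range_le _)

theorem piNat_factorial (h : ∀ r, r.Prime → r ≤ n → r ∈ π) : PiNat π n.factorial := fun r hr hd => h r hr (hr.dvd_factorial.1 hd)

theorem pi_blockStab {ι : Type*} [Fintype ι] {f : Ω → ι} (h : ∀ r, r.Prime → r ≤ n → r ∈ π) (h1 : Fintype.card ι ≤ n)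
    (h2 : ∀ i, {a | f a = i}.ncard ≤ n) : PiGrp π (blockStab f) :=
  piGrp_of_relIndex fib_le (fun r hr hd => by
    obtain ⟨i, -, e⟩ := (hr.prime.dvd_finsetProd_iff _).1 (card_fib f ▸ hd)
    exact h r hr ((hr.dvd_factorial.1 e).trans (h2 i)))
    ((piNat_factorial fun r hr e => h r hr (e.trans h1)).of_dvd (relIndex_fib_dvd f))

theorem card_fib_set (O : Set Ω) :
    Nat.card (fib (· ∈ O)) = O.ncard.factorial * (Fintype.card Ω - O.ncard).factorial := by
  rw [card_fib, Fintype.univ_Prop, Finset.prod_pair (by simp), ← Nat.card_eq_fintype_card, ← Set.ncard_compl]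
  simp [Set.compl_def]

theorem ncard_le (O : Set Ω) : O.ncard ≤ Fintype.card Ω := Nat.card_eq_fintype_card (α := Ω) ▸ Set.ncard_le_card O

theorem index_fib_set (O : Set Ω) : (fib (· ∈ O)).index = (Fintype.card Ω).choose O.ncard := by
  refine Nat.eq_of_mul_eq_mul_right (card_pos' (H := fib (· ∈ O))) ?_
  rw [index_mul_card, card_fib_set, ← mul_assoc, Nat.choose_mul_factorial_mul_factorial (ncard_le O), Nat.card_perm,
    Nat.card_eq_fintype_card]

theorem relIndex_eq_index (hG : alternatingGroup Ω ≤ G) {a b : Ω} (h : a ≠ b) (hH : swap a b ∈ H) : H.relIndex G = H.index := by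
  rcases alt_le_cases hG with rfl | rfl
  · rw [← (nml_top.nrm2 le_top).relIndex_sup, (alt_le_cases le_sup_left).resolve_left fun e => by
      simpa [h] using mem_alternatingGroup.1 (e.le (mem_sup_right hH)), relIndex_top_right]
  · exact relIndex_top_right H

theorem dv (h1 : PiNat π (a + (j + 1))) (h2 : PiNat πᶜ ((a + b).choose a)) : a + (j + 1) ∣ (j + 1) * b.choose (j + 1) := by
  refine (h1.coprime h2).dvd_of_dvd_mul_left ?_
  have e := Nat.choose_mul (n := a + b) (Nat.le_add_right a (j + 1))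
  rw [Nat.add_sub_cancel_left, Nat.add_sub_cancel_left, Nat.choose_symm_add] at e
  rw [mul_left_comm, ← e, mul_left_comm, mul_comm (j + 1)]
  exact Dvd.dvd.mul_left ⟨_, (Nat.add_one_mul_choose_eq (a + j) j).symm⟩ _

theorem not_succ (hb : 1 ≤ b) (hab : b ≤ a) (h2 : PiNat πᶜ ((a + b).choose a)) : ¬ PiNat π (a + 1) := fun h => by
  have := Nat.le_of_dvd (by simp; omega) (dv (j := 0) h h2)
  simp at this; omega

theorem nt (h : ∀ r, r.Prime → r ≤ a → r ∈ π) (h3 : 3 ≤ a) (hb : 1 ≤ b) (hab : b ≤ a)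
    (h2 : PiNat πᶜ ((a + b).choose a)) : (a + 1).Prime ∧ (b = 1 ∨ a = 4 ∧ b = 3) := by
  have h1 : (a + 1).Prime := by_contra fun e => not_succ hb hab h2 fun r hr hd => h r hr (by
    have := Nat.le_of_dvd (by omega) hd
    have : r ≠ a + 1 := fun d => e (d ▸ hr)
    omega)
  refine ⟨h1, or_iff_not_imp_left.2 fun e => ?_⟩
  obtain ⟨c, hc⟩ := (h1.even_sub_one (by omega))
  have h4 : ∀ i, 1 ≤ i → i ≤ 2 → PiNat π (a + 2 * i) := fun i a1 a2 r hr hd => h r hr (by
    rcases hr.dvd_mul.1 (show r ∣ 2 * (c + i) by rwa [show 2 * (c + i) = a + 2 * i by omega]) with d | d <;>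
      have := Nat.le_of_dvd (by omega) d <;> omega)
  have h5 : ¬ 2 ∣ (a + b).choose a := h2.not_dvd' Nat.prime_two (h 2 Nat.prime_two (by omega))
  have h6 : b ≠ a := by
    rintro rfl
    exact h5 (two_mul b ▸ Nat.two_dvd_centralBinom_of_one_le hb)
  obtain ⟨t, ht⟩ := dv (a := b) (b := a) (j := 0) (fun r hr hd => h r hr ((Nat.le_of_dvd (by omega) hd).trans (by omega)))
    (by rwa [add_comm, ← Nat.choose_symm_add])
  obtain ⟨u, hu⟩ := dv (j := 1) (h4 1 le_rfl one_le_two) h2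
  obtain ⟨b, rfl⟩ := Nat.exists_eq_add_of_le' (show 2 ≤ b by omega)
  have h7 : 2 * (b + 2).choose 2 = (b + 2) * (b + 1) := by
    have := Nat.add_one_mul_choose_eq (b + 1) 1
    rw [Nat.choose_one_right] at this; linarith
  simp only [zero_add, one_mul, Nat.choose_one_right] at ht
  rw [h7] at hu
  rcases u with _ | u
  · simp at hu
  obtain ⟨w, hw⟩ : b + 3 ∣ 2 * u := (Nat.dvd_add_iff_right (Dvd.intro (t * (u + 1)) rfl)).2 ⟨b, by nlinarith⟩
  have h8 : 1 ≤ t := by rcases t with _ | t <;> omega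
  rcases w with _ | w
  · obtain rfl : u = 0 := by omega
    obtain rfl : t = b := Nat.eq_of_mul_eq_mul_left (show 0 < b + 3 by omega) (by nlinarith)
    by_contra h9
    have h10 : 2 ≤ t := by
      have : t ≠ 1 := by rintro rfl; omega
      omega
    obtain ⟨t, rfl⟩ := Nat.exists_eq_add_of_le' h10
    have h11 := dv (j := 3) (h4 2 one_le_two le_rfl) h2
    have h12 : a + 4 ∣ (t + 4) * (t + 3) * (t + 2) * (t + 1) := h11.trans ⟨6, by
      have := Nat.descFactorial_eq_factorial_mul_choose (t + 4) 4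
      simp [Nat.descFactorial, Nat.factorial] at this
      linarith⟩
    have h13 : a + 4 ∣ 8 * (t + 3) := by
      zify at h12 ht ⊢
      have := h12.sub (Dvd.intro ((a : ℤ) - 4 * t - 10) rfl)
      rwa [show (t + 4 : ℤ) * (t + 3) * (t + 2) * (t + 1) - (a + 4) * (a - 4 * t - 10) = 8 * (t + 3) by
        rw [ht]; ring] at this
    have := Nat.le_of_dvd (by omega) h13
    have : t ≤ 3 := by nlinarith
    subst ht
    interval_cases t <;> omega
  · have : t = 1 ∧ w = 0 := by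
      by_contra d
      have : 2 ≤ t ∨ 1 ≤ w := by omega
      rcases this with d | d
      · have := Nat.mul_le_mul (show 2 * b + 8 ≤ a + 2 by nlinarith) (show b + 5 ≤ 2 * (u + 1) by nlinarith)
        nlinarith
      · have := Nat.mul_le_mul (show b + 5 ≤ a + 2 by nlinarith) (show 2 * b + 8 ≤ 2 * (u + 1) by nlinarith)
        nlinarith
    obtain ⟨rfl, rfl⟩ := this
    obtain rfl : b = 7 := by nlinarith
    subst ht
    exact absurd (by decide) h5

/-- the exceptional data of the theorem of Hall and Thompson -/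
def Res (π : Set ℕ) (n k : ℕ) : Prop := (n.Prime ∧ k = 1 ∧ 5 ≤ n ∧ ∀ r, r.Prime → r ≤ n → (r ∈ π ↔ r < n)) ∨
  (n = 7 ∧ k = 3 ∨ n = 8 ∧ k = 4) ∧ ∀ r, r.Prime → r ≤ n → (r ∈ π ↔ r = 2 ∨ r = 3)

theorem prime_le_four {r : ℕ} (hr : r.Prime) (h : r ≤ 4) : r = 2 ∨ r = 3 := by
  interval_cases r <;> simp_all (config := {decide := true})

theorem Res.mem (h : Res π n k) : (∀ r, r.Prime → r ≤ n - k → r ∈ π) ∧ 1 ≤ k ∧ 2 * k ≤ n ∧ k + 4 ≤ n ∧ n ≤ 2 * k + 1 + (n - 2 * k - 1) := by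
  rcases h with ⟨-, rfl, h1, h2⟩ | ⟨h1, h2⟩
  · exact ⟨fun r hr e => (h2 r hr (by omega)).2 (by omega), by omega⟩
  · exact ⟨fun r hr e => (h2 r hr (by omega)).2 (prime_le_four hr (by omega)), by omega⟩

theorem Res.pi (h : Res π (Fintype.card Ω) O.ncard) : PiGrp π (blockStab (· ∈ O)) := by
  obtain ⟨h1, h2, h3, h4, -⟩ := h.mem
  refine pi_blockStab h1 (by simp; omega) fun i => ?_
  by_cases e : i
  · simp [e]; omega
  · simp only [e, eq_iff_iff, iff_false]
    exact (Set.ncard_compl O).trans_le (by simp)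

theorem exists_map_set {O' : Set Ω} (h : O.ncard = O'.ncard) (h2 : O.ncard + 2 ≤ Fintype.card Ω) :
    ∃ σ ∈ alternatingGroup Ω, ∀ x, σ x ∈ O' ↔ x ∈ O := by
  classical
  obtain ⟨σ, e⟩ : ∃ σ : Perm Ω, ∀ x, σ x ∈ O' ↔ x ∈ O :=
    ⟨(Equiv.Set.sumCompl O).symm.trans (((Finite.card_eq.1 h).some.sumCongr (Finite.card_eq.1 (show Nat.card ↑Oᶜ = Nat.card ↑O'ᶜ by
      rw [Nat.card_coe_set_eq, Nat.card_coe_set_eq, Set.ncard_compl, Set.ncard_compl, h])).some).trans
        (Equiv.Set.sumCompl O')), fun x => by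
      by_cases e : x ∈ O
      · simp [Equiv.Set.sumCompl_symm_apply_of_mem e, e]
      · simp only [Equiv.trans_apply, Equiv.Set.sumCompl_symm_apply_of_notMem e, e, iff_false]
        exact Subtype.prop (p := (· ∈ O'ᶜ)) _⟩
  by_cases hs : σ ∈ alternatingGroup Ω
  · exact ⟨σ, hs, e⟩
  obtain ⟨a, b, h5, h6, h7⟩ := (Set.one_lt_ncard_iff (s := Oᶜ)).1 (by rw [Set.ncard_compl, Nat.card_eq_fintype_card]; omega)
  refine ⟨σ * swap a b, ?_, fun x => ?_⟩
  · rw [mem_alternatingGroup, map_mul, sign_swap h7, (Int.units_eq_one_or _).resolve_left hs]; simp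
  · rw [Perm.mul_apply, e, swap_apply_def]
    split_ifs <;> simp_all

theorem conj_W {O' : Set Ω} [G.Normal] {σ : Perm Ω} (h : ∀ x, σ x ∈ O' ↔ x ∈ O) :
    blockStab (· ∈ O') ⊓ G = cj σ (blockStab (· ∈ O) ⊓ G) := by
  rw [cj_inf, cj_eq_self (H := G) (norm_of_normal (mem_top σ))]
  congr 1
  ext g
  rw [mem_cj]
  refine ⟨fun e x y => ?_, fun e x y => ?_⟩
  · simpa [← h] using e (σ x) (σ y)
  · simpa [← h] using e (σ⁻¹ x) (σ⁻¹ y)

theorem hall_W (h : Res π (Fintype.card Ω) O.ncard) : Hall π (blockStab (· ∈ O)) ⊤ := by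
  refine ⟨le_top, h.pi, ?_⟩
  have h1 := relIndex_mul_index (fib_le (f := (· ∈ O)))
  have h2 := relIndex_fib_dvd (· ∈ O)
  rw [index_fib_set] at h1
  rw [relIndex_top_right]
  have h35 : (∀ r, r.Prime → r ≤ 7 → (r ∈ π ↔ r = 2 ∨ r = 3)) → PiNat πᶜ 35 := fun h r hr hd e => by
    rcases hr.dvd_mul.1 (show r ∣ 5 * 7 from hd) with d | d <;>
      have := (Nat.prime_dvd_prime_iff_eq hr (by norm_num)).1 d <;> have := (h r hr (by omega)).1 e <;> omega
  rcases h with ⟨a1, a2, -, a3⟩ | ⟨⟨a1, a2⟩ | ⟨a1, a2⟩, a3⟩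
  · rw [a2, Nat.choose_one_right] at h1
    exact ((piNat_prime (π := πᶜ) a1).2 fun e => lt_irrefl _ ((a3 _ a1 le_rfl).1 e)).of_dvd (Dvd.intro_left _ h1)
  · rw [a1, a2] at h1
    exact (h35 (a1 ▸ a3)).of_dvd (Dvd.intro_left _ h1)
  · obtain ⟨σ, -, e⟩ := exists_map_set (O := O) (O' := Oᶜ) (by rw [Set.ncard_compl, Nat.card_eq_fintype_card]; omega)
      (by omega)
    obtain ⟨x, hx⟩ := (Set.ncard_pos (s := O)).1 (by omega)
    have e' : ∀ x, σ x ∈ O ↔ x ∉ O := fun x => by rw [← e x]; simp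
    rw [a1, a2, ((Nat.dvd_prime Nat.prime_two).1 h2).resolve_left fun d => by
      simpa [e', hx] using mem_fib.1 (relIndex_eq_one.1 d (x := σ) fun x y => by simp [e', not_iff_not]) x] at h1
    rw [show (blockStab (· ∈ O)).index = 35 by simp [Nat.choose] at h1; omega]
    exact h35 fun r hr d => a3 r hr (by omega)

theorem hall_res {K : Subgroup (Perm Ω)} [DecidablePred (· ∈ S)] (hG : alternatingGroup Ω ≤ G)
    (h : Hall π K (fib (· ∈ S) ⊓ G)) : Hall π (K.comap ofSubtype ⊓ alternatingGroup S) (alternatingGroup S) := by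
  have h1 : (alternatingGroup S).map ofSubtype ⊴ fib (· ∈ S) ⊓ G := ⟨by
    rintro _ ⟨g, hg, rfl⟩
    exact ⟨mem_fib.2 fun x => propext (ofSubtype_apply_mem_iff_mem g x), hG (by simpa using hg)⟩,
    norm_iff.2 (by
      rintro g hg _ ⟨x, hx, rfl⟩
      have a1 : ∀ y, g y ∈ S ↔ y ∈ S := fun y => (mem_fib.1 hg.1 y).to_iff
      refine ⟨g.subtypePerm a1 * x * (g.subtypePerm a1)⁻¹, Normal.conj_mem inferInstance _ hx _, Equiv.ext fun y => ?_⟩
      obtain ⟨y, rfl⟩ := g.surjective y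
      by_cases e : y ∈ S
      · rw [ofSubtype_apply_of_mem _ ((a1 y).2 e)]
        simp [ofSubtype_apply_of_mem _ e]
      · rw [ofSubtype_apply_of_not_mem _ (mt (a1 y).1 e)]
        simp [ofSubtype_apply_of_not_mem _ e])⟩
  have h2 := h.inf_nml h1
  refine ⟨inf_le_right, h.pi.of_dvd (card_dvd_of_injective ((ofSubtype.comp (Subgroup.subtype _)).codRestrict K
    fun x => x.2.1) fun a b e => Subtype.ext (ofSubtype_injective (congrArg Subtype.val e))), ?_⟩
  rw [inf_relIndex_right, relIndex_comap, ← inf_relIndex_right]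
  exact h2.idx

theorem conj_mem_hall (h : Hall π H G) {p : ℕ} (hp : p.Prime) (hπ : p ∈ π) {c : Perm Ω} (hc : c ∈ G)
    (e : orderOf c = p) : ∃ g, g * c * g⁻¹ ∈ H := by
  obtain ⟨P, hP⟩ := exists_sylow hp H
  obtain ⟨g, -, hg⟩ := sylow_le_cj hp (hP.trans_p h hπ) (piGrp_of_prime hp (card_zpowers'.trans e)) (zpowers_le.2 hc)
  exact ⟨g, hP.le (hg (conj_mem_cj (mem_zpowers c)))⟩

theorem exists_dt (h4 : 4 ≤ Fintype.card Ω) : ∃ t ∈ alternatingGroup Ω, orderOf t = 2 ∧ t.support.card = 4 := by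
  obtain ⟨g, hg⟩ := (exists_with_cycleType_iff Ω (m := {2, 2})).2 ⟨by simpa using h4, by simp⟩
  exact ⟨g, by rw [mem_alternatingGroup, sign_of_cycleType, hg]; decide, by rw [← lcm_cycleType, hg]; decide,
    by rw [← sum_cycleType, hg]; rfl⟩

theorem all_of_le (h : PiGrp π H) (hA : alternatingGroup Ω ≤ H) (h4 : 4 ≤ Fintype.card Ω) (r : ℕ) (hr : r.Prime)
    (e : r ≤ Fintype.card Ω) : r ∈ π := by
  refine h r hr (Dvd.dvd.trans ?_ (card_dvd hA))
  by_cases d : r = 2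
  · obtain ⟨t, h1, h2, -⟩ := exists_dt h4
    exact d ▸ h2 ▸ orderOf_dvd_card h1
  · exact dvd_card_alt hr d e

theorem not_two_prime (hG : alternatingGroup Ω ≤ G) (h : Hall π H G) [IsPretransitive H Ω] (hn : (Fintype.card Ω).Prime)
    {p : ℕ} (hp : p.Prime) (hπ : p ∈ π) (h1 : p < Fintype.card Ω) (h5 : 5 ≤ Fintype.card Ω)
    (h2 : ∀ r, r.Prime → r ∈ π → r < Fintype.card Ω → r = p) : False := by
  have h3 : IsPreprimitive H Ω := IsPreprimitive.of_prime_card (Nat.card_eq_fintype_card (α := Ω) ▸ hn)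
  have h4 : ¬ alternatingGroup Ω ≤ H := fun e => by
    have := h2 2 Nat.prime_two (all_of_le h.pi e (by omega) 2 Nat.prime_two (by omega)) (by omega)
    have := h2 3 Nat.prime_three (all_of_le h.pi e (by omega) 3 Nat.prime_three (by omega)) (by omega)
    omega
  by_cases e : p = 2
  swap
  · obtain ⟨c, a1, a2⟩ := exists_cycle (Ω := Ω) hp.two_le h1.le
    obtain ⟨g, hg⟩ := conj_mem_hall h hp hπ (hG (Wr.sign_of_pElt (hp := ⟨hp⟩) e ⟨1, by rw [pow_one, ← a2, ← a1.orderOf,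
      pow_orderOf_eq_one]⟩)) (a1.orderOf.trans a2)
    have a3 := (transitive_of_cycle h3 hp h1 a1.conj (card_support_conj.trans a2) hg).isMultiplyPretransitive
    have a4 := isMultiplyPretransitive_of_le (n := Fintype.card Ω - p + 1) (m := 2) (G := H) (α := Ω) (by omega)
      (by rw [Nat.card_eq_fintype_card]; have := hp.pos; omega)
    obtain ⟨a, b, a5⟩ := Fintype.exists_pair_of_one_lt_card (α := Ω) (by omega)
    have a6 := IsMultiplyPretransitive.index_of_fixingSubgroup_eq (G := H) {a, b} (by rwa [Set.ncard_pair a5])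
    exact e (h2 2 Nat.prime_two (h.pi 2 Nat.prime_two (Dvd.dvd.trans (by rw [a6, Set.ncard_pair a5]; simp)
      (index_dvd_card _))) (by omega)).symm
  subst e
  by_cases e5 : Fintype.card Ω = 5
  · haveI := alternatingGroup.isSimpleGroup (α := Ω) (by simp [e5])
    haveI : Nontrivial Ω := Fintype.one_lt_card_iff_nontrivial.1 (by omega)
    haveI : (alternatingGroup Ω).Normal := inferInstance
    have a1 := (h.inf_nml ⟨hG, norm_of_normal⟩).idx
    have a2 := H9.card_dvd_factorial_index (mt subgroupOf_eq_top.1 h4)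
    have a3 := relIndex_dvd (A := H) (B := alternatingGroup Ω)
    rw [inf_relIndex_right] at a1
    have a4 := a1.not_dvd' Nat.prime_two hπ
    have a5 := a1.not_dvd' Nat.prime_five (h.pi 5 Nat.prime_five (e5 ▸ ⟨_, by
      rw [← Nat.card_eq_fintype_card, card_mul_card_stabilizer (G := H) (Classical.arbitrary Ω)]⟩))
    rw [nat_card_alternatingGroup, Nat.card_eq_fintype_card (α := Ω), e5] at a2 a3
    rw [← relIndex] at a2
    have := Nat.le_of_dvd (by decide) a3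
    generalize H.relIndex (alternatingGroup Ω) = i at *
    simp [Nat.factorial] at this
    interval_cases i <;> simp [Nat.factorial] at a2 a3 a4 a5
  obtain ⟨t, a1, a2, a3⟩ := exists_dt (Ω := Ω) (by omega)
  obtain ⟨g, hg⟩ := conj_mem_hall h hp hπ (hG a1) a2
  rw [← orderOf_conj (g := g)] at a2
  rw [← card_support_conj (σ := g)] at a3
  generalize g * t * g⁻¹ = t at *
  haveI : Nontrivial H := ⟨⟨t, hg⟩, 1, fun e => by simp [show t = 1 from congrArg Subtype.val e] at a2⟩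
  obtain ⟨N, -, b1, -, -, b2, b3, -⟩ := exists_regular_elem (G := H) (α := Ω) (by
    obtain ⟨a, b, e, c1, c2⟩ := exists_pi_factor {2} (card_ne_zero' (H := H))
    have h0 := card_ne_zero' (H := H)
    rw [e, mul_ne_zero_iff] at h0
    obtain ⟨i, rfl⟩ := c1.eq_pow h0.1
    obtain ⟨j, rfl⟩ := PiNat.eq_pow (p := Fintype.card Ω) (fun r hr hd => by
      have d1 : r ∣ Nat.card H := e ▸ hd.mul_left _
      have d2 := hr.dvd_factorial.1 (d1.trans ((card_subgroup_dvd_card H).trans (Nat.card_perm (α := Ω)).dvd))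
      rw [Nat.card_eq_fintype_card] at d2
      exact d2.eq_or_lt.resolve_right fun d3 => c2 r hr hd (h2 r hr (h.pi r hr d1) d3)) h0.2
    exact H5.burnside_paqb hp hn e)
  obtain ⟨a, b, c1, c2, c3⟩ := (Finset.one_lt_card_iff (s := t.supportᶜ)).1 (by rw [Finset.card_compl]; omega)
  simp only [Finset.mem_compl, notMem_support] at c1 c2
  obtain ⟨x, hx⟩ := exists_smul_eq N a b
  have c4 : (x : H) ∈ C1((⟨t, hg⟩ : H)) := by
    have := (eq_bot_iff_forall _).1 (b3 b) ⟨_, mul_mem (b1.conj_mem _ x.2 ⟨t, hg⟩) (inv_mem x.2)⟩ (by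
      have d1 : x.1.1 a = b := hx
      have d2 : t.symm a = a := by rw [Equiv.symm_apply_eq, c1]
      show t (x.1.1 (t.symm (x.1.1.symm b))) = b
      rw [← d1, Equiv.symm_apply_apply, d2, d1, c2])
    rw [mem_C1, eq_comm, ← mul_inv_eq_iff_eq_mul, ← mul_inv_eq_one]
    exact congrArg Subtype.val this
  have c5 := prime_le_of_inf_ne_bot (A := C1((⟨t, hg⟩ : H))) (by rwa [card_eq_of_regular a (b3 a), Nat.card_eq_fintype_card])
    (ne_bot_of_mem ⟨x.2, c4⟩ fun e => c3 (by rw [← hx, Subgroup.smul_def, e, one_smul]))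
  have : t = 1 := Equiv.ext fun c => by
    obtain ⟨z, rfl⟩ := exists_smul_eq N a c
    exact (congrArg (fun w : H => w.1 a) (mem_C1.1 (c5 z.2))).symm.trans (congrArg z.1.1 c1)
  simp [this] at a2

/-- all three-cycles on `T` lie in `H` -/
def Tri (H : Subgroup (Perm Ω)) (T : Set Ω) : Prop :=
  ∀ a ∈ T, ∀ b ∈ T, ∀ c ∈ T, a ≠ b → a ≠ c → b ≠ c → swap a b * swap a c ∈ H

theorem exists_third_mem {T : Set Ω} (h : 3 ≤ T.ncard) (a b : Ω) : ∃ c ∈ T, c ≠ a ∧ c ≠ b := by
  by_contra! e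
  have := Set.ncard_le_ncard (s := T) (t := {a, b}) fun c hc => by
    by_cases d : c = a
    · exact Or.inl d
    · exact Or.inr (e c hc d)
  have : ({a, b} : Set Ω).ncard ≤ 2 := (Set.ncard_insert_le _ _).trans (by simp)
  omega

theorem Tri.sub {T B : Set Ω} (h : Tri H T) (h3 : 3 ≤ T.ncard) (hB : IsBlock H B) {x z : Ω} (h1 : x ∈ B) (h2 : x ∉ T)
    (h4 : z ∈ B) (h5 : z ∈ T) : insert x T ⊆ B := Set.insert_subset h1 fun w hw => by
  by_cases e : w = z
  · exact e ▸ h4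
  obtain ⟨u, a1, a2, a3⟩ := exists_third_mem h3 z w
  have := hB.smul_eq_of_mem (g := ⟨_, h z h5 u a1 w hw a2.symm (Ne.symm e) a3⟩) h1 (by
    have d : ∀ v ∈ T, swap z v x = x := fun v hv =>
      swap_apply_of_ne_of_ne (by rintro rfl; contradiction) (by rintro rfl; contradiction)
    rwa [Subgroup.smul_def, Perm.smul_def, Perm.mul_apply, d w hw, d u a1])
  rw [← this]
  exact ⟨z, h4, by simp [Subgroup.smul_def, swap_apply_of_ne_of_ne e a3.symm]⟩

theorem le_W_of_tri (h : PiGrp π H) [IsPretransitive H Ω] {x : Ω} (h1 : x ∉ O) (h2 : Res π (Fintype.card Ω - 1) O.ncard)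
    (h3 : Tri H O) (h4 : Tri H ({x}ᶜ \ O)) : (∀ r, r.Prime → r ≤ Fintype.card Ω → r ∈ π) ∨
      ∃ O : Set Ω, Res π (Fintype.card Ω) O.ncard ∧ H ≤ blockStab (· ∈ O) := by
  obtain ⟨-, a1, a2, a3, -⟩ := h2.mem
  have a4 : ({x}ᶜ \ O).ncard = Fintype.card Ω - 1 - O.ncard := by
    rw [Set.ncard_sdiff (Set.subset_compl_singleton_iff.2 h1), Set.ncard_compl, Set.ncard_singleton,
      Nat.card_eq_fintype_card]
  by_cases hp : IsPreprimitive H Ω
  · obtain ⟨a, b1, -⟩ := exists_third_mem (T := {x}ᶜ \ O) (by omega) x x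
    obtain ⟨b, b2, b3, -⟩ := exists_third_mem (T := {x}ᶜ \ O) (by omega) a a
    obtain ⟨c, b4, b5, b6⟩ := exists_third_mem (T := {x}ᶜ \ O) (by omega) a b
    exact Or.inl (all_of_le h (alternatingGroup_le_of_isPreprimitive_of_isThreeCycle_mem hp
      (isThreeCycle_swap_mul_swap_same b3.symm b5.symm b6.symm) (h4 a b1 b b2 c b4 b3.symm b5.symm b6.symm)) (by omega))
  obtain ⟨B, b1, b2, b3, y, b4, b5⟩ : ∃ B : Set Ω, IsBlock H B ∧ 2 * B.ncard ≤ Fintype.card Ω ∧ x ∈ B ∧ ∃ y ∈ B, y ≠ x := by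
    obtain ⟨B, c1, c2⟩ : ∃ B : Set Ω, IsBlock H B ∧ ¬ IsTrivialBlock B := by
      by_contra! e
      exact hp ⟨fun {B} => e B⟩
    obtain ⟨u, c3, v, c4, c5⟩ := Set.not_subsingleton_iff.1 (not_or.1 c2).1
    obtain ⟨g, rfl⟩ := exists_smul_eq H u x
    refine ⟨g • B, c1.translate g, ?_, Set.smul_mem_smul_set c3, _, Set.smul_mem_smul_set c4, fun e =>
      c5 (MulAction.injective g e).symm⟩
    rw [Set.ncard_smul_set, mul_comm, ← Nat.card_eq_fintype_card]
    exact not_lt.1 fun e => (not_or.1 c2).2 (c1.eq_univ_of_card_lt e)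
  have b6 : ∀ z ∈ B, z ∉ {x}ᶜ \ O := fun z c1 c2 => by
    have := Set.ncard_le_ncard (h4.sub (by omega) b1 b3 (by simp) c1 c2)
    rw [Set.ncard_insert_of_notMem (by simp)] at this
    omega
  have b7 : y ∈ O := by_contra fun e => b6 y b4 ⟨b5, e⟩
  rcases h2 with ⟨-, c1, -⟩ | ⟨c1, c2⟩
  · obtain ⟨w, rfl⟩ := Set.ncard_eq_one.1 c1
    obtain rfl : y = w := b7
    obtain ⟨a, c2, -⟩ := exists_third_mem (T := {x}ᶜ \ {y}) (by omega) x x
    obtain ⟨g, rfl⟩ := exists_smul_eq H x a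
    have c3 := (b1.smul_eq_or_disjoint g).resolve_left fun e => b6 _ (e ▸ Set.smul_mem_smul_set b3) c2
    have c4 : ∀ z ∈ B, g • y ≠ z := fun z hz e => Set.disjoint_left.1 c3 (Set.smul_mem_smul_set b4) (e ▸ hz)
    have c5 := Set.ncard_sdiff_singleton_of_mem c2
    have c7 := Set.ncard_le_ncard (Tri.sub (T := ({x}ᶜ \ {y}) \ {g • x}) (fun a d1 b d2 c d3 => h4 a d1.1 b d2.1 c d3.1)
      (by omega) (b1.translate g) (Set.smul_mem_smul_set b3) (by simp) (Set.smul_mem_smul_set b4)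
      ⟨⟨c4 x b3, c4 y b4⟩, (MulAction.injective g).ne b5⟩)
    have c6 := Set.ncard_le_ncard (s := B) (t := {x, y}) fun z hz => by simpa [or_iff_not_imp_left] using b6 z hz
    have : ({x, y} : Set Ω).ncard ≤ 2 := (Set.ncard_insert_le _ _).trans (by simp)
    rw [Set.ncard_insert_of_notMem (by simp), Set.ncard_smul_set] at c7
    omega
  have c3 := Set.ncard_le_ncard (h3.sub (by omega) b1 b3 h1 b4 b7)
  rw [Set.ncard_insert_of_notMem h1] at c3
  refine Or.inr ⟨B, Or.inr ⟨by omega, fun r hr e => c2 r hr ?_⟩, fun g hg => ?_⟩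
  · have : r ≠ 8 := by rintro rfl; norm_num at hr
    omega
  rcases b1.smul_eq_or_disjoint ⟨g, hg⟩⁻¹ with e | e
  · exact mem_blockStab_of_fix fun u => by
      conv_rhs => rw [← e, Set.mem_inv_smul_set_iff]
      rfl
  · have := Set.eq_of_subset_of_ncard_le e.subset_compl_right (by
      rw [Set.ncard_smul_set, Set.ncard_compl, Nat.card_eq_fintype_card]; omega)
    have d : ∀ u, g u ∈ B ↔ u ∉ B := fun u => by rw [← Set.mem_compl_iff, ← this, Set.mem_inv_smul_set_iff]; rfl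
    exact fun u v => by simp [d, not_iff_not]

universe u in
theorem hall_class (n : ℕ) : ∀ (Ω : Type u) [Fintype Ω] [DecidableEq Ω] (G H : Subgroup (Perm Ω)), Fintype.card Ω = n →
    alternatingGroup Ω ≤ G → Hall π H G → (∃ r s, r.Prime ∧ s.Prime ∧ r ≠ s ∧ r ∈ π ∧ s ∈ π ∧ r ≤ n ∧ s ≤ n) →
    (∀ r, r.Prime → r ≤ n → r ∈ π) ∨ ∃ O : Set Ω, Res π n O.ncard ∧ H = blockStab (· ∈ O) ⊓ G := by
  classical
  induction n using Nat.strong_induction_on with
  | _ n ih =>
  rintro Ω _ _ G H rfl hG h ⟨r, s, hr, hs, h1, h2, h3, h4, h5⟩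
  by_cases h6 : Fintype.card Ω ≤ 4
  · refine Or.inl fun t ht e => ?_
    rcases prime_le_four hr (by omega) with rfl | rfl <;> rcases prime_le_four hs (by omega) with rfl | rfl <;>
      rcases prime_le_four ht (by omega) with rfl | rfl <;> first | assumption | omega
  have key : ∀ (S : Set Ω) (K : Subgroup (Perm Ω)), S.ncard < Fintype.card Ω → Hall π K (fib (· ∈ S) ⊓ G) → K ≤ H →
      (∃ r s, r.Prime ∧ s.Prime ∧ r ≠ s ∧ r ∈ π ∧ s ∈ π ∧ r ≤ S.ncard ∧ s ≤ S.ncard) →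
      (∀ r, r.Prime → r ≤ S.ncard → r ∈ π) ∨ ∃ O ⊆ S, Res π S.ncard O.ncard ∧ Tri H O ∧ Tri H (S \ O) :=
    fun S K a1 a2 a3 a4 => (ih _ a1 S _ _ (by rw [← Nat.card_eq_fintype_card, Nat.card_coe_set_eq]) le_rfl
      (hall_res hG a2) a4).imp_right fun ⟨O, b1, b2⟩ => by
      have b3 : ∀ a b c : S, a ≠ b → a ≠ c → ((a ∈ O) = (b ∈ O)) → ((a ∈ O) = (c ∈ O)) →
          swap (a : Ω) b * swap (a : Ω) c ∈ H := fun a b c d1 d2 d3 d4 => by
        rw [← ofSubtype_swap_eq, ← ofSubtype_swap_eq, ← map_mul]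
        exact a3 (b2.ge ⟨mul_mem (swap_mem_blockStab d3) (swap_mem_blockStab d4), Wr.swap_swap_mem d1 d2⟩).1
      refine ⟨Subtype.val '' O, Subtype.coe_image_subset _ _, by rwa [Set.ncard_image_of_injective _ Subtype.val_injective],
        ?_, fun a d1 b d2 c d3 d4 d5 _ => b3 ⟨a, d1.1⟩ ⟨b, d2.1⟩ ⟨c, d3.1⟩ (by simpa) (by simpa) ?_ ?_⟩
      · rintro _ ⟨a, d1, rfl⟩ _ ⟨b, d2, rfl⟩ _ ⟨c, d3, rfl⟩ d4 d5 _
        exact b3 a b c (ne_of_apply_ne _ d4) (ne_of_apply_ne _ d5) (by simp [d1, d2]) (by simp [d1, d3])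
      · exact propext (iff_of_false (fun e => d1.2 ⟨_, e, rfl⟩) fun e => d2.2 ⟨_, e, rfl⟩)
      · exact propext (iff_of_false (fun e => d1.2 ⟨_, e, rfl⟩) fun e => d3.2 ⟨_, e, rfl⟩)
  suffices h' : (∀ r, r.Prime → r ≤ Fintype.card Ω → r ∈ π) ∨
      ∃ O : Set Ω, Res π (Fintype.card Ω) O.ncard ∧ H ≤ blockStab (· ∈ O) from h'.imp_right fun ⟨O, a1, a2⟩ =>
    ⟨O, a1, (h.eq_of_le (le_inf a2 h.le) inf_le_right a1.pi.inf_left).symm⟩
  by_cases ht : IsPretransitive H Ω
  · obtain ⟨x⟩ := Fintype.card_pos_iff.1 (show 0 < Fintype.card Ω by omega)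
    have a1 : ({x}ᶜ : Set Ω).ncard = Fintype.card Ω - 1 := by
      rw [Set.ncard_compl, Set.ncard_singleton, Nat.card_eq_fintype_card]
    have a2 : fib (· ∈ ({x}ᶜ : Set Ω)) = stabilizer (Perm Ω) x := Subgroup.ext fun g =>
      ⟨fun e => by simpa using mem_fib.1 e x, fun e => mem_fib.2 fun y => by
        simp [← g.injective.eq_iff (a := y), show g x = x from e]⟩
    have a3 : ∀ K : Subgroup (Perm Ω), H ≤ K → (stabilizer (Perm Ω) x).relIndex K = Fintype.card Ω := fun K e => by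
      rw [← ncard_orbit, Set.eq_univ_of_univ_subset (s := orbit K x) (orbit_eq_univ H x ▸ orbit_mono' e x), Set.ncard_univ,
        Nat.card_eq_fintype_card]
    have a4 : PiNat π (Fintype.card Ω) := a3 H le_rfl ▸ h.pi.relIndex
    by_cases e : ∃ r s, r.Prime ∧ s.Prime ∧ r ≠ s ∧ r ∈ π ∧ s ∈ π ∧ r ≤ Fintype.card Ω - 1 ∧ s ≤ Fintype.card Ω - 1
    · rcases key {x}ᶜ (stabilizer _ x ⊓ H) (by omega) ⟨a2 ▸ inf_le_inf_left _ h.le, h.pi.inf_right, by
        have b1 := relIndex_tower (inf_le_right : stabilizer _ x ⊓ H ≤ H) h.le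
        rw [← relIndex_tower (inf_le_inf_left _ h.le) inf_le_right, inf_relIndex_right, inf_relIndex_right, a3 H le_rfl,
          a3 G h.le, mul_comm] at b1
        rw [a2, ← Nat.eq_of_mul_eq_mul_right (by omega) b1]
        exact h.idx⟩ inf_le_right (a1 ▸ e) with b | ⟨O, b1, b2, b3, b4⟩
      · refine Or.inl fun t ht d => ?_
        rcases d.eq_or_lt with d | d
        · exact a4 t ht d.dvd
        · exact b t ht (by omega)
      · exact le_W_of_tri h.pi (fun d => b1 d rfl) (a1 ▸ b2) b3 b4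
    · wlog d : r < s generalizing r s
      · exact this s r hs hr h1.symm h3 h2 h5 h4 (by omega)
      obtain rfl : s = Fintype.card Ω := by_contra fun d' => e ⟨r, s, hr, hs, h1, h2, h3, by omega, by omega⟩
      exact (not_two_prime hG h hs hr h2 d (by omega) fun t a b c => by_contra fun d' =>
        e ⟨t, r, a, hr, d', b, h2, by omega, by omega⟩).elim
  obtain ⟨S, a1, a2, a3⟩ : ∃ S : Set Ω, H ≤ fib (· ∈ S) ∧ Fintype.card Ω ≤ 2 * S.ncard ∧ S.ncard < Fintype.card Ω := by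
    obtain ⟨x, hx⟩ : ∃ x, orbit H x ≠ Set.univ := by
      by_contra! e
      exact ht ⟨fun x y => (e x).ge (Set.mem_univ y)⟩
    have b1 : H ≤ fib (· ∈ orbit H x) := fun g hg => mem_fib.2 fun y => propext
      ⟨fun e => by simpa using inv_orbit x _ (inv_mem hg) _ e, inv_orbit x g hg y⟩
    have b2 := Set.ncard_lt_ncard (Set.ssubset_univ_iff.2 hx)
    have b3 := (Set.ncard_pos (s := orbit H x)).2 ⟨x, mem_orbit_self x⟩
    rw [Set.ncard_univ, Nat.card_eq_fintype_card] at b2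
    by_cases e : Fintype.card Ω ≤ 2 * (orbit H x).ncard
    · exact ⟨_, b1, e, b2⟩
    · exact ⟨(orbit H x)ᶜ, fun g hg => mem_fib.2 fun y => congrArg Not (mem_fib.1 (b1 hg) y),
        by rw [Set.ncard_compl, Nat.card_eq_fintype_card]; omega⟩
  obtain ⟨u, v, b1, b2, b3⟩ := (Set.one_lt_ncard_iff (s := S)).1 (by omega)
  have a4 := h.idx_of_le a1
  rw [relIndex_eq_index hG b3 (mem_fib.2 fun y => by rw [swap_apply_def]; split_ifs <;> simp_all), index_fib_set] at a4
  have a5 : ∀ t, t.Prime → t ∈ π → t ≤ Fintype.card Ω → t ≤ S.ncard := fun t c1 c2 c3 => by_contra fun e =>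
    a4.not_dvd' c1 c2 (c1.dvd_choose (by omega) (by omega) c3)
  have a6 : Sᶜ.ncard = Fintype.card Ω - S.ncard := by rw [Set.ncard_compl, Nat.card_eq_fintype_card]
  obtain ⟨b, hb⟩ := Nat.exists_eq_add_of_le a3.le
  rw [hb] at a4
  rcases key S H a3 (h.of_le (le_inf a1 h.le) inf_le_right) le_rfl ⟨r, s, hr, hs, h1, h2, h3, a5 r hr h2 h4, a5 s hs h3 h5⟩
    with c | ⟨O, -, c, -⟩
  · obtain ⟨c1, c2⟩ := nt c (by omega) (by omega) (by omega) a4
    refine Or.inr ⟨Sᶜ, ?_, fun g hg => mem_blockStab_of_fix fun y => congrArg Not (mem_fib.1 (a1 hg) y)⟩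
    rcases c2 with rfl | ⟨c2, rfl⟩
    · exact Or.inl ⟨hb ▸ c1, by omega, by omega, fun t d1 d2 => ⟨fun e => by have := a5 t d1 e d2; omega,
        fun e => c t d1 (by omega)⟩⟩
    · exact Or.inr ⟨by omega, fun t d1 d2 => ⟨fun e => prime_le_four d1 (c2 ▸ a5 t d1 e d2), fun e => c t d1 (by omega)⟩⟩
  refine absurd (fun t d1 d2 => ?_) (not_succ (by omega) (by omega) a4)
  rcases c with ⟨c1, -, c2, c3⟩ | ⟨⟨c1, -⟩ | ⟨c1, -⟩, c2⟩
  · obtain ⟨m, hm⟩ := c1.odd_of_ne_two (by omega)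
    rcases d1.dvd_mul.1 (show t ∣ 2 * (m + 1) by rwa [show 2 * (m + 1) = S.ncard + 1 by omega]) with d | d <;>
      have := Nat.le_of_dvd (by omega) d <;> exact (c3 t d1 (by omega)).2 (by omega)
  · have := (Nat.prime_dvd_prime_iff_eq d1 Nat.prime_two).1 (d1.dvd_of_dvd_pow (n := 3) (by rwa [c1] at d2))
    exact (c2 t d1 (by omega)).2 (Or.inl this)
  · have := (Nat.prime_dvd_prime_iff_eq d1 Nat.prime_three).1 (d1.dvd_of_dvd_pow (n := 2) (by rwa [c1] at d2))
    exact (c2 t d1 (by omega)).2 (Or.inr this)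

end H23
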