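import Cfsg.Agent.H18.Nil
import Cfsg.Agent.H10.Small
import Cfsg.Agent.H16.Jordan

/-! Orders of nilpotent permutation groups: `rr H S` (order of the group induced by `H` on `S`), `rr_bound`,
`tw n` (the `2`-part of `n !`), `nil_cases`. -/

set_option autoImplicit false
set_option linter.unusedSectionVars false

namespace H23

open Subgroup Equiv Equiv.Perm H18 MulAction

variable {Ω : Type*} [Fintype Ω] [DecidableEq Ω] {H P Q : Subgroup (Perm Ω)} {S T : Set Ω}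

/-- pointwise stabiliser -/
abbrev fx (S : Set Ω) : Subgroup (Perm Ω) := fixingSubgroup (Perm Ω) S

theorem mem_fx {g : Perm Ω} : g ∈ fx S ↔ ∀ a ∈ S, g a = a := mem_fixingSubgroup_iff _

/-- the order of the group induced on `S` -/
noncomputable abbrev rr (H : Subgroup (Perm Ω)) (S : Set Ω) : ℕ := (fx S).relIndex H

/-- `S` is `H`-invariant -/
def Inv (H : Subgroup (Perm Ω)) (S : Set Ω) : Prop := ∀ g ∈ H, ∀ a ∈ S, g a ∈ S

theorem Inv.mono (h : Inv H S) (h1 : P ≤ H) : Inv P S := fun g hg => h g (h1 hg)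

theorem Inv.diff (h : Inv H S) (h' : Inv H T) : Inv H (S \ T) := fun g hg a ha =>
  ⟨h g hg a ha.1, fun e => ha.2 (by simpa using h' _ (inv_mem hg) _ e)⟩

theorem inv_orbit (a : Ω) : Inv H (orbit H a) := fun g hg _ hb => mem_orbit_of_mem_orbit (⟨g, hg⟩ : H) hb

theorem Inv.orbit_sub (h : Inv H S) {a : Ω} (ha : a ∈ S) : orbit H a ⊆ S := by
  rintro _ ⟨g, rfl⟩; exact h g g.2 a ha

theorem orbit_mono' (h : P ≤ H) (a : Ω) : orbit P a ⊆ orbit H a := ((inv_orbit a).mono h).orbit_sub (mem_orbit_self a)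

theorem rr_union : rr H (S ∪ T) ≤ rr H S * rr H T := by
  rw [rr, fx, fixingSubgroup_union]; exact relIndex_inf_le

theorem rr_dvd (h : Inv H S) : rr H S ∣ S.ncard.factorial := by
  have : (toPermHom H (H10.invSub H S h)).ker = (fx S).subgroupOf H := by
    ext g
    simp only [MonoidHom.mem_ker, mem_subgroupOf, mem_fx, Equiv.ext_iff, Subtype.ext_iff]
    exact ⟨fun e a ha => e ⟨a, ha⟩, fun e a => e a a.2⟩
  rw [rr, relIndex, ← this, index_ker, ← Nat.card_coe_set_eq]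
  exact (card_subgroup_dvd_card _).trans (Nat.card_perm (α := S)).dvd

theorem ncard_orbit (a : Ω) : (orbit H a).ncard = (stabilizer (Perm Ω) a).relIndex H := (index_stabilizer H a).symm

theorem relIndex_sup_le {G : Type*} [Group G] [Finite G] {P Q : Subgroup G} (F : Subgroup G) (h : P ≤ C(Q))
    (hd : P ⊓ Q = ⊥) : F.relIndex (P ⊔ Q) ≤ F.relIndex P * F.relIndex Q := by
  have h1 := card_sup_of_cent (A := F ⊓ P) (B := F ⊓ Q) (cent_mono h inf_le_right inf_le_right)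
    (eq_bot_iff.2 (hd ▸ inf_le_inf inf_le_right inf_le_right))
  have h2 := card_le (A := F ⊓ P ⊔ F ⊓ Q) (B := F ⊓ (P ⊔ Q)) le_inf_sup
  refine Nat.le_of_mul_le_mul_left ?_ (card_pos' (H := F ⊓ (P ⊔ Q)))
  rw [card_mul_relIndex', card_sup_of_cent h hd, ← card_mul_relIndex' (A := F) (B := P),
    ← card_mul_relIndex' (A := F) (B := Q), mul_mul_mul_comm, ← h1]
  exact Nat.mul_le_mul_right _ h2

theorem rr_orbit (h : P ≤ C(Q)) (a : Ω) : rr P (orbit (P ⊔ Q :) a) = rr P (orbit P a) := by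
  rw [rr, rr, ← inf_relIndex_right, ← inf_relIndex_right (fx (orbit P a))]
  congr 1
  refine le_antisymm (inf_le_inf_right _ (fixingSubgroup_antitone _ _ (orbit_mono' le_sup_left a))) ?_
  rintro g ⟨h1, h2⟩
  refine ⟨mem_fx.2 ?_, h2⟩
  rintro _ ⟨⟨x, hx⟩, rfl⟩
  obtain ⟨y, hy, z, hz, rfl⟩ := (mem_sup_of_cent (cent_symm h)).1 (sup_comm P Q ▸ hx)
  exact (congrArg (· (z a)) (comm_of_cent h h2 hy)).trans (congrArg y (mem_fx.1 h1 _ ⟨⟨z, hz⟩, rfl⟩))

theorem legendre {p j m : ℕ} (hp : p.Prime) (hm : m ≠ 0) (h : p ^ j ∣ m.factorial) : (p - 1) * j < m := by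
  haveI := Fact.mk hp
  exact (Nat.mul_le_mul_left _ ((padicValNat_dvd_iff_le m.factorial_ne_zero).1 h)).trans_lt
    (sub_one_mul_padicValNat_factorial_lt_of_ne_zero p hm)

/-- table of bounds -/
def tab (m : ℕ) : ℕ := [1, 0, 0, 3, 0, 5, 9, 8, 16, 81, 32, 48, 243, 96, 405, 729].getD m 0

/-- the bound for groups whose odd part has no fixed point -/
def Bd (m x : ℕ) : Prop := (m ≤ 15 → x ≤ tab m) ∧ 3 * x ^ 2 ≤ 3 ^ m

theorem tab_mul : ∀ a ≤ 15, ∀ b ≤ 15, a + b ≤ 15 → tab a * tab b ≤ tab (a + b) := by decide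

theorem Bd.mul {a b x y z : ℕ} (h1 : Bd a x) (h2 : Bd b y) (h : z ≤ x * y) : Bd (a + b) z :=
  ⟨fun e => h.trans ((Nat.mul_le_mul (h1.1 (by omega)) (h2.1 (by omega))).trans (tab_mul a (by omega) b (by omega) e)), by
    have := Nat.mul_le_mul h1.2 h2.2
    have := Nat.pow_le_pow_left h 2
    rw [pow_add]; nlinarith⟩

theorem bd_pow {p j k : ℕ} (hp : p.Prime) (h2 : p ≠ 2) (hk : k ≠ 0) (h : (p - 1) * j < p ^ k) : Bd (p ^ k) (p ^ j) := by
  have h3 : 3 ≤ p := by have := hp.two_le; omega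
  refine ⟨fun e => ?_, ?_⟩
  · have h4 : p ≤ 15 := (Nat.le_self_pow hk p).trans e
    have h5 : k < 3 := by_contra fun d => by
      have := (Nat.pow_le_pow_left h3 3).trans (Nat.pow_le_pow_right hp.pos (not_lt.1 d))
      omega
    have h6 : j ≤ 7 := by
      have : 2 * j ≤ (p - 1) * j := Nat.mul_le_mul_right _ (by omega)
      omega
    interval_cases p <;> simp_all (config := {decide := true}) only <;> interval_cases k <;> interval_cases j <;>
      simp_all (config := {decide := true}) only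
  · have h4 : p ^ 2 ≤ 3 ^ (p - 1) := by
      clear h hp h2
      induction p, h3 using Nat.le_induction with
      | base => norm_num
      | succ p h ih => rw [show p + 1 - 1 = p - 1 + 1 by omega, pow_succ 3]; nlinarith
    rw [← pow_mul, mul_comm j, pow_mul]
    refine (Nat.mul_le_mul_left 3 (Nat.pow_le_pow_left h4 j)).trans ?_
    rw [← pow_mul, ← pow_succ']
    exact Nat.pow_le_pow_right three_pos h

theorem bd_mixed {u v m x : ℕ} (hu : 2 ≤ u) (hv : 2 ≤ v) (h : u ≠ v) (hm : u * v ≤ m) (hx : 4 * x ≤ 2 ^ (u + v)) :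
    2 * x ≤ 2 ^ m ∧ Bd m x := by
  have h1 : 2 * (u + v) ≤ m + 4 := by nlinarith
  have h2 : 6 ≤ m := by rcases h.lt_or_gt with e | e <;> nlinarith
  have h3 : x ≤ 2 ^ (m / 2) := by
    have := hx.trans (Nat.pow_le_pow_right two_pos (show u + v ≤ m / 2 + 2 by omega))
    rw [pow_add] at this; omega
  have h4 : x ^ 2 ≤ 2 ^ m := (Nat.pow_le_pow_left h3 2).trans (by
    rw [← pow_mul]; exact Nat.pow_le_pow_right two_pos (by omega))
  refine ⟨(Nat.mul_le_mul_left 2 h3).trans (by rw [← pow_succ']; exact Nat.pow_le_pow_right two_pos (by omega)),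
    fun e => h3.trans (by interval_cases m <;> decide), ?_⟩
  obtain ⟨k, rfl⟩ := Nat.exists_eq_add_of_le' h2
  have := Nat.pow_le_pow_left (show 2 ≤ 3 by omega) k
  rw [pow_add] at h4 ⊢
  omega

theorem rr_bound (m : ℕ) : ∀ (H : Subgroup (Perm Ω)) (S : Set Ω), Nil H → Inv H S → S.ncard = m → S.Nonempty →
    2 * rr H S ≤ 2 ^ m ∧ ((∀ a ∈ S, ∃ g ∈ O[{2}ᶜ](H), g a ≠ a) → Bd m (rr H S)) := by
  induction m using Nat.strong_induction_on with
  | _ m ih =>
  rintro H S hH hS rfl ⟨a, ha⟩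
  have h1 := hS.orbit_sub ha
  have h0 : ∀ K : Subgroup (Perm Ω), (orbit K a).Nonempty := fun K => ⟨a, mem_orbit_self a⟩
  rcases h1.eq_or_ssubset with rfl | h2
  swap
  · have h3 := Set.ncard_sdiff_add_ncard_of_subset h1
    have h4 := (Set.ncard_pos).2 (h0 H)
    have h5 := Set.ncard_lt_ncard h2
    obtain ⟨a1, a2⟩ := ih _ (by omega) H _ hH (hS.diff (inv_orbit a)) rfl ((Set.ncard_pos).1 (by omega))
    obtain ⟨a3, a4⟩ := ih _ h5 H _ hH (inv_orbit a) rfl (h0 H)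
    have a5 := rr_union (H := H) (S := S \ orbit H a) (T := orbit H a)
    rw [Set.sdiff_union_of_subset h1] at a5
    rw [← h3]
    refine ⟨?_, fun h => (a2 fun b hb => h b hb.1).mul (a4 fun b hb => h b (h1 hb)) a5⟩
    have := Nat.mul_le_mul a1 a3
    rw [pow_add]; nlinarith
  by_cases h2 : H ≤ fx (orbit H a)
  · refine ⟨?_, fun h => ?_⟩
    · rw [rr, relIndex_eq_one.2 h2]
      exact Nat.le_self_pow ((Set.ncard_pos).2 (h0 H)).ne' 2
    · obtain ⟨g, a1, a2⟩ := h a ha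
      exact absurd (mem_fx.1 (h2 (pcore_le a1)) a ha) a2
  obtain ⟨p, hp, h3⟩ : ∃ p, p.Prime ∧ ¬ O[{p}](H) ≤ fx (orbit H a) := by
    by_contra! h
    exact h2 (hH.le_of_pcores fun p hp _ => h p hp)
  have h4 := hH.pcore_sup (π := {p})
  have h5 : O[{p}](H) ≤ C(O[{p}ᶜ](H)) := pcore_cent_compl
  have h6 := relIndex_sup_le (fx (orbit H a)) h5 pcore_inf_compl
  have h7 : ∀ π : Set ℕ, (orbit O[π](H) a).ncard ∣ (orbit H a).ncard ∧ PiNat π (orbit O[π](H) a).ncard ∧
      (¬ O[π](H) ≤ fx (orbit H a) → 2 ≤ (orbit O[π](H) a).ncard) := fun π => by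
    refine ⟨?_, by rw [ncard_orbit]; exact pcore_pi.relIndex, fun h => by_contra fun e => h fun g hg => mem_fx.2 ?_⟩
    · have := (pcore_nml (π := π) (H := H)).relIndex_dvd' (inf_le_right : stabilizer _ a ⊓ H ≤ H)
      rwa [inf_relIndex_right, ← inf_relIndex_right, inf_assoc, inf_eq_right.2 pcore_le, inf_relIndex_right,
        ← ncard_orbit, ← ncard_orbit] at this
    · rintro _ ⟨⟨x, hx⟩, rfl⟩
      have := (Set.ncard_le_one_iff_subsingleton.1 (Nat.le_of_lt_succ (not_le.1 e)))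
        ⟨⟨_, conj_mem' pcore_nml.norm hx hg⟩, rfl⟩ (mem_orbit_self a)
      simpa [Subgroup.smul_def, Equiv.symm_apply_eq] using this
  rw [h4] at h6
  by_cases h8 : O[{p}ᶜ](H) ≤ fx (orbit H a)
  · have a1 : PiNat {p} (rr H (orbit H a)) ∧ PiNat {p} (orbit H a).ncard := by
      have : PiNat {p} (rr H (orbit H a)) := (hH.pcore_hall.idx_of_le (le_inf h8 pcore_le)).of_compl_compl.of_dvd
        (inf_relIndex_right _ _).symm.dvd
      exact ⟨this, this.of_dvd (ncard_orbit a ▸ relIndex_dvd_left fun g hg => mem_fx.1 hg a ha)⟩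
    obtain ⟨j, hj⟩ := a1.1.eq_pow relIndex_ne_zero
    obtain ⟨k, hk⟩ := a1.2.eq_pow ((Set.ncard_pos).2 (h0 H)).ne'
    have a2 := legendre hp ((Set.ncard_pos).2 (h0 H)).ne' (hj ▸ rr_dvd (inv_orbit a))
    rw [hj]
    refine ⟨?_, fun h => hk ▸ bd_pow hp ?_ ?_ (hk ▸ a2)⟩
    · refine (Nat.mul_le_mul_left 2 (Nat.pow_le_pow_left (show p ≤ 2 ^ (p - 1) by
        have := Nat.lt_two_pow_self (n := p - 1); omega) j)).trans ?_
      rw [← pow_mul, ← pow_succ']
      exact Nat.pow_le_pow_right two_pos a2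
    · rintro rfl
      obtain ⟨g, a1, a2⟩ := h a ha
      exact a2 (mem_fx.1 (h8 a1) a ha)
    · rintro rfl
      have := Nat.le_of_dvd ((Set.ncard_pos).2 (h0 H)) (h7 {p}).1
      have := (h7 {p}).2.2 h3
      rw [pow_zero] at hk
      omega
  obtain ⟨a1, a2, a3⟩ := h7 {p}
  obtain ⟨b1, b2, b3⟩ := h7 {p}ᶜ
  have c1 := a2.coprime b2
  have c2 := Nat.le_of_dvd ((Set.ncard_pos).2 (h0 H)) (c1.mul_dvd_of_dvd_of_dvd a1 b1)
  have c3 := a3 h3
  have c4 := b3 h8
  have c5 := (ih _ (by nlinarith) _ _ (hH.of_le pcore_le) (inv_orbit a) rfl (h0 O[{p}](H))).1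
  have c6 := (ih _ (by nlinarith) _ _ (hH.of_le pcore_le) (inv_orbit a) rfl (h0 O[{p}ᶜ](H))).1
  rw [← rr_orbit h5, h4] at c5
  rw [← rr_orbit (cent_symm h5), sup_comm, h4] at c6
  have := bd_mixed c3 c4 (fun e => by rw [← e, Nat.coprime_self] at c1; omega) c2 (x := rr H (orbit H a)) (by
    have := Nat.mul_le_mul c5 c6
    rw [pow_add]; nlinarith)
  exact ⟨this.1, fun _ => this.2⟩

/-- the `2`-part of `n !` -/
def tw (n : ℕ) : ℕ := 2 ^ n.factorial.factorization 2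

theorem tw_dvd (n : ℕ) : tw n ∣ n.factorial := Nat.ordProj_dvd _ _

theorem le_tw {j n : ℕ} (h : 2 ^ j ∣ n.factorial) : 2 ^ j ≤ tw n :=
  Nat.pow_le_pow_right two_pos ((Nat.prime_two.pow_dvd_iff_le_factorization n.factorial_ne_zero).1 h)

theorem tw_pos (n : ℕ) : 0 < tw n := Nat.two_pow_pos _

theorem tw_add (a b : ℕ) : tw a * tw b ≤ tw (a + b) := by
  rw [tw, tw, ← pow_add]
  exact le_tw (pow_add 2 _ _ ▸ (Nat.mul_dvd_mul (tw_dvd a) (tw_dvd b)).trans (Nat.factorial_mul_factorial_dvd_factorial_add a b))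

theorem tw_three (n : ℕ) : (n % 4 = 0 → tw (n + 3) = 2 * tw n) ∧ (n % 4 ≠ 0 → 4 * tw n ≤ tw (n + 3)) := by
  refine ⟨fun h => ?_, fun h => ?_⟩
  · obtain ⟨k, rfl⟩ : ∃ k, n = 4 * k := ⟨n / 4, by omega⟩
    have : (4 * k + 3).factorial = 2 * (4 * k).factorial * ((4 * k + 3) * (2 * k + 1) * (4 * k + 1)) := by
      simp only [Nat.factorial_succ]; ring
    rw [tw, tw, this, Nat.factorization_mul (by positivity) (by positivity), Nat.factorization_mul (by positivity)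
      (by positivity), Finsupp.add_apply, Finsupp.add_apply, Nat.prime_two.factorization_self,
      Nat.factorization_eq_zero_of_not_dvd (n := _ * _ * _) (by simp [Nat.prime_two.dvd_mul]; omega), add_zero,
      add_comm, pow_succ']
  · rw [tw, show 4 = 2 ^ 2 from rfl, ← pow_add]
    refine le_tw ?_
    rw [pow_add, show (n + 3).factorial = (n + 3) * (n + 2) * (n + 1) * n.factorial by simp only [Nat.factorial_succ]; ring]
    refine Nat.mul_dvd_mul ((ZMod.natCast_eq_zero_iff _ 4).1 ?_) (tw_dvd n)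
    have : ∀ x : ZMod 4, x ≠ 0 → (x + 3) * (x + 2) * (x + 1) = 0 := by decide
    push_cast
    exact this _ fun e => h (Nat.mod_eq_zero_of_dvd ((ZMod.natCast_eq_zero_iff _ 4).1 e))

theorem tw_small : ∀ m ≤ 23, 2 ^ (m / 2 + m / 4 + m / 8 + m / 16) ∣ m.factorial := by decide

theorem tw_big (m : ℕ) (h : 16 ≤ m) : 4 * 3 ^ m ≤ 3 * tw m ^ 2 := by
  induction m using Nat.strong_induction_on with
  | _ m ih =>
  by_cases e : m ≤ 23
  · refine le_trans ?_ (Nat.mul_le_mul_left 3 (Nat.pow_le_pow_left (le_tw (tw_small m e)) 2))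
    interval_cases m <;> decide
  obtain ⟨k, rfl⟩ := Nat.exists_eq_add_of_le' (show 8 ≤ m by omega)
  have h1 := ih k (by omega) (by omega)
  have h2 := Nat.pow_le_pow_left ((Nat.mul_le_mul_left _ (le_tw (tw_small 8 (by omega)))).trans (tw_add k 8)) 2
  rw [mul_pow] at h2
  rw [pow_add]
  omega

theorem Bd.le_tw {m x : ℕ} (h : Bd m x) (h5 : 5 ≤ m) : x ≤ tw m ∧ (m ≠ 5 → m ≠ 6 → m ≠ 9 → 2 * x ≤ tw m) := by
  by_cases e : m ≤ 15
  · have h1 := h.1 e
    have h2 := H23.le_tw (tw_small m (by omega))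
    interval_cases m <;> simp [tab] at h1 h2 ⊢ <;> omega
  have h1 := tw_big m (by omega)
  have h2 : 2 * x ≤ tw m := (Nat.pow_le_pow_iff_left two_ne_zero).1 (by have := h.2; rw [mul_pow]; omega)
  exact ⟨by omega, fun _ _ _ => h2⟩

theorem card_fx_dvd (S : Set Ω) : Nat.card (fx S) ∣ (Fintype.card Ω - S.ncard).factorial := by
  have := H16.card_fixing_dvd_factorial (G := Perm Ω) S
  rwa [Set.ncard_compl, Nat.card_eq_fintype_card (α := Ω)] at this

theorem card_le_tw (h : P ≤ fx S) (h2 : PiGrp {2} P) : Nat.card P ≤ tw (Fintype.card Ω - S.ncard) := by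
  obtain ⟨j, hj⟩ := h2.card_eq_pow
  exact hj ▸ le_tw (hj ▸ (card_dvd h).trans (card_fx_dvd S))

theorem card_le_tw_alt (h : P ≤ fx S) (h2 : PiGrp {2} P) (h3 : P ≤ alternatingGroup Ω) (h4 : S.ncard + 2 ≤ Fintype.card Ω) :
    2 * Nat.card P ≤ tw (Fintype.card Ω - S.ncard) := by
  obtain ⟨j, hj⟩ := h2.card_eq_pow
  obtain ⟨a, b, h5, h6, h7⟩ := (Set.one_lt_ncard_iff (s := Sᶜ)).1 (by rw [Set.ncard_compl, Nat.card_eq_fintype_card]; omega)
  haveI : Nontrivial Ω := ⟨a, b, h7⟩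
  have h8 := ((Nat.dvd_prime Nat.prime_two).1 (alternatingGroup.index_eq_two (α := Ω) ▸ relIndex_dvd_index_of_normal
    (alternatingGroup Ω) (fx S))).resolve_left fun e => by
      have := relIndex_eq_one.1 e (mem_fx.2 fun c hc => swap_apply_of_ne_of_ne (a := a) (b := b)
        (by rintro rfl; exact h5 hc) (by rintro rfl; exact h6 hc))
      rw [mem_alternatingGroup, sign_swap h7] at this
      exact absurd this (by decide)
  rw [hj, ← pow_succ']
  refine le_tw (Dvd.dvd.trans ?_ (card_fx_dvd S))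
  rw [← card_mul_relIndex' (A := alternatingGroup Ω), h8, pow_succ, ← hj]
  exact Nat.mul_dvd_mul_right (card_dvd (le_inf h3 h)) 2

theorem nil_cases (hH : Nil H) : PiGrp {2} H ∨ (∃ c : Perm Ω, c.IsThreeCycle ∧ ∃ K ≤ fx c.support, PiGrp {2} K ∧
    H = K ⊔ zpowers c ∧ Nat.card H = Nat.card K * 3) ∨ ∃ S : Set Ω, 5 ≤ S.ncard ∧ ∃ K ≤ fx S ⊓ H, PiGrp {2} K ∧
      ∃ x, Bd S.ncard x ∧ Nat.card H = Nat.card K * x := by
  set S := {a | ∃ g ∈ O[{2}ᶜ](H), g a ≠ a}
  have h1 : ∀ g ∈ O[{2}ᶜ](H), g ∈ fx S → g = 1 := fun g a1 a2 => Equiv.ext fun a =>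
    by_contra fun e => e (mem_fx.1 a2 a ⟨g, a1, e⟩)
  have h2 : PiGrp {2} (fx S ⊓ H :) := piGrp_of_prime_elt fun x hx hp => by_contra fun e =>
    hp.ne_one (orderOf_eq_one_iff.2 (h1 x (hH.pcore_hall.mem_of_nml pcore_nml.norm hx.2 ((piNat_prime hp).2 e)) hx.1))
  have h3 := (card_mul_relIndex' (A := fx S) (B := H)).symm
  by_cases e : O[{2}ᶜ](H) = ⊥
  · exact Or.inl (by rw [← hH.pcore_sup (π := {2}), e, sup_bot_eq]; exact pcore_pi)
  obtain ⟨g, a1, a2⟩ := exists_mem_ne_one' e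
  have h4 : S.Nonempty := by
    obtain ⟨a, ha⟩ := not_forall.1 (mt Equiv.ext a2)
    exact ⟨a, g, a1, ha⟩
  have h5 := (rr_bound _ H S hH (fun x hx a ⟨g, b1, b2⟩ => ⟨_, conj_mem pcore_nml.norm hx b1, by simpa using b2⟩) rfl
    h4).2 fun a ha => ha
  refine Or.inr (or_iff_not_imp_right.2 fun h => ?_)
  have h6 : S.ncard < 5 := not_le.1 fun d => h ⟨S, d, _, le_rfl, h2, _, h5, h3⟩
  have h7 := h5.1 (by omega)
  have h8 : 0 < rr H S := relIndex_pos
  have h9 := (Set.ncard_pos).2 h4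
  have h10 : S.ncard = 3 := by
    generalize S.ncard = m at *
    interval_cases m <;> simp [tab] at h7 ⊢ <;> omega
  have b1 := hH.pcore_hall (π := {2}) |>.card_mul_compl hH.pcore_hall
  have b2 := hH.le_pcore inf_le_right h2
  have b3 := card_le b2
  have b4 := one_lt_card e
  have b5 := (piNat_compl_iff Nat.prime_two).1 (pcore_pi (H := H))
  rw [h10, show tab 3 = 3 from rfl] at h7
  have b6 := card_pos' (H := fx S ⊓ H)
  have b7 : Nat.card O[{2}ᶜ](H) = 3 := by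
    have : Nat.card O[{2}ᶜ](H) ≤ 3 := by nlinarith
    omega
  have b8 := eq_of_card_ge b2 (by nlinarith)
  have b9 := zpowers_eq_of_prime (b7 ▸ Nat.prime_three) a1 a2
  have c1 : (g.support : Set Ω) ⊆ S := fun a ha => ⟨g, a1, mem_support.1 ha⟩
  have c2 : g.support.card = 3 := by
    have := Set.ncard_le_ncard c1
    have d1 : orderOf g = 3 := by rw [← card_zpowers', b9, b7]
    obtain ⟨n, hn⟩ := cycleType_prime_order (σ := g) (d1 ▸ Nat.prime_three)
    have d2 := g.sum_cycleType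
    rw [hn, d1, Multiset.sum_replicate, smul_eq_mul] at d2
    rw [Set.ncard_coe_finset] at this
    omega
  exact ⟨g, card_support_eq_three_iff.1 c2, _, inf_le_left.trans (fixingSubgroup_antitone _ _ c1), h2,
    by rw [b8, b9, hH.pcore_sup], by rw [b8, ← b1, b7]⟩

theorem conj_of_max {A K₁ K₂ : Subgroup (Perm Ω)} [A.Normal] {c₁ c₂ σ : Perm Ω} (hσ : σ ∈ A) (e : σ * c₁ * σ⁻¹ = c₂)
    (a1 : K₁ ≤ fx c₁.support ⊓ A) (a2 : K₂ ≤ fx c₂.support ⊓ A) (b1 : PiGrp {2} K₁) (b2 : PiGrp {2} K₂)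
    (h1 : Nat.card K₁ = Nat.card K₂) (h2 : ∀ L ≤ fx c₂.support ⊓ A, PiGrp {2} L → Nat.card L ≤ Nat.card K₂) :
    ∃ g ∈ A, K₂ ⊔ zpowers c₂ = cj g (K₁ ⊔ zpowers c₁) := by
  have h3 := sylow_of_max Nat.prime_two a2 b2 fun L d1 d2 d3 => (eq_of_card_ge d2 (h2 L d3 d1)).ge
  obtain ⟨τ, h4, h5⟩ := sylow_conj Nat.prime_two (h3.of_card (K := cj σ K₁) (le_inf (fun g hg => mem_fx.2 fun a ha => by
    have := mem_fx.1 (a1 (mem_cj.1 hg)).1 (σ⁻¹ a) (by simpa [← e, Equiv.eq_symm_apply, Equiv.symm_apply_eq] using ha)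
    simpa using this) (cj_le_of_mem (a1.trans inf_le_right) hσ)) (card_cj.trans h1)) h3
  refine ⟨τ * σ, mul_mem h4.2 hσ, ?_⟩
  rw [cj_mul, cj_sup, cj_sup, ← h5, cj_zpowers, cj_zpowers, e, (Perm.Disjoint.commute fun a =>
    (em (a ∈ c₂.support)).imp (mem_fx.1 h4.1 a) notMem_support.1).eq, mul_inv_cancel_right]

theorem card_le_tw' (h2 : PiGrp {2} P) : Nat.card P ≤ tw (Fintype.card Ω) := by
  simpa using card_le_tw (S := ∅) (fun g _ => mem_fx.2 (by simp)) h2

theorem nil_le_perm (hH : Nil H) : (∃ c : Perm Ω, c.IsThreeCycle ∧ ∃ K ≤ fx c.support, PiGrp {2} K ∧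
    H = K ⊔ zpowers c ∧ Nat.card H = Nat.card K * 3) ∨ Nat.card H ≤ tw (Fintype.card Ω) := by
  rcases nil_cases hH with h | h | ⟨S, h1, K, h2, h3, x, h4, h5⟩
  · exact Or.inr (card_le_tw' h)
  · exact Or.inl h
  · have := tw_add (Fintype.card Ω - S.ncard) S.ncard
    rw [Nat.sub_add_cancel (Nat.card_eq_fintype_card (α := Ω) ▸ Set.ncard_le_card S)] at this
    exact Or.inr (h5.trans_le ((Nat.mul_le_mul (card_le_tw (h2.trans inf_le_left) h3) (h4.le_tw h1).1).trans this))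

theorem nil_le_alt (hH : Nil H) (hA : H ≤ alternatingGroup Ω) (h2 : 2 ≤ Fintype.card Ω) (h5 : Fintype.card Ω ≠ 5)
    (h6 : Fintype.card Ω ≠ 6) (h9 : Fintype.card Ω ≠ 9) : (∃ c : Perm Ω, c.IsThreeCycle ∧ ∃ K ≤ fx c.support,
      PiGrp {2} K ∧ H = K ⊔ zpowers c ∧ Nat.card H = Nat.card K * 3) ∨ 2 * Nat.card H ≤ tw (Fintype.card Ω) ∨
        Fintype.card Ω = 7 ∧ Nat.card H ≤ 9 := by
  rcases nil_cases hH with h | h | ⟨S, h1, K, h2, h3, x, h4, h7⟩
  · exact Or.inr (Or.inl (by simpa using card_le_tw_alt (S := ∅) (fun g _ => mem_fx.2 (by simp)) h hA (by simpa using h2)))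
  · exact Or.inl h
  have a1 := tw_add (Fintype.card Ω - S.ncard) S.ncard
  have a2 : S.ncard ≤ Fintype.card Ω := Nat.card_eq_fintype_card (α := Ω) ▸ Set.ncard_le_card S
  rw [Nat.sub_add_cancel a2] at a1
  have a3 := card_le_tw (h2.trans inf_le_left) h3
  refine Or.inr ?_
  by_cases e : S.ncard + 2 ≤ Fintype.card Ω
  · have := Nat.mul_le_mul (card_le_tw_alt (h2.trans inf_le_left) h3 (h2.trans (inf_le_right.trans hA)) e) (h4.le_tw h1).1
    exact Or.inl (by rw [h7, ← mul_assoc]; exact this.trans a1)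
  by_cases e6 : S.ncard = 6
  · have := h4.1 (by omega)
    rw [show Fintype.card Ω - S.ncard = 1 by omega] at a3
    simp [e6, tab, tw] at this a3
    exact Or.inr ⟨by omega, by nlinarith⟩
  by_cases e9 : S.ncard = 9
  · have := h4.1 (by omega)
    have a4 := le_tw (tw_small 10 (by omega))
    rw [show Fintype.card Ω - S.ncard = 1 by omega] at a3
    rw [show Fintype.card Ω = 10 by omega]
    simp [e9, tab] at this
    simp [tw] at a3
    norm_num at a4
    exact Or.inl (by nlinarith)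
  have := Nat.mul_le_mul a3 ((h4.le_tw h1).2 (by omega) e6 e9)
  exact Or.inl (by rw [h7, mul_left_comm]; exact this.trans a1)

theorem card_syl_perm (P : Sylow 2 (Perm Ω)) : Nat.card P = tw (Fintype.card Ω) := by
  rw [P.card_eq_multiplicity, Nat.card_perm, Nat.card_eq_fintype_card, tw]

theorem card_syl_alt (h : 2 ≤ Fintype.card Ω) (P : Sylow 2 (alternatingGroup Ω)) :
    2 * Nat.card P = tw (Fintype.card Ω) := by
  haveI := Fintype.one_lt_card_iff_nontrivial.1 h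
  rw [P.card_eq_multiplicity, tw, ← Nat.card_eq_fintype_card, ← Nat.card_perm, ← two_mul_nat_card_alternatingGroup,
    Nat.factorization_mul two_ne_zero Nat.card_pos.ne', Finsupp.add_apply, Nat.prime_two.factorization_self, add_comm,
    pow_succ']

theorem exists_prod_three {α G : Type*} [Fintype α] [DecidableEq α] [Group G] (φ : G →* Perm α)
    (hφ : Function.Injective φ) (h : Fintype.card Ω = Fintype.card α + 3) :
    ∃ ψ : G × Multiplicative (ZMod 3) →* Perm Ω, Function.Injective ψ ∧ ∀ x, sign (ψ x) = sign (φ x.1) := by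
  let e : α ⊕ Multiplicative (ZMod 3) ≃ Ω := Fintype.equivOfCardEq (by simp [h])
  refine ⟨e.permCongrHom.toMonoidHom.comp ((sumCongrHom _ _).comp (φ.prodMap (toPermHom _ _))),
    e.permCongrHom.injective.comp (sumCongrHom_injective.comp (hφ.prodMap toPerm_injective)), fun x => ?_⟩
  have : ∀ y : Multiplicative (ZMod 3), sign (toPerm y : Perm (Multiplicative (ZMod 3))) = 1 := by decide
  simp [this]

end H23
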