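import Cfsg.Agent.H8.Cd1
import Cfsg.Agent.H8.PDeg
import Cfsg.Agent.H8.Amb
import Cfsg.Agent.H23.Thompson

/-! Interface for S4805 (exactly one nonlinear character does not vanish at `g`): the pieces `PA`, `PB`, `PG`, `PC`. -/
set_option autoImplicit false
namespace H23.Vn
open Subgroup Cfsg H5
open scoped commutatorElement
universe u

/-- the character-theoretic part -/
def PA : Prop := ∀ (G : Type u) [Group G] [Finite G] (g : G) (χ : G → ℂ), IsIrrCharacter G χ → charDegree χ ≠ 1 →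
  χ g ≠ 0 → (∀ ψ, IsIrrCharacter G ψ → charDegree ψ ≠ 1 → ψ ≠ χ → ψ g = 0) →
  g ∈ commutator G ∧ χ g = -(((commutator G).index : ℂ) / χ 1) ∧ g ∉ charKer χ ∧
    (∀ h ∈ commutator G, h ∉ charKer χ → IsConj g h) ∧ (∀ x, x ∉ commutator G → χ x = 0) ∧
    ∀ ψ, IsIrrCharacter G ψ → charDegree ψ ≠ 1 → charKer χ ≤ charKer ψ → ψ = χ

/-- the normal `p`-complement -/
def PB : Prop := ∀ (G : Type u) [Group G] [Finite G] (H K : Subgroup G) [H.Normal] [K.Normal] (p : ℕ) (g : G),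
  p.Prime → K ≤ H → (∀ h ∈ H, h ^ p ∈ K) → (∃ k, g ^ p ^ k = 1) →
  (∀ ψ, IsIrrCharacter G ψ → ¬ K ≤ charKer ψ → ψ g = 0) →
  ∃ M : Subgroup G, M.Normal ∧ M ≤ K ∧ ¬ p ∣ Nat.card M ∧ ∀ h ∈ H, ∃ k, h ^ p ^ k ∈ M

/-- the structure of `G' / K` -/
def PG : Prop := ∀ (G : Type u) [Group G] [Finite G] (K : Subgroup G) [K.Normal] (g : G), K ≤ commutator G →
  g ∈ commutator G → g ∉ K → (∀ h ∈ commutator G, h ∉ K → IsConj g h) →
  (∀ w, (∀ x, ⁅w, x⁆ ∈ K) → w ∈ commutator G) →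
  ∃ p : ℕ, p.Prime ∧ (∀ h ∈ commutator G, h ^ p ∈ K) ∧ (∀ h ∈ commutator G, h ∉ K → ∃ k, h ^ p ^ k = 1) ∧
    (p ≠ 2 → ∃ (t : G) (k : ℕ), t ^ 2 ^ k = 1 ∧ t * t ∈ commutator G ∧ (∀ h ∈ commutator G, t * h * t⁻¹ * h ∈ K) ∧
      ∀ x ∈ commutator G, x ∉ K → ∀ y ∈ K, ∃ u ∈ commutator G, u * x * u⁻¹ = x * y)

/-- Camina `p`-groups with an involutory automorphism inverting the quotient -/
def PC : Prop := ∀ (P : Type u) [Group P] [Finite P] (p : ℕ) (A : Subgroup P) [A.Normal] (τ : P →* P), p.Prime → p ≠ 2 →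
  IsPGroup p P → A ≠ ⊤ → (∀ x, τ (τ x) = x) → (∀ x, τ x * x ∈ A) → (∀ x ∉ A, ∀ y ∈ A, IsConj x (x * y)) →
  ∀ a ∈ A, τ a = a

end H23.Vn
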