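import Cfsg.Agent.H23.FSimp

/-! Sylow `p`-subgroups of symmetric groups through the wreath product `C_p ≀ S_m`: monomial permutations
`mon σ a b`, `T A`, the Sylow recursion `exists_good`, block preservation `norm_mon`, conjugacy `conj_alt`. -/

set_option autoImplicit false
set_option linter.unusedSectionVars false

namespace H23.Wr

open Subgroup Equiv Equiv.Perm Sum H20

variable {p : ℕ} [hp : Fact p.Prime] {α β : Type*}

/-- `(x, z) ↦ (σ x, a x * z + b x)` -/
def mon (β : Type*) (σ : Perm α) (a : α → (ZMod p)ˣ) (b : α → ZMod p) : Perm (α × ZMod p ⊕ β) :=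
  (Equiv.prodShear σ fun x => (a x).mulLeft.trans (Equiv.addRight (b x))).sumCongr (Equiv.refl β)

variable {σ τ : Perm α} {a a' : α → (ZMod p)ˣ} {b b' v w : α → ZMod p} {x y : α} {g h : Perm (α × ZMod p ⊕ β)}

@[simp] theorem mon_inl (x : α) (z : ZMod p) : mon β σ a b (inl (x, z)) = inl (σ x, a x * z + b x) := rfl
@[simp] theorem mon_inr (c : β) : mon β σ a b (inr c) = inr c := rfl

theorem mon_mul : mon β σ a b * mon β τ a' b' = mon β (σ * τ) (fun x => a (τ x) * a' x) fun x => a (τ x) * b' x + b (τ x) := by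
  ext (⟨x, z⟩ | c)
  · simp [mul_add, mul_assoc, add_assoc]
  · rfl

theorem mon_one : mon β (1 : Perm α) (1 : α → (ZMod p)ˣ) 0 = 1 := by
  ext (⟨x, z⟩ | c) <;> simp

theorem mon_inv : (mon β σ a b)⁻¹ = mon β σ⁻¹ (fun x => (a (σ⁻¹ x))⁻¹) fun x => -((a (σ⁻¹ x))⁻¹ * b (σ⁻¹ x)) := by
  rw [eq_comm, eq_inv_iff_mul_eq_one]
  ext (⟨x, z⟩ | c)
  · simp only [Perm.mul_apply, mon_inl, Perm.one_apply, Perm.inv_def, symm_apply_apply, mul_add, Units.inv_mul_cancel_left,
      add_neg_cancel_right]
  · rfl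

theorem mon_inj (h : mon β σ a b = mon β τ a' b') : σ = τ ∧ a = a' ∧ b = b' := by
  have h1 : ∀ x z, σ x = τ x ∧ a x * z + b x = a' x * z + b' x := fun x z => by
    simpa using DFunLike.congr_fun h (inl (x, z))
  have h2 : ∀ x, b x = b' x := fun x => by simpa using (h1 x 0).2
  exact ⟨Equiv.ext fun x => (h1 x 0).1, funext fun x => Units.ext (by simpa [h2] using (h1 x 1).2), funext h2⟩

variable (p β) in
/-- the block permutations -/
def δ : Perm α →* Perm (α × ZMod p ⊕ β) where
  toFun σ := mon β σ 1 0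
  map_one' := mon_one
  map_mul' σ τ := by rw [mon_mul]; congr 1 <;> funext <;> simp

variable (β) in
/-- the base group -/
def el (v : α → ZMod p) : Perm (α × ZMod p ⊕ β) := mon β 1 1 v

variable (β) in
/-- the torus -/
def D : (α → (ZMod p)ˣ) →* Perm (α × ZMod p ⊕ β) where
  toFun a := mon β 1 a 0
  map_one' := mon_one
  map_mul' σ τ := by rw [mon_mul]; congr 1; funext; simp

@[simp] theorem δ_inl (x : α) (z : ZMod p) : δ p β σ (inl (x, z)) = inl (σ x, z) := by simp [δ]
@[simp] theorem δ_inr (c : β) : δ p β σ (inr c) = inr c := rfl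
@[simp] theorem el_inl (x : α) (z : ZMod p) : el β v (inl (x, z)) = inl (x, z + v x) := by simp [el]
@[simp] theorem el_inr (c : β) : el β v (inr c) = inr c := rfl
@[simp] theorem D_inl (x : α) (z : ZMod p) : D β a (inl (x, z)) = inl (x, a x * z) := by simp [D]
@[simp] theorem D_inr (c : β) : D β a (inr c) = inr c := rfl

theorem el_add : el β (v + w) = el β v * el β w := by
  ext (⟨x, z⟩ | c) <;> simp [add_assoc, add_comm (v _)]
theorem el_zero : el β (0 : α → ZMod p) = 1 := mon_one
theorem el_neg : el β (-v) = (el β v)⁻¹ := by rw [eq_inv_iff_mul_eq_one, ← el_add, neg_add_cancel, el_zero]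
theorem el_sub : el β (v - w) = el β v * (el β w)⁻¹ := by rw [sub_eq_add_neg, el_add, el_neg]
theorem el_pow (n : ℕ) : el β v ^ n = el β (n • v) := by
  induction n with
  | zero => simp [el_zero]
  | succ n ih => rw [pow_succ, ih, succ_nsmul, el_add]
theorem el_pow_p : el β v ^ p = 1 := by
  rw [el_pow, ← el_zero]; congr 1; funext x; simp
theorem el_inj (h : el β v = el β w) : v = w := (mon_inj h).2.2
theorem el_comm : el β v * el β w = el β w * el β v := by rw [← el_add, ← el_add, add_comm]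

theorem el_sum_mem {H : Subgroup (Perm (α × ZMod p ⊕ β))} {ι : Type*} (s : Finset ι) {f : ι → α → ZMod p}
    (h : ∀ i ∈ s, el β (f i) ∈ H) : el β (∑ i ∈ s, f i) ∈ H :=
  Finset.sum_induction f (fun v => el β v ∈ H) (fun _ _ h1 h2 => by rw [el_add]; exact mul_mem h1 h2)
    (by rw [el_zero]; exact one_mem _) h

theorem mon_eq : mon β σ a b = δ p β σ * el β b * D β a := by
  ext (⟨x, z⟩ | c) <;> simp

theorem mon_conj_el : mon β σ a b * el β v * (mon β σ a b)⁻¹ = el β fun y => (a (σ⁻¹ y) : ZMod p) * v (σ⁻¹ y) := by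
  rw [mul_inv_eq_iff_eq_mul]
  ext (⟨x, z⟩ | c)
  · simp [mul_add, add_right_comm]
  · rfl

theorem δ_conj_el : δ p β σ * el β v * (δ p β σ)⁻¹ = el β fun y => v (σ⁻¹ y) := by
  rw [mul_inv_eq_iff_eq_mul]
  ext (⟨x, z⟩ | c) <;> simp

theorem δ_conj_D : δ p β σ * D β a * (δ p β σ)⁻¹ = D β fun y => a (σ⁻¹ y) := by
  rw [mul_inv_eq_iff_eq_mul]
  ext (⟨x, z⟩ | c) <;> simp

variable (p β) in
/-- the wreath product `C_p ≀ A` -/
def T (A : Subgroup (Perm α)) : Subgroup (Perm (α × ZMod p ⊕ β)) where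
  carrier := {g | ∃ σ ∈ A, ∃ v, g = mon β σ 1 v}
  one_mem' := ⟨1, one_mem _, 0, mon_one.symm⟩
  mul_mem' := by
    rintro _ _ ⟨σ, h1, v, rfl⟩ ⟨τ, h2, w, rfl⟩
    exact ⟨σ * τ, mul_mem h1 h2, _, by rw [mon_mul]; congr 1; funext; simp⟩
  inv_mem' := by
    rintro _ ⟨σ, h1, v, rfl⟩
    exact ⟨σ⁻¹, inv_mem h1, _, by rw [mon_inv]; congr 1⟩

variable {A B : Subgroup (Perm α)}

theorem mon_one_eq : mon β σ 1 v = δ p β σ * el β v := by rw [mon_eq, map_one, mul_one]
theorem el_mem : el β v ∈ T p β A := ⟨1, one_mem _, v, rfl⟩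
theorem δ_mem (h : σ ∈ A) : δ p β σ ∈ T p β A := ⟨σ, h, 0, rfl⟩
theorem T_mono (h : A ≤ B) : T p β A ≤ T p β B := fun _ ⟨σ, h1, h2⟩ => ⟨σ, h h1, h2⟩
theorem mem_T_bot : g ∈ T p β ⊥ ↔ ∃ v, g = el β v :=
  ⟨fun ⟨_, h, v, e⟩ => ⟨v, by rw [e, mem_bot.1 h, el]⟩, fun ⟨_, e⟩ => e ▸ el_mem⟩
theorem mem_of_mon_mem (h : mon β σ a b ∈ T p β A) : σ ∈ A := by
  obtain ⟨τ, h1, v, e⟩ := h
  rwa [(mon_inj e).1]

theorem card_T [Finite α] : Nat.card (T p β A) = Nat.card A * p ^ Nat.card α := by
  rw [← Nat.card_congr (Equiv.ofBijective (fun q : A × (α → ZMod p) => (⟨mon β q.1 1 q.2, q.1, q.1.2, q.2, rfl⟩ : T p β A))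
    ⟨fun q r h => Prod.ext (Subtype.ext (mon_inj (congrArg Subtype.val h)).1) (mon_inj (congrArg Subtype.val h)).2.2,
      fun ⟨_, σ, h, v, rfl⟩ => ⟨(⟨σ, h⟩, v), rfl⟩⟩), Nat.card_prod, Nat.card_fun, Nat.card_zmod]

theorem ext_inl [Finite α] [Subsingleton β] (e : ∀ q, g (inl q) = h (inl q)) (hh : ∀ c, h (inr c) = inr c) : g = h := by
  ext (q | c)
  · exact e q
  · rw [hh]
    rcases h1 : g (inr c) with q | c'
    · rcases h2 : h⁻¹ (inl q) with r | c'
      · have : g (inl r) = g (inr c) := by rw [e, h1, ← h2]; simp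
        simpa using g.injective this
      · have := congrArg h h2
        simp [hh] at this
    · rw [Subsingleton.elim c c']

theorem blk {v' : α → ZMod p} (h1 : v x = 1) (h2 : v' x = 1) (h3 : ∀ y ≠ x, v y = 0 ∨ v' y = 0)
    (hu : g * el β v * g⁻¹ ∈ T p β ⊤) (hu' : g * el β v' * g⁻¹ ∈ T p β ⊤) :
    ∃ y, ∃ a : (ZMod p)ˣ, ∃ b, ∀ z, g (inl (x, z)) = inl (y, a * z + b) := by
  obtain ⟨σ, -, w, e⟩ := hu
  obtain ⟨σ', -, w', e'⟩ := hu'
  have e1 : ∀ q, mon β σ 1 w (g q) = g (el β v q) := fun q => by simp [← e]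
  have e2 : ∀ q, mon β σ' 1 w' (g q) = g (el β v' q) := fun q => by simp [← e']
  have key : ∀ z, ∃ y t, g (inl (x, z)) = inl (y, t) ∧ σ y = y := fun z => by
    rcases h : g (inl (x, z)) with ⟨y, t⟩ | c
    · refine ⟨y, t, rfl, by_contra fun hn => ?_⟩
      have h4 : σ' y = σ y := by
        have := (e2 (inl (x, z))).trans (by simp [h1, h2] : _ = g (el β v (inl (x, z))))
        rw [← e1, h] at this
        simpa using congrArg (Sum.elim Prod.fst fun _ => y) this
      have h5 : ∀ s, ∃ r, g (inl (x, r)) = inl (y, s) := fun s => by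
        obtain ⟨q, hq⟩ := g.surjective (inl (y, s))
        have f1 := e1 q
        have f2 := e2 q
        rcases q with ⟨x', r⟩ | c
        · by_cases hx : x' = x
          · exact ⟨r, hx ▸ hq⟩
          · rcases h3 x' hx with h | h
            · simp [h, hq, hn] at f1
            · simp [h, hq, h4, hn] at f2
        · simp [hq, hn] at f1
      choose r hr using h5
      obtain ⟨s, hs⟩ := Finite.injective_iff_surjective.1 (show Function.Injective r from fun s s' e => by
        have := (hr s).symm.trans (e ▸ hr s')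
        simpa only [inl.injEq, Prod.mk.injEq, true_and] using this) (z + 1)
      have := e1 (inl (x, z))
      rw [h, el_inl, h1, ← hs, hr] at this
      simp [hn] at this
    · have := e1 (inl (x, z))
      rw [h, mon_inr, ← h] at this
      simp [h1] at this
  obtain ⟨y, t, h4, h5⟩ := key 0
  have h6 : ∀ k : ℕ, g (inl (x, k)) = inl (y, w y * k + t) := fun k => by
    induction k with
    | zero => simpa using h4
    | succ k ih =>
      have := e1 (inl (x, k))
      rw [ih, el_inl, h1] at this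
      rw [Nat.cast_succ, ← this]
      simp [h5, mul_add, add_right_comm]
  refine ⟨y, Units.mk0 (w y) fun h => ?_, t, fun z => ?_⟩
  · simpa [h, ← h4] using h6 1
  · obtain ⟨k, rfl⟩ := ZMod.natCast_zmod_surjective z
    exact h6 k

theorem norm_mon [Finite α] [Subsingleton β] (h : ∀ x, ∃ v v' : α → ZMod p, v x = 1 ∧ v' x = 1 ∧
    (∀ y ≠ x, v y = 0 ∨ v' y = 0) ∧ g * el β v * g⁻¹ ∈ T p β ⊤ ∧ g * el β v' * g⁻¹ ∈ T p β ⊤) :
    ∃ σ a b, g = mon β σ a b := by
  have := fun x => (h x).elim fun _ ⟨_, h1, h2, h3, h4, h5⟩ => blk h1 h2 h3 h4 h5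
  choose s a b e using this
  refine ⟨Equiv.ofBijective s (Finite.injective_iff_bijective.1 fun x x' h => ?_), a, b,
    ext_inl (fun q => e q.1 q.2) fun _ => rfl⟩
  have : g (inl (x, 0)) = g (inl (x', ((a x')⁻¹ : (ZMod p)ˣ) * (b x - b x'))) := by
    rw [e, e, h, Units.mul_inv_cancel_left, mul_zero, zero_add, sub_add_cancel]
  exact congrArg (Sum.elim Prod.fst fun _ => x) (g.injective this)

theorem selfnorm [Finite α] [Subsingleton β] (h2 : p = 2) (hA : normalizer (A : Set (Perm α)) ≤ A)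
    (h : ∃ σ a b, g = mon β σ a b) (h' : ∀ τ ∈ A, g * δ p β τ * g⁻¹ ∈ T p β A) : g ∈ T p β A := by
  obtain ⟨σ, a, b, rfl⟩ := h
  subst h2
  exact ⟨σ, hA (mem_normalizer_of_conj fun τ hτ => mem_of_mon_mem (by
    have := h' τ hτ
    rwa [mon_inv, δ, MonoidHom.coe_mk, OneHom.coe_mk, mon_mul, mon_mul] at this)), b, by rw [Subsingleton.elim a 1]⟩

variable (p) in
/-- Sylow, generated by its elements of order `p`, and self-normalizing if `p = 2` -/
structure Good {G : Type*} [Group G] (A : Subgroup G) : Prop where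
  card : Nat.card A = p ^ (Nat.card G).factorization p
  gen : A ≤ closure {x | x ∈ A ∧ x ^ p = 1}
  norm : p = 2 → normalizer (A : Set G) ≤ A

theorem Good.map {G G' : Type*} [Group G] [Group G'] {A : Subgroup G} (h : Good p A) (e : G ≃* G') :
    Good p (A.map e.toMonoidHom) where
  card := by rw [card_map_of_injective e.injective, h.card, Nat.card_congr e.toEquiv]
  gen := map_le_iff_le_comap.2 (h.gen.trans ((closure_le _).2 fun x hx => subset_closure
    ⟨mem_map_of_mem _ hx.1, by rw [← map_pow, hx.2, map_one]⟩))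
  norm := fun h2 => by rw [← map_equiv_normalizer_eq]; exact map_mono (h.norm h2)

theorem Good.syl {G : Type*} [Group G] [Finite G] {A : Subgroup G} (h : Good p A) : Syl p A ⊤ :=
  syl_top (Sylow.ofCard A h.card)

theorem Good.T [Fintype α] [DecidableEq α] [Fintype β] [DecidableEq β] (hβ : Fintype.card β < p) (h : Good p A) :
    Good p (T p β A) where
  card := by
    rw [card_T, h.card, ← pow_add, Nat.card_perm, Nat.card_perm, Nat.factorization_def _ hp.out,
      Nat.factorization_def _ hp.out, Nat.card_sum, Nat.card_prod, Nat.card_zmod, mul_comm,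
      padicValNat_factorial_mul_add _ (by simpa using hβ), padicValNat_factorial_mul]
  gen := by
    rintro _ ⟨σ, hσ, v, rfl⟩
    rw [mon_one_eq]
    refine mul_mem (mem_comap.1 (h.gen.trans ((closure_le _).2 fun x hx => ?_) hσ))
      (Subgroup.subset_closure ⟨el_mem, el_pow_p⟩)
    exact Subgroup.subset_closure ⟨δ_mem hx.1, by rw [← map_pow, hx.2, map_one]⟩
  norm := fun h2 g hg => by
    haveI : Subsingleton β := Fintype.card_le_one_iff_subsingleton.1 (by omega)
    exact selfnorm h2 (h.norm h2) (norm_mon fun x => ⟨Pi.single x 1, Pi.single x 1, by simp, by simp,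
      fun y hy => by simp [hy], T_mono le_top (conj_mem_of_mem_normalizer hg el_mem),
      T_mono le_top (conj_mem_of_mem_normalizer hg el_mem)⟩) fun τ hτ => conj_mem_of_mem_normalizer hg (δ_mem hτ)

theorem card_model (n : ℕ) : Fintype.card (Fin (n / p) × ZMod p ⊕ Fin (n % p)) = n := by
  simp [Nat.div_add_mod']

variable (p) in
theorem exists_good (n : ℕ) : ∀ (α : Type) [Fintype α] [DecidableEq α], Fintype.card α = n →
    ∃ A : Subgroup (Perm α), Good p A := by
  induction n using Nat.strong_induction_on with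
  | _ n ih =>
  intro α _ _ hn
  rcases n.eq_zero_or_pos with rfl | h0
  · haveI := Fintype.card_eq_zero_iff.1 hn
    exact ⟨⊥, by simp, bot_le, fun _ g _ => Subsingleton.elim g 1 ▸ one_mem _⟩
  · obtain ⟨A, hA⟩ := ih _ (Nat.div_lt_self h0 hp.out.one_lt) (Fin (n / p)) (by simp)
    exact ⟨_, (hA.T (β := Fin (n % p)) (by simpa using Nat.mod_lt _ hp.out.pos)).map
      (Fintype.equivOfCardEq ((card_model n).trans hn.symm)).permCongrHom⟩

variable [Fintype α] [DecidableEq α] [Fintype β] [DecidableEq β]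

theorem sign_δ : sign (δ p β σ) = sign σ ^ p := by
  have : δ p β σ = (prodCongrLeft fun _ : ZMod p => σ).sumCongr 1 := by ext (⟨x, z⟩ | c) <;> simp
  rw [this, sign_sumCongr, sign_prodCongrLeft]; simp

theorem sign_of_pElt {γ : Type*} [Fintype γ] [DecidableEq γ] (h2 : p ≠ 2) {σ : Perm γ} (h : PElt p σ) : sign σ = 1 := by
  obtain ⟨k, hk⟩ := h
  have := congrArg sign hk
  rcases Int.units_eq_one_or (sign σ) with e | e
  · exact e
  · rw [map_pow, e, ((hp.out.odd_of_ne_two h2).pow).neg_one_pow, map_one] at this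
    exact absurd this (by decide)

theorem sign_δ_of (h : PElt p σ) : sign (δ p β σ) = 1 := by
  rw [sign_δ]
  by_cases h2 : p = 2
  · subst h2; exact Int.units_sq _
  · rw [sign_of_pElt h2 h, one_pow]

theorem sign_el : sign (el β v) = ∏ x, sign (Equiv.addRight (v x)) := by
  have : el β v = (prodCongrRight fun x => Equiv.addRight (v x)).sumCongr 1 := by ext (⟨x, z⟩ | c) <;> simp
  rw [this, sign_sumCongr, sign_prodCongrRight]; simp

theorem sign_el_single (c : ZMod p) : sign (el β (Pi.single x c)) = sign (Equiv.addRight c) := by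
  rw [sign_el, Finset.prod_eq_single x (fun y _ h => by simp [h]) (by simp)]; simp

theorem sign_add_two : sign (Equiv.addRight (1 : ZMod 2)) = -1 := by decide

theorem card_support_el : (el β v).support.card = (Finset.univ.filter (v · ≠ 0)).card * p := by
  have : (el β v).support = ((Finset.univ.filter (v · ≠ 0)) ×ˢ Finset.univ).map Function.Embedding.inl := by
    ext (⟨x, z⟩ | c) <;> simp
  rw [this, Finset.card_map, Finset.card_product, Finset.card_univ, ZMod.card]

theorem isConj_of_support {γ : Type*} [Fintype γ] [DecidableEq γ] {g h : Perm γ} (h1 : g ^ p = 1) (h2 : h ^ p = 1)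
    (e : g.support.card = h.support.card) : IsConj g h := by
  rw [← sum_cycleType, ← sum_cycleType, cycleType_of_pow_prime_eq_one h1, cycleType_of_pow_prime_eq_one h2,
    Multiset.sum_replicate, Multiset.sum_replicate, smul_eq_mul, smul_eq_mul] at e
  rw [isConj_iff_cycleType_eq, cycleType_of_pow_prime_eq_one h1, cycleType_of_pow_prime_eq_one h2,
    Nat.eq_of_mul_eq_mul_right hp.out.pos e]

theorem exists_ind (hβ : Fintype.card β < p) (h1 : g ^ p = 1) :
    ∃ s : Finset α, g.support.card = s.card * p := by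
  have e := sum_cycleType g
  rw [cycleType_of_pow_prime_eq_one h1, Multiset.sum_replicate, smul_eq_mul] at e
  have := g.support.card_le_univ
  rw [Fintype.card_sum, Fintype.card_prod, ZMod.card, ← e] at this
  obtain ⟨s, -, hs⟩ := Finset.exists_subset_card_eq (s := (Finset.univ : Finset α)) (n := g.cycleType.card)
    (Nat.le_of_lt_succ (Nat.lt_of_mul_lt_mul_right (a := p) (by rw [Finset.card_univ]; nlinarith)))
  exact ⟨s, by rw [hs, e]⟩

/-- the indicator function -/
def ind (p : ℕ) (s : Finset α) : α → ZMod p := fun x => if x ∈ s then 1 else 0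

theorem card_support_ind (s : Finset α) : (el β (ind p s)).support.card = s.card * p := by
  rw [card_support_el]; congr 2; ext; simp [ind]

theorem conj_alt (hα : 3 ≤ Fintype.card α) (hβ : Fintype.card β < p) (h1 : g ^ p = 1) (h2 : h ^ p = 1)
    (e : g.support.card = h.support.card) : ∃ k ∈ alternatingGroup _, k * g * k⁻¹ = h := by
  obtain ⟨s, hs⟩ := exists_ind hβ h1
  obtain ⟨c, h3, h4⟩ : ∃ c, sign c = -1 ∧ c * el β (ind p s) * c⁻¹ = el β (ind p s) := by
    by_cases hp2 : p = 2
    · obtain ⟨x⟩ := Fintype.card_pos_iff.1 (by omega : 0 < Fintype.card α)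
      exact ⟨el β (Pi.single x 1), by rw [sign_el_single]; subst hp2; exact sign_add_two, by rw [el_comm, mul_inv_cancel_right]⟩
    · obtain ⟨x, y, h5, h6⟩ := Fintype.exists_ne_map_eq_of_card_lt (fun x => decide (x ∈ s)) (by simp; omega)
      refine ⟨δ p β (swap x y), by rw [sign_δ, sign_swap h5, (hp.out.odd_of_ne_two hp2).neg_one_pow], ?_⟩
      rw [δ_conj_el]; congr 1; funext z
      have : x ∈ s ↔ y ∈ s := by simpa using h6
      rw [swap_inv, swap_apply_def]; split_ifs <;> simp_all [ind]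
  obtain ⟨u, hu⟩ := isConj_iff.1 (isConj_of_support h1 el_pow_p (hs.trans (card_support_ind s).symm))
  obtain ⟨u', hu'⟩ := isConj_iff.1 (isConj_of_support el_pow_p h2 ((card_support_ind s).trans (hs.symm.trans e)))
  rcases Int.units_eq_one_or (sign (u' * u)) with h5 | h5
  · exact ⟨u' * u, h5, by rw [← hu', ← hu]; group⟩
  · refine ⟨u' * c * u, ?_, by rw [← hu', ← h4, ← hu]; group⟩
    rw [mem_alternatingGroup, map_mul, map_mul, mul_right_comm, ← map_mul, h5, h3]; simp

end H23.Wr
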