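import Cfsg.Agent.H23.Wr

/-! Sylow subgroups of alternating groups: self-normalization for `p = 2` (`selfnorm_alt`), strongly closed
subgroups (`scl`), and simplicity of the fusion system (`simple_alt`). -/

set_option autoImplicit false
set_option linter.unusedSectionVars false

namespace H23.Wr

open Subgroup Equiv Equiv.Perm Sum H20 H23.FS

variable {p : ℕ} [hp : Fact p.Prime] {α β : Type*} [Fintype α] [DecidableEq α] [Fintype β] [DecidableEq β]
  {σ τ : Perm α} {a : α → (ZMod p)ˣ} {b v w : α → ZMod p} {x y : α} {g h : Perm (α × ZMod p ⊕ β)}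
  {A : Subgroup (Perm α)}

/-- `Pi.single` without dependent types -/
abbrev sg (x : α) (c : ZMod p) : α → ZMod p := Pi.single x c

theorem zmod_two_cases : ∀ c : ZMod 2, c = 0 ∨ c = 1 := by decide

theorem exists_third (hα : 3 ≤ Fintype.card α) (x y : α) : ∃ z, z ≠ x ∧ z ≠ y := by
  obtain ⟨z, -, hz⟩ := Finset.exists_mem_notMem_of_card_lt_card (s := {x, y}) (t := Finset.univ)
    (Finset.card_le_two.trans_lt hα)
  exact ⟨z, by simpa using hz⟩

theorem el_pair_mem (c : ZMod p) : el β (sg x c - sg y c) ∈ alternatingGroup _ := by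
  rw [mem_alternatingGroup, el_sub, map_mul, map_inv, sign_el_single, sign_el_single, mul_inv_cancel]

theorem norm_mon_alt [Subsingleton β] (hα : 3 ≤ Fintype.card α)
    (hg : g ∈ normalizer ((T p β A ⊓ alternatingGroup _ : Subgroup _) : Set (Perm (α × ZMod p ⊕ β)))) :
    ∃ σ a b, g = mon β σ a b := norm_mon fun x => by
  obtain ⟨y, h1, -⟩ := exists_third hα x x
  obtain ⟨z, h2, h3⟩ := exists_third hα x y
  refine ⟨sg x 1 - sg y 1, sg x 1 - sg z 1, by simp [h1.symm], by simp [h2.symm],
    fun w hw => ?_, T_mono le_top (conj_mem_of_mem_normalizer hg ⟨el_mem, el_pair_mem 1⟩).1,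
    T_mono le_top (conj_mem_of_mem_normalizer hg ⟨el_mem, el_pair_mem 1⟩).1⟩
  by_cases e : w = y
  · right; simp [e, h1, h3.symm]
  · left; simp [e, hw]

theorem selfnorm_alt (h2 : p = 2) (hα : 3 ≤ Fintype.card α) (hβ : Fintype.card β < p) (hA : Good p A)
    (hg : g ∈ normalizer ((T p β A ⊓ alternatingGroup _ : Subgroup _) : Set (Perm (α × ZMod p ⊕ β)))) :
    g ∈ T p β A := by
  haveI : Subsingleton β := Fintype.card_le_one_iff_subsingleton.1 (by omega)
  exact selfnorm h2 (hA.norm h2) (norm_mon_alt hα hg) fun τ hτ => (conj_mem_of_mem_normalizer hg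
    ⟨δ_mem hτ, sign_δ_of (pElt_of_mem hA.syl.pgroup hτ)⟩).1

theorem syl_alt (hβ : Fintype.card β < p) (hA : Good p A) :
    Syl p (T p β A ⊓ alternatingGroup _) (alternatingGroup (α × ZMod p ⊕ β)) :=
  (hA.T hβ).syl.inf_of_le le_top (by rw [normalizer_eq_top])

theorem ne_bot_alt (hα : 3 ≤ Fintype.card α) : T p β A ⊓ alternatingGroup _ ≠ ⊥ := fun h => by
  obtain ⟨x⟩ := Fintype.card_pos_iff.1 (by omega : 0 < Fintype.card α)
  obtain ⟨y, h1, -⟩ := exists_third hα x x
  have := mem_bot.1 (h.le ⟨el_mem, el_pair_mem (x := x) (y := y) 1⟩)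
  simpa [h1.symm] using congrFun (el_inj (this.trans el_zero.symm)) x

theorem scl (hα : 3 ≤ Fintype.card α) (hβ : Fintype.card β < p) (hA : Good p A) (X : Subgroup (Perm (α × ZMod p ⊕ β)))
    (hX : SCl (alternatingGroup _) (T p β A ⊓ alternatingGroup _) X) (h0 : X ≠ ⊥) :
    T p β A ⊓ alternatingGroup _ ≤ X := by
  have P : ∀ t ∈ X, t ^ p = 1 → ∀ y ∈ T p β A, y ^ p = 1 → t.support.card = y.support.card → y ∈ X :=
    fun t ht h1 y hy h2 e => by
      obtain ⟨k, hk, rfl⟩ := conj_alt hα hβ h1 h2 e
      exact hX.2 t ht k hk ⟨hy, Normal.conj_mem inferInstance _ (hX.1 ht).2 k⟩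
  obtain ⟨s, x, hx, hs⟩ : ∃ (s : Finset α) (x : α), x ∈ s ∧ el β (ind p s) ∈ X := by
    obtain ⟨k, hk⟩ := IsPGroup.iff_card.1 ((syl_alt hβ hA).pgroup.to_le hX.1)
    obtain ⟨⟨t, ht⟩, e⟩ := exists_prime_orderOf_dvd_card' (G := X) p (hk ▸ dvd_pow_self p (by
      rintro rfl; exact h0 (card_eq_one.1 hk)))
    rw [orderOf_mk] at e
    have h1 : t ^ p = 1 := orderOf_dvd_iff_pow_eq_one.1 e.dvd
    obtain ⟨s, hs⟩ := exists_ind hβ h1
    obtain ⟨x, hx⟩ : s.Nonempty := Finset.card_pos.1 (Nat.pos_of_ne_zero fun h => hp.out.ne_one (by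
      rw [h, zero_mul, Finset.card_eq_zero, support_eq_empty_iff] at hs; rw [← e, hs, orderOf_one]))
    exact ⟨s, x, hx, P t ht h1 _ el_mem el_pow_p (hs.trans (card_support_ind s).symm)⟩
  have hE : ∀ w, el β w ∈ alternatingGroup _ → el β w ∈ X := by
    by_cases h2 : p = 2
    · subst h2
      have h3 : ∀ x y : α, x ≠ y → (el β (sg x (1 : ZMod 2) - sg y 1)).support.card = 2 * 2 := fun x y h => by
        rw [card_support_el]; congr 1; refine Eq.trans (congrArg _ ?_) (Finset.card_pair h); ext z
        by_cases e : z = x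
        · simp [e, h]
        · by_cases e' : z = y <;> simp [e, e', h.symm]
      obtain ⟨x, y, h4, h5⟩ : ∃ x y : α, x ≠ y ∧ el β (sg x (1 : ZMod 2) - sg y 1) ∈ X := by
        by_cases hu : ∃ y, y ∉ s
        · obtain ⟨y, hy⟩ := hu
          have e : x ≠ y := fun e => hy (e ▸ hx)
          have := mul_mem hs (inv_mem (P _ hs el_pow_p (el β fun z => ind 2 s ((swap x y)⁻¹ z)) el_mem el_pow_p
            (by rw [← δ_conj_el, card_support_conj])))
          rw [← el_sub] at this
          refine ⟨x, y, e, ?_⟩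
          convert this using 2; funext z
          simp only [swap_inv, swap_apply_def, ind, Pi.sub_apply, Pi.single_apply]; split_ifs <;> simp_all
        · push Not at hu
          obtain ⟨y, h4, -⟩ := exists_third hα x x
          obtain ⟨c, -, hc⟩ := hA.syl.exists_conj (L := zpowers (swap x y)) le_top (PElt.pgroup ⟨1, by simp [sq]⟩)
          have h5 := hc _ (mem_zpowers _)
          rw [← swap_apply_apply] at h5
          have h6 : c x ≠ c y := c.injective.ne h4.symm
          generalize c x = x, c y = y at h5 h6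
          obtain ⟨z, h7, h8⟩ := exists_third hα x y
          have h9 := P _ hs el_pow_p (mon β (swap x y) 1 fun u => if u = x ∨ u = y then 0 else 1) ⟨_, h5, _, rfl⟩ (by
            ext (⟨u, t⟩ | c)
            · simp only [sq, Perm.mul_apply, mon_inl, swap_apply_def]
              split_ifs <;> simp_all [add_assoc]; rfl
            · rfl) (by
            congr 1; ext (⟨u, t⟩ | c)
            · simp only [mem_support, el_inl, mon_inl, ind, swap_apply_def, hu]
              split_ifs <;> simp_all [eq_comm]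
            · simp)
          have := mul_mem h9 (hX.conj inf_le_right (inv_mem h9) ⟨el_mem, el_pair_mem (x := x) (y := z) 1⟩)
          rw [← mul_assoc, ← mul_assoc, mon_conj_el, ← el_sub] at this
          refine ⟨y, x, h6.symm, ?_⟩
          convert this using 2; funext u
          simp only [swap_inv, swap_apply_def, Pi.sub_apply, Pi.single_apply]; split_ifs <;> simp_all
      intro w hw
      have h6 : el β (∑ z, (sg z (w z) - sg x (w z))) ∈ X := el_sum_mem _ fun z _ => by
        by_cases e : z = x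
        · rw [e, sub_self, el_zero]; exact one_mem _
        · rcases zmod_two_cases (w z) with e' | e' <;> rw [e']
          · simpa [el_zero] using one_mem X
          · exact P _ h5 el_pow_p _ el_mem el_pow_p (by rw [h3 _ _ h4, h3 _ _ e])
      rw [Finset.sum_sub_distrib, Finset.univ_sum_single, show ∑ z, sg x (w z) = sg x (∑ z, w z) from
        (map_sum (AddMonoidHom.single (fun _ => ZMod 2) x) _ _).symm, el_sub] at h6
      rcases zmod_two_cases (∑ z, w z) with e' | e' <;> rw [e'] at h6
      · simpa [el_zero] using h6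
      · have := mem_alternatingGroup.1 ((mul_mem_cancel_left hw).1 (hX.1 h6).2)
        rw [map_inv, sign_el_single, sign_add_two] at this
        exact absurd this (by decide)
    · have h3 : ∀ (x : α) (c : ZMod p), c ≠ 0 → (el β (sg x c)).support.card = 1 * p := fun x c h => by
        rw [card_support_el]; congr 1; refine Eq.trans (congrArg _ ?_) (Finset.card_singleton x); ext z
        by_cases e : z = x <;> simp [e, h]
      have h4 := P _ hs el_pow_p (el β (ind p s + sg x 1)) el_mem el_pow_p (by
        rw [card_support_el, card_support_el]; congr 2; ext z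
        by_cases e : z = x
        · simp only [Finset.mem_filter, Finset.mem_univ, true_and]
          simpa [e, ind, hx, one_add_one_eq_two] using Ring.two_ne_zero (R := ZMod p) (by rwa [ZMod.ringChar_zmod_n])
        · simp [e])
      rw [el_add, mul_mem_cancel_left hs] at h4
      intro w _
      rw [← Finset.univ_sum_single w]
      refine el_sum_mem _ fun z _ => ?_
      by_cases e : w z = 0
      · simpa [e, el_zero] using one_mem X
      · exact P _ h4 el_pow_p _ el_mem el_pow_p (by rw [h3 _ _ one_ne_zero, h3 _ _ e])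
  rintro _ ⟨⟨σ, hσ, v, rfl⟩, h1⟩
  have h2 : δ p β σ ∈ X := mem_comap.1 (hA.gen.trans ((closure_le _).2 fun τ hτ => by
    have e : δ p β τ ^ p = 1 := by rw [← map_pow, hτ.2, map_one]
    obtain ⟨s, hs⟩ := exists_ind hβ e
    have e' := hs.trans (card_support_ind (β := β) s).symm
    obtain ⟨k, hk, h3⟩ := conj_alt hα hβ e el_pow_p e'
    exact P _ (hE _ (h3 ▸ Normal.conj_mem inferInstance _ (sign_δ_of ⟨1, by simpa using hτ.2⟩) k)) el_pow_p _
      (δ_mem hτ.1) e e'.symm) hσ)
  rw [mon_one_eq] at h1 ⊢
  exact mul_mem h2 (hE _ ((mul_mem_cancel_left (mem_inf.1 (hX.1 h2)).2).1 h1))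

end H23.Wr
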