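import Cfsg.Agent.H23.Wr2
import Cfsg.Agent.H29.Sym2
import Cfsg.Agent.H9.InvCount

/-! Overgroups of Sylow `2`-subgroups in alternating and symmetric groups: `exists_model`, `three_of_swaps`,
`alt_le_one` (degree `2 ^ k + 1`), `Two` (two independent overgroups), `uniq_iff`. -/

set_option autoImplicit false
set_option linter.unusedSectionVars false

namespace H23.Wr

open Subgroup Equiv Equiv.Perm Sum H20 MulAction H29
open scoped Pointwise

variable {α β Ω : Type*} [Fintype α] [DecidableEq α] [Fintype β] [DecidableEq β] [Fintype Ω] [DecidableEq Ω]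
  {A : Subgroup (Perm α)}

theorem exists_model {p : ℕ} [Fact p.Prime] {R : Subgroup (Perm Ω)} (hR : IsPGroup p R) (hβ : Fintype.card β < p)
    (hA : Good p A) (hc : Fintype.card Ω = Fintype.card (α × ZMod p ⊕ β)) :
    ∃ e : Ω ≃ α × ZMod p ⊕ β, ∀ g ∈ R, e.permCongr g ∈ T p β A := by
  let e := Fintype.equivOfCardEq hc
  obtain ⟨c, -, h⟩ := (hA.T hβ).syl.exists_conj le_top (hR.map e.permCongrHom.toMonoidHom)
  exact ⟨e.trans c, fun g hg => by convert h _ ⟨g, hg, rfl⟩ using 1; ext; simp⟩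

theorem el_swap (x : α) (z : ZMod 2) : el β (sg x 1) = swap (inl (x, z)) (inl (x, z + 1)) := by
  ext (⟨y, t⟩ | c)
  · by_cases h : y = x
    · subst h
      rcases zmod_two_cases z with rfl | rfl <;> rcases zmod_two_cases t with rfl | rfl <;>
        simp [show (1 + 1 : ZMod 2) = 0 from rfl]
    · simp [swap_apply_def, h]
  · simp [swap_apply_def]

theorem el_pair_swap (x y : α) (z t : ZMod 2) :
    el β (sg x 1 - sg y 1) = swap (inl (x, z)) (inl (x, z + 1)) * swap (inl (y, t)) (inl (y, t + 1)) := by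
  rw [el_sub, el_swap x z, el_swap y t, swap_inv]

theorem three_of_swaps {K : Subgroup (Perm Ω)} {x y y' z w s s' : Ω} (h1 : [x, y, y', z, w].Nodup)
    (h2 : [x, y, y', s, s'].Nodup) (h3 : Commute (swap z w) (swap s s')) (hu : swap x y * swap z w ∈ K)
    (hv : swap y y' * swap s s' ∈ K) : ∃ c ∈ K, c.IsThreeCycle := by
  have c1 : Commute (swap z w) (swap y y') := (disjoint_swap_swap (by grind)).commute
  have c2 : Commute (swap x y * swap y y') (swap z w * swap s s') :=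
    (((disjoint_swap_swap (by grind)).commute).mul_right (disjoint_swap_swap (by grind)).commute).mul_left
      (c1.symm.mul_right (disjoint_swap_swap (by grind)).commute)
  refine ⟨_, pow_mem (mul_mem hu hv) 2, ?_⟩
  rw [c1.mul_mul_mul_comm, c2.mul_pow, h3.mul_pow, sq, sq, sq, swap_mul_self, swap_mul_self, mul_one, mul_one,
    swap_comm x y]
  exact (isThreeCycle_swap_mul_swap_same (by grind) (by grind) (by grind)).isThreeCycle_sq

theorem prim_of {K : Subgroup (Perm Ω)} {x : Ω} (h1 : ∀ a b, a ≠ x → b ≠ x → ∃ g ∈ K, g x = x ∧ g a = b)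
    (h2 : ∃ g ∈ K, g x ≠ x) : IsMultiplyPretransitive K Ω 2 := by
  have h3 : ∀ a b, a ≠ b → ∀ d ≠ x, ∃ g ∈ K, g a = x ∧ g b = d := fun a b h d hd => by
    obtain ⟨g, hg, e⟩ : ∃ g ∈ K, g a = x := by
      by_cases e : a = x
      · exact ⟨1, one_mem _, e⟩
      · obtain ⟨g, hg, e'⟩ := h2
        obtain ⟨k, hk, -, e2⟩ := h1 a _ e e'
        exact ⟨g⁻¹ * k, mul_mem (inv_mem hg) hk, by simp [e2]⟩
    obtain ⟨k, hk, e1, e2⟩ := h1 (g b) d (e ▸ g.injective.ne h.symm) hd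
    exact ⟨k * g, mul_mem hk hg, by simp [e, e1], e2⟩
  refine is_two_pretransitive_iff.2 fun {a b c d} h h' => ?_
  obtain ⟨g, -, e⟩ := h2
  obtain ⟨k, hk, e1, e2⟩ := h3 a b h _ e
  obtain ⟨l, hl, e3, e4⟩ := h3 c d h' _ e
  exact ⟨⟨l⁻¹ * k, mul_mem (inv_mem hl) hk⟩, by simp [e1, ← e3], by simp [e2, ← e4]⟩

theorem exists_three [Subsingleton β] (hα : 4 ≤ Fintype.card α) {K : Subgroup (Perm (α × ZMod 2 ⊕ β))}
    (hE : ∀ x y : α, el β (sg x 1 - sg y 1) ∈ K) {g : Perm (α × ZMod 2 ⊕ β)} (hg : g ∈ K) {x : α} {z : ZMod 2} {c : β}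
    (h : g (inl (x, z)) = inr c) : ∃ c ∈ K, c.IsThreeCycle := by
  have h1 : ∀ y t, (y, t) ≠ (x, z) → ∃ q, g (inl (y, t)) = inl q := fun y t e => by
    rcases h' : g (inl (y, t)) with q | c'
    · exact ⟨q, rfl⟩
    · exact absurd (inl.inj (g.injective (h'.trans (Subsingleton.elim c c' ▸ h.symm)))) e
  obtain ⟨⟨y, t⟩, hy⟩ := h1 x (z + 1) (by simp)
  obtain ⟨j, h2, h3⟩ := exists_third (by omega) x (Sum.elim Prod.fst (fun _ => x) (g⁻¹ (inl (y, t + 1))))
  obtain ⟨⟨u, r⟩, hu⟩ := h1 j 0 (by simp [h2])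
  obtain ⟨⟨v, s⟩, hv⟩ := h1 j (0 + 1) (by simp [h2])
  obtain ⟨l, hl⟩ := exists_notMem_of_lt {y, u, v} (Finset.card_le_three.trans_lt hα)
  simp only [Finset.mem_insert, Finset.mem_singleton, not_or] at hl
  have h4 := mul_mem (mul_mem hg (hE x j)) (inv_mem hg)
  rw [el_pair_swap x j z 0, ← MulAut.conj_apply, map_mul, MulAut.conj_apply, MulAut.conj_apply, ← swap_apply_apply,
    ← swap_apply_apply, h, hy, hu, hv] at h4
  have h5 : ∀ r, g (inl (j, r)) ≠ inl (y, t + 1) := fun r e => h3 (by rw [← e]; simp)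
  refine three_of_swaps (y' := inl (y, t + 1)) (s := inl (l, 0)) (s' := inl (l, 0 + 1)) ?_ ?_
    (disjoint_swap_swap ?_).commute h4 (by rw [← el_pair_swap]; exact hE y l)
  · have a1 := h5 0
    have a2 := h5 (0 + 1)
    have a3 : g (inl (x, z + 1)) ≠ g (inl (j, 0)) := by simp [h2.symm]
    have a4 : g (inl (x, z + 1)) ≠ g (inl (j, 0 + 1)) := by simp [h2.symm]
    have a5 : g (inl (j, 0)) ≠ g (inl (j, 0 + 1)) := by simp
    simp only [hy, hu, hv] at a1 a2 a3 a4 a5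
    have a6 : (inl (y, t) : α × ZMod 2 ⊕ β) ≠ inl (y, t + 1) := by simp
    grind
  · simp [Ne.symm hl.1]
  · have : g (inl (j, 0)) ≠ g (inl (j, 0 + 1)) := by simp
    rw [hu, hv] at this
    simp [this, Ne.symm hl.2.1, Ne.symm hl.2.2]

theorem Good.trans {p : ℕ} [hp : Fact p.Prime] (hA : Good p A) {k : ℕ} (h : Fintype.card α = p ^ k) (x y : α) :
    ∃ σ ∈ A, σ x = y := by
  have h1 : (stabilizer (Perm α) x).index = p ^ k := by rw [index_stab, h]
  have h2 : p ^ k ∣ (stabilizer (Perm α) x).relIndex A := by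
    refine (Nat.Coprime.pow_left _ (hp.out.coprime_iff_not_dvd.2 hA.syl.not_dvd)).dvd_of_dvd_mul_right ?_
    rw [relIndex_top_right, ← inf_relIndex_right, relIndex_mul_index inf_le_right, ← h1]
    exact index_dvd_of_le inf_le_left
  have h3 : (orbit A x).ncard = (stabilizer (Perm α) x).relIndex A := (index_stabilizer A x).symm
  have h4 := Set.eq_of_subset_of_ncard_le (Set.subset_univ (orbit A x)) (by
    rw [Set.ncard_univ, Nat.card_eq_fintype_card, h, h3]
    exact Nat.le_of_dvd (Nat.pos_of_ne_zero FiniteIndex.index_ne_zero) h2)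
  obtain ⟨σ, e⟩ : y ∈ orbit A x := h4 ▸ Set.mem_univ y
  exact ⟨σ, σ.2, e⟩

theorem alt_le_one (hA : Good 2 A) {k : ℕ} (hk : Fintype.card α = 2 ^ (k + 1)) {K : Subgroup (Perm (α × ZMod 2 ⊕ Fin 1))}
    (h1 : T 2 _ A ⊓ alternatingGroup _ ≤ K) (h2 : ∃ g ∈ K, g (inr 0) ≠ inr 0) : alternatingGroup _ ≤ K := by
  have h3 : IsMultiplyPretransitive K _ 2 := prim_of (fun a b ha hb => by
    rcases a with ⟨x, z⟩ | c
    swap; exact absurd (by rw [Subsingleton.elim c 0]) ha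
    rcases b with ⟨y, t⟩ | c
    swap; exact absurd (by rw [Subsingleton.elim c 0]) hb
    obtain ⟨σ, h4, rfl⟩ := hA.trans hk x y
    obtain ⟨w, hw⟩ := Fintype.exists_ne_of_one_lt_card (hk ▸ Nat.one_lt_pow (by omega) one_lt_two) x
    exact ⟨δ 2 _ σ * el _ (sg x (t - z) - sg w (t - z)), h1 (mul_mem ⟨δ_mem h4, sign_δ_of (pElt_of_mem hA.syl.pgroup h4)⟩
      ⟨el_mem, el_pair_mem _⟩), rfl, by simp [hw.symm]⟩) h2
  rcases k with _ | k
  · haveI := alternatingGroup.isSimpleGroup (α := α × ZMod 2 ⊕ Fin 1) (by simp [hk])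
    haveI := isPretransitive_of_is_two_pretransitive (G := K) (α := α × ZMod 2 ⊕ Fin 1)
    haveI : Fact (Nat.Prime 5) := ⟨by decide⟩
    obtain ⟨⟨c, hc⟩, h5⟩ := exists_prime_orderOf_dvd_card' (G := K) 5 (by
      have := (stabilizer K (inr 0 : α × ZMod 2 ⊕ Fin 1)).index_dvd_card
      rwa [index_stabilizer_of_transitive, Nat.card_eq_fintype_card, Fintype.card_sum, Fintype.card_prod, hk] at this)
    rw [orderOf_mk] at h5
    refine subgroupOf_eq_top.1 (by_contra fun hn => ?_)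
    have h6 := H9.card_dvd_factorial_index hn
    have h7 := (K.subgroupOf (alternatingGroup _)).index_mul_card
    have h8 : 5 ∣ Nat.card (K.subgroupOf (alternatingGroup _)) := by
      have := (K.subgroupOf (alternatingGroup _)).orderOf_dvd_natCard (x := ⟨c, sign_of_pElt (p := 5) (by decide)
        ⟨1, orderOf_dvd_iff_pow_eq_one.1 h5.dvd⟩⟩) hc
      rw [← orderOf_coe] at this
      exact h5 ▸ this
    have h9 : ¬ 2 ∣ (K.subgroupOf (alternatingGroup _)).index := fun h =>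
      (syl_alt (by simp) hA).not_dvd (h.trans (relIndex_dvd_of_le_left _ h1))
    have h60 : Nat.card (alternatingGroup (α × ZMod 2 ⊕ Fin 1)) = 60 := by
      haveI : Nontrivial (α × ZMod 2 ⊕ Fin 1) := Fintype.one_lt_card_iff_nontrivial.1 (by simp [hk])
      rw [nat_card_alternatingGroup, Nat.card_eq_fintype_card, Fintype.card_sum, Fintype.card_prod, hk]
      simp [Nat.factorial]
    rw [h60] at h6 h7
    obtain ⟨a, ha⟩ := h8
    rw [ha] at h7
    generalize (K.subgroupOf (alternatingGroup _)).index = i at *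
    have : i ≤ 12 := by rcases a with _ | a <;> nlinarith
    interval_cases i <;> first | omega | simp [Nat.factorial] at h6
  · obtain ⟨g, hg, e⟩ := h2
    rcases h : g (inr 0) with ⟨x, z⟩ | c
    · obtain ⟨c, h4, h5⟩ := exists_three (by rw [hk, pow_succ, pow_succ]; have := Nat.one_le_two_pow (n := k); omega)
        (fun x y => h1 ⟨el_mem, el_pair_mem 1⟩) (inv_mem hg) (x := x) (z := z) (c := 0) (by simp [← h])
      exact alternatingGroup_le_of_isPreprimitive_of_isThreeCycle_mem (isPreprimitive_of_is_two_pretransitive h3) h5 h4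
    · exact absurd (by rw [h, Subsingleton.elim c 0]) e

/-- `R` has two proper overgroups which together generate the alternating group -/
def Two (R : Subgroup (Perm Ω)) : Prop := ∃ H₁ H₂ : Subgroup (Perm Ω), R ≤ H₁ ∧ R ≤ H₂ ∧ ¬ alternatingGroup Ω ≤ H₁ ∧
  (∃ g ∈ alternatingGroup Ω, g ∉ H₂) ∧ (∃ g ∈ H₂ ⊓ alternatingGroup Ω, g ∉ H₁) ∧
  ∀ K, H₁ ⊓ alternatingGroup Ω ≤ K → ¬ K ≤ H₁ → alternatingGroup Ω ≤ K

theorem swap_swap_mem {a b c d : Ω} (h : a ≠ b) (h' : c ≠ d) : swap a b * swap c d ∈ alternatingGroup Ω := by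
  rw [mem_alternatingGroup, map_mul, sign_swap h, sign_swap h']; simp

theorem two_odd (hA : Good 2 A) (h2 : 2 ≤ Fintype.card α) (hk : ∀ k, Fintype.card α * 2 ≠ 2 ^ k) :
    Two (T 2 (Fin 1) A) := by
  obtain ⟨⟨x, z⟩, ⟨y, t⟩, h⟩ : ∃ q r : α × ZMod 2, inl r ∉ orbit (T 2 (Fin 1) A) (inl q : α × ZMod 2 ⊕ Fin 1) := by
    by_contra h
    push Not at h
    obtain ⟨x⟩ := Fintype.card_pos_iff.1 (by omega : 0 < Fintype.card α)
    obtain ⟨k, e⟩ := (hA.T (β := Fin 1) (by simp)).syl.pgroup.card_orbit (inl (x, 0) : α × ZMod 2 ⊕ Fin 1)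
    have : orbit (T 2 (Fin 1) A) (inl (x, 0) : α × ZMod 2 ⊕ Fin 1) = Set.range inl :=
      Set.Subset.antisymm (by rintro _ ⟨⟨_, σ, h, v, rfl⟩, rfl⟩; exact ⟨_, rfl⟩) (by rintro _ ⟨q, rfl⟩; exact h _ q)
    rw [this, Nat.card_range_of_injective inl_injective, Nat.card_eq_fintype_card, Fintype.card_prod, ZMod.card] at e
    exact hk k e
  set O := orbit (T 2 (Fin 1) A) (inl (x, z) : α × ZMod 2 ⊕ Fin 1)
  have h3 : inr 0 ∉ O := by rintro ⟨⟨_, σ, h, v, rfl⟩, e⟩; simp [Subgroup.smul_def] at e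
  have h4 : inl (x, z) ∈ O := mem_orbit_self _
  have h5 : inl (x, z + 1) ∈ O := ⟨⟨el _ (sg x 1), el_mem⟩, by simp [Subgroup.smul_def]⟩
  have h6 : x ≠ y := by
    rintro rfl
    rcases zmod_two_cases (t - z) with e | e
    · exact h (sub_eq_zero.1 e ▸ h4)
    · exact h (sub_eq_iff_eq_add'.1 e ▸ h5)
  have h7 : ∀ {g : Perm (α × ZMod 2 ⊕ Fin 1)}, g ∈ stabilizer (Perm _) O ↔ ∀ b, g b ∈ O ↔ b ∈ O := mem_stabilizer_set
  have h8 := swap_swap_mem (Ω := α × ZMod 2 ⊕ Fin 1) (a := inr 0) (b := inl (y, t)) (c := inl (x, z))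
    (d := inl (x, z + 1)) (by simp) (by simp)
  have h9 : swap (inr 0) (inl (y, t)) * swap (inl (x, z)) (inl (x, z + 1)) ∉
      stabilizer (Perm (α × ZMod 2 ⊕ Fin 1)) (inr 0 : α × ZMod 2 ⊕ Fin 1) := by simp [swap_apply_def]
  refine ⟨stabilizer _ (inr 0), stabilizer _ O, by rintro _ ⟨σ, -, v, rfl⟩; rfl, fun g hg => smul_orbit (⟨g, hg⟩ : T 2 _ A) _,
    fun h => h9 (h h8), ⟨_, swap_swap_mem (a := inr 0) (b := inl (x, z)) (c := inl (y, t)) (d := inl (y, t + 1))
      (by simp) (by simp), fun e => h3 ((h7.1 e _).1 (by simpa [swap_apply_def] using h4))⟩,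
    ⟨_, ⟨h7.2 fun b => ?_, h8⟩, h9⟩, fun K hK hn => ?_⟩
  · simp only [Perm.mul_apply, swap_apply_def]
    split_ifs <;> simp_all
  · refine alternatingGroup_le_of_isPreprimitive_of_isThreeCycle_mem (isPreprimitive_of_is_two_pretransitive
      (prim_of (x := inr 0) (fun a b ha hb => ?_) (by simpa [SetLike.le_def] using hn)))
      (isThreeCycle_swap_mul_swap_same (a := inl (x, z)) (b := inl (x, z + 1)) (c := inl (y, t)) (by simp) (by simp [h6])
        (by simp [h6])) (hK ⟨by simp [swap_apply_def], swap_swap_mem (by simp) (by simp [h6])⟩)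
    by_cases e : a = b
    · exact ⟨1, one_mem _, rfl, e⟩
    obtain ⟨c, hc⟩ := exists_notMem_of_lt {a, b, inr 0} (Finset.card_le_three.trans_lt (by simp; omega))
    simp only [Finset.mem_insert, Finset.mem_singleton, not_or] at hc
    have : (swap b c * swap a c) (inr 0) = inr 0 := by simp [swap_apply_def, ha.symm, hb.symm, Ne.symm hc.2.2]
    exact ⟨_, hK ⟨this, swap_swap_mem (Ne.symm hc.2.1) (Ne.symm hc.1)⟩, this, by simp⟩

theorem three_not_mem {x y z : α} (h1 : x ≠ y) (h2 : x ≠ z) (h3 : y ≠ z) {ι : Type*} (f : α → ι) (h : f x ≠ f z) :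
    swap (inl (x, (0 : ZMod 2))) (inl (y, 0)) * swap (inl (x, 0)) (inl (z, 0)) ∉
      blockStab (Sum.elim (fun q => f q.1) (Fin.elim0 : Fin 0 → ι)) := fun e => by
  have := (e (inl (x, 0)) (inl (x, 1))).1 rfl
  simp [swap_apply_def, h2.symm, h3.symm, h.symm] at this

theorem T_le_blockStab {ι : Type*} {f : α → ι} (h : A ≤ blockStab f) :
    T 2 (Fin 0) A ≤ blockStab (Sum.elim (fun q => f q.1) (Fin.elim0 : Fin 0 → ι)) := by
  rintro _ ⟨σ, hσ, v, rfl⟩ (⟨x, z⟩ | c) (⟨y, t⟩ | d)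
  · exact h hσ x y
  · exact d.elim0
  · exact c.elim0
  · exact c.elim0

theorem two_two {m : ℕ} {A : Subgroup (Perm (Fin m))} (hA : Good 2 A) (h5 : 5 ≤ m) (ho : ¬ 2 ∣ m) : Two (T 2 (Fin 0) A) := by
  obtain ⟨x, hx⟩ := hA.syl.pgroup.nonempty_fixed_point_of_prime_not_dvd_card (Fin m) (by simpa using ho)
  obtain ⟨y, h1, -⟩ := exists_third (by simp; omega) x x
  obtain ⟨z, h2, h3⟩ := exists_third (by simp; omega) x y
  obtain ⟨w, hw⟩ := exists_notMem_of_lt {x, y, z} (Finset.card_le_three.trans_lt (by simp; omega))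
  simp only [Finset.mem_insert, Finset.mem_singleton, not_or] at hw
  have h4 := three_not_mem h3.symm (Ne.symm hw.2.1) (Ne.symm hw.2.2) id (Ne.symm hw.2.1)
  have h6 := swap_swap_mem (Ω := Fin m × ZMod 2 ⊕ Fin 0) (a := inl (y, 0)) (b := inl (z, 0)) (c := inl (y, 0))
    (d := inl (w, 0)) (by simp [h3.symm]) (by simp [Ne.symm hw.2.1])
  refine ⟨_, blockStab (Sum.elim (fun q => decide (q.1 = x)) Fin.elim0), T_le_blockStab fun σ _ a b => σ.injective.eq_iff.symm,
    T_le_blockStab (f := fun a => decide (a = x)) fun σ hσ a b => ?_, fun h => h4 (h h6),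
    ⟨_, swap_swap_mem (by simp [h1.symm]) (by simp [h2.symm]), three_not_mem h1.symm h2.symm h3.symm
      (fun a => decide (a = x)) (by simp [h2])⟩, ⟨_, ⟨mem_blockStab_of_fix fun a => ?_, h6⟩, h4⟩,
    fun K => alt_le_of_blockStab (a := 2) (Equiv.sumEmpty _ _) (by rintro (q | c); rfl; exact c.elim0) le_rfl (by omega)
      (by omega)⟩
  · have : ∀ a, σ a = x ↔ a = x := fun a => by
      rw [← σ.injective.eq_iff (a := a), show σ x = x from hx ⟨σ, hσ⟩]
    simp [this]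
  · simp only [Perm.mul_apply, swap_apply_def]
    split_ifs <;> simp_all

theorem two_four {m : ℕ} {A : Subgroup (Perm (Fin m))} (h2 : 2 ≤ m) : Two (T 2 (Fin 0) (T 2 (Fin 0) A)) := by
  obtain ⟨x, y, h⟩ := Fintype.exists_pair_of_one_lt_card (α := Fin m) (by simp; omega)
  let f : Fin m × ZMod 2 ⊕ Fin 0 → Fin m := Sum.elim (fun q => id q.1) Fin.elim0
  have h3 : δ 2 (Fin 0) (swap (inl (x, (0 : ZMod 2))) (inl (y, 0))) ∉
      blockStab (Sum.elim (fun q => f q.1) Fin.elim0) := fun e => by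
    simpa [f, swap_apply_def, h.symm] using (e (inl (inl (x, 0), 0)) (inl (inl (x, 1), 0))).1 rfl
  have h4 : δ 2 (Fin 0) (swap (inl (x, (0 : ZMod 2))) (inl (y, 0) : Fin m × ZMod 2 ⊕ Fin 0)) ∈ alternatingGroup _ :=
    sign_δ_of ⟨1, by simp [sq]⟩
  refine ⟨_, blockStab (Sum.elim (fun q => id q.1) Fin.elim0), T_le_blockStab (f := f) (T_le_blockStab fun σ _ a b =>
    σ.injective.eq_iff.symm), T_le_blockStab fun σ _ a b => σ.injective.eq_iff.symm, fun h => h3 (h h4),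
    ⟨_, swap_swap_mem (by simp) (by simp [h]), three_not_mem (x := inl (x, 0)) (y := inl (x, 1)) (z := inl (y, 0))
      (by simp) (by simp [h]) (by simp [h]) id (by simp [h])⟩,
    ⟨_, ⟨T_le_blockStab (A := ⊤) (fun σ _ a b => σ.injective.eq_iff.symm) (δ_mem (mem_top _)), h4⟩, h3⟩,
    fun K => alt_le_of_blockStab (a := 2 * 2) ((Equiv.sumEmpty _ _).trans (((Equiv.sumEmpty _ _).prodCongr
      (Equiv.refl _)).trans ((Equiv.prodAssoc _ _ _).trans ((Equiv.refl _).prodCongr finProdFinEquiv))))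
      (by rintro (⟨q | c, z⟩ | c); rfl; exact c.elim0; exact c.elim0) (by omega) h2 (by omega)⟩

section
variable {G : Type*} [Group G] [Finite G] {φ : G →* Perm Ω} (hφ : Function.Injective φ)
  (hA : alternatingGroup Ω ≤ φ.range) (R : Sylow 2 G)
include hφ hA

theorem eq_top_of_alt {K : Subgroup G} (h1 : (R : Subgroup G) ≤ K) (h2 : alternatingGroup Ω ≤ K.map φ) : K = ⊤ := by
  have h3 : K.index ∣ (alternatingGroup Ω).index := (index_dvd_of_le (H := (alternatingGroup Ω).comap φ)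
    ((comap_mono h2).trans (comap_map_eq_self_of_injective hφ K).le)).trans (by
      rw [index_comap]; exact relIndex_dvd_index_of_normal _ _)
  have h4 : ¬ 2 ∣ K.index := fun h => R.not_dvd_index (h.trans (index_dvd_of_le h1))
  rcases subsingleton_or_nontrivial Ω with _ | _
  · rwa [alternatingGroup.index_eq_one, Nat.dvd_one, index_eq_one] at h3
  · rw [alternatingGroup.index_eq_two] at h3
    exact index_eq_one.1 (((Nat.dvd_prime Nat.prime_two).1 h3).resolve_right fun e => h4 e.symm.dvd)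

theorem not_uniq {S : Subgroup (Perm Ω)} (h : ∀ g ∈ R, φ g ∈ S) (h2 : Two S) :
    ¬ ∃! M : Subgroup G, IsCoatom M ∧ (R : Subgroup G) ≤ M := by
  rintro ⟨M, ⟨h3, h4⟩, hu⟩
  obtain ⟨H₁, H₂, a1, a2, a3, ⟨g, a4, a5⟩, ⟨k, a6, a7⟩, a8⟩ := h2
  have key : ∀ H, S ≤ H → ¬ alternatingGroup Ω ≤ H → H ⊓ alternatingGroup Ω ≤ M.map φ := fun H b1 b2 x hx => by
    obtain ⟨x, rfl⟩ := hA hx.2
    obtain ⟨N, b3, b4⟩ := (eq_top_or_exists_le_coatom (H.comap φ)).resolve_left fun e => b2 (hA.trans (by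
      rw [MonoidHom.range_eq_map, ← e]; exact map_comap_le _ _))
    exact mem_map_of_mem _ (hu N ⟨b3, fun y hy => b4 (b1 (h y hy))⟩ ▸ b4 hx.1)
  exact h3.1 (eq_top_of_alt hφ hA R h4 (a8 _ (key _ a1 a3) fun e => a7 (e (key _ a2 (fun e => a5 (e a4)) a6))))

theorem uniq_iff (h5 : 5 ≤ Fintype.card Ω) (h6 : Fintype.card Ω ≠ 6) :
    (∃! M : Subgroup G, IsCoatom M ∧ (R : Subgroup G) ≤ M) ↔ ∃ k, 2 ≤ k ∧ Fintype.card Ω = 2 ^ k + 1 := by
  have key : ∀ {α β : Type} [Fintype α] [DecidableEq α] [Fintype β] [DecidableEq β] {A : Subgroup (Perm α)},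
      Good 2 A → Fintype.card β < 2 → Fintype.card Ω = Fintype.card α * 2 + Fintype.card β →
      ∃ ψ : G →* Perm (α × ZMod 2 ⊕ β), Function.Injective ψ ∧ alternatingGroup _ ≤ ψ.range ∧
        ∀ g ∈ R, ψ g ∈ T 2 β A := fun hA' hβ hc => by
    obtain ⟨e, he⟩ := exists_model (R.2.map φ) hβ hA' (by simpa using hc)
    refine ⟨e.permCongrHom.toMonoidHom.comp φ, e.permCongrHom.injective.comp hφ, fun σ hσ => ?_,
      fun g hg => he _ ⟨g, hg, rfl⟩⟩
    obtain ⟨g, hg⟩ := hA (x := e.symm.permCongr σ) (by simpa using hσ)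
    exact ⟨g, by ext; simp [hg]⟩
  set n := Fintype.card Ω
  refine ⟨fun h => by_contra fun hn => ?_, fun ⟨k, h1, h2⟩ => ?_⟩
  · by_cases e4 : n % 4 = 0
    · obtain ⟨A, hA'⟩ := exists_good 2 (n / 4) (Fin (n / 4)) (by simp)
      obtain ⟨ψ, h1, h2, h3⟩ := key (β := Fin 0) (hA'.T (β := Fin 0) (by simp)) (by simp) (by simp; omega)
      exact not_uniq h1 h2 R h3 (two_four (by omega)) h
    obtain ⟨A, hA'⟩ := exists_good 2 (n / 2) (Fin (n / 2)) (by simp)
    by_cases e2 : n % 2 = 0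
    · obtain ⟨ψ, h1, h2, h3⟩ := key (β := Fin 0) hA' (by simp) (by simp; omega)
      exact not_uniq h1 h2 R h3 (two_two hA' (by omega) (by omega)) h
    · obtain ⟨ψ, h1, h2, h3⟩ := key (β := Fin 1) hA' (by simp) (by simp; omega)
      refine not_uniq h1 h2 R h3 (two_odd hA' (by simp; omega) fun k hk => hn ⟨k, ?_, by simp at hk; omega⟩) h
      by_contra h'
      have : k = 0 ∨ k = 1 := by omega
      rcases this with rfl | rfl <;> simp at hk <;> omega
  · obtain ⟨k, rfl⟩ := Nat.exists_eq_add_of_le' h1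
    obtain ⟨A, hA'⟩ := exists_good 2 (2 ^ (k + 1)) (Fin (2 ^ (k + 1))) (by simp)
    obtain ⟨ψ, h1, h2, h3⟩ := key (β := Fin 1) hA' (by simp) (by simp [h2, pow_succ])
    have h4 : T 2 (Fin 1) A ⊓ alternatingGroup _ ≤ (R : Subgroup G).map ψ := fun x hx => by
      obtain ⟨x, rfl⟩ := h2 hx.2
      exact mem_map_of_mem _ (R.3 ((hA'.T (by simp)).syl.pgroup.comap_of_injective ψ h1) h3 ▸ hx.1)
    set Z : Fin (2 ^ (k + 1)) × ZMod 2 ⊕ Fin 1 := inr 0 with hZ
    have h7 : ∀ K : Subgroup G, (R : Subgroup G) ≤ K → K ≠ ⊤ → K ≤ (stabilizer _ Z).comap ψ := fun K a1 a2 g hg =>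
      by_contra fun e => a2 (eq_top_of_alt h1 h2 R a1 (alt_le_one hA' (k := k) (by simp) (h4.trans (map_mono a1))
        ⟨_, mem_map_of_mem _ hg, fun e' => e (mem_stabilizer_iff.2 e')⟩))
    have h8 : (stabilizer _ Z).comap ψ ≠ ⊤ := fun e => by
      obtain ⟨g, hg⟩ := h2 (swap_swap_mem (a := inr 0) (b := inl (0, 0)) (c := inr 0) (d := inl (0, 1)) (by simp) (by simp))
      have : ψ g ∈ stabilizer _ Z := e.ge (mem_top g)
      simp [hg, hZ, swap_apply_def] at this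
    have h9 : (R : Subgroup G) ≤ (stabilizer _ Z).comap ψ := fun g hg => by
      obtain ⟨σ, -, v, e⟩ := h3 g hg
      rw [mem_comap, e]; rfl
    exact ⟨_, ⟨⟨h8, fun K hK => by_contra fun e => hK.not_ge (h7 K (h9.trans hK.le) e)⟩, h9⟩,
      fun M hM => (hM.1.le_iff.1 (h7 M hM.2 hM.1.1)).resolve_left h8 |>.symm⟩

end

end H23.Wr
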